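import Mathlib
import Cfsg.Agent.Lib.Blocks.CentralKernel
import Cfsg.Agent.Lib.Blocks.PairDefectZero
import Cfsg.Agent.Lib.BrauerFeit.RegularPart

/-!
# The scaled degree of the block part of a character and its transfer along the Brauer map

For a block `E` of `K` with `p ^ k` the least `p`-part of a degree in `E` and a character `f` of
`K`, `blockVal p E f` is the degree of the `E`-part of `f` divided by `p ^ k`.  If `Q` is a defect
group of `E` and `(Q, e)` a pair of `E`, this number is a unit at `M` exactly when the one for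
`e` and the restriction of `f` to the centralizer of `Q` is.
-/

set_option autoImplicit false

namespace Cfsg.Agent.Lib.Contrib

open Cfsg MonoidAlgebra
open Cfsg.Agent.Lib
open Cfsg.Agent.Lib.Blocks
open Cfsg.Agent.Lib.Blocks.PairDefectZero (zOf)
open Cfsg.Agent.Lib.BrauerMap (fixedRing core brHom)
open Cfsg.Agent.Lib.BrauerPairs
open scoped ComplexConjugate

universe u

variable {K : Type u} [Group K] [Finite K] {p : ℕ} {M : Ideal AlgInt}

/-- A class function, translated and summed against an irreducible character. -/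
theorem sum_mul_translate [Fintype K] {z : K → ℂ} (hz : IsClassFunction K z) (ψ : IrrCharacter K)
    (y : K) : ∑ g : K, z g * (ψ : K → ℂ) (g * y) =
      (∑ g : K, z g * (ψ : K → ℂ) g / (ψ : K → ℂ) 1) * (ψ : K → ℂ) y := by
  have hc : ofFun z ∈ Subalgebra.center ℂ (MonoidAlgebra ℂ K) :=
    mem_center_iff.2 fun g h => by simpa using hz g h
  have h := omega_mul ψ hc (single y 1)
  rw [omega_single, one_mul, omega_eq_sum (ψ : K → ℂ) (ofFun z * single y 1),
    omega_eq_sum (ψ : K → ℂ) (ofFun z)] at h
  simp only [coeff_mul_single_apply, coeff_ofFun, mul_one] at h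
  have hne := Chars.irr_apply_one_ne_zero ψ
  have h2 : ∑ g : K, z (g * y⁻¹) * ((ψ : K → ℂ) g / (ψ : K → ℂ) 1) =
      (∑ g : K, z g * (ψ : K → ℂ) (g * y)) / (ψ : K → ℂ) 1 := by
    rw [Finset.sum_div]
    refine Fintype.sum_equiv (Equiv.mulRight y⁻¹) _ _ fun g => ?_
    simp [mul_div_assoc]
  rw [h2] at h
  simp only [← mul_div_assoc] at h
  exact (div_left_inj' hne).1 h

/-- The exponent of `p` in the least degree of a block. -/
noncomputable def minExp (p : ℕ) (E : Set (IrrCharacter K)) : ℕ :=
  (Nat.card K).factorization p - blockDefect p E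

/-- The degree of the block part, divided by the least `p`-part of the degrees. -/
noncomputable def blockVal (p : ℕ) (E : Set (IrrCharacter K)) (f : K → ℂ) : ℂ :=
  (∑ᶠ g, blockCoeff E g * f g) / (p : ℂ) ^ minExp p E

theorem blockVal_eq [Fintype K] (p : ℕ) (E : Set (IrrCharacter K)) [DecidablePred (· ∈ E)]
    {f : K → ℂ} (hf : IsCharacter K f) :
    blockVal p E f = ∑ ψ : IrrCharacter K, if ψ ∈ E then
      classInner f (ψ : K → ℂ) * ((ψ : K → ℂ) 1 / (p : ℂ) ^ minExp p E) else 0 := by
  rw [blockVal, finsum_eq_sum_of_fintype]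
  have h : ∀ g, f g = ∑ ψ : IrrCharacter K, classInner f (ψ : K → ℂ) * (ψ : K → ℂ) g := fun g => by
    conv_lhs => rw [Chars.isCharacter_eq_sum_classInner hf]
    simp
  rw [Finset.sum_congr rfl fun g _ => by rw [h g, Finset.mul_sum], Finset.sum_comm, Finset.sum_div]
  refine Finset.sum_congr rfl fun ψ _ => ?_
  have h1 := Covering.sum_blockCoeff_eq_ite E ψ
  rw [← Finset.sum_div, div_eq_iff (Chars.irr_apply_one_ne_zero ψ)] at h1
  rw [Finset.sum_congr rfl (g := fun g => classInner f (ψ : K → ℂ) *
    (blockCoeff E g * (ψ : K → ℂ) g)) fun g _ => by ring, ← Finset.mul_sum, h1]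
  split_ifs
  · ring
  · simp

variable [Fact p.Prime] [M.IsPrime]

theorem degree_div_mem (hM : IsPModular p M) {E : Set (IrrCharacter K)} {ψ : IrrCharacter K}
    (hψ : ψ ∈ E) : MemLocalRing M ((ψ : K → ℂ) 1 / (p : ℂ) ^ minExp p E) := by
  have h := mem_localRing.1 (natCast_div_mem_localRing hM
    (pow_ne_zero (minExp p E) hM.1.ne_zero) (a := charDegree (ψ : K → ℂ)) (Or.inl (by
      rw [hM.1.factorization_pow, Finsupp.single_eq_same]
      cases nonempty_fintype K
      have := BrauerFeit.factorization_add_defect (p := p) hψ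
      simp only [minExp]
      omega)))
  rw [Nat.cast_pow] at h
  rwa [(exists_degree_eq ψ).1]

theorem degree_div_not_mem (hM : IsPModular p M) {E : Set (IrrCharacter K)} {ψ : IrrCharacter K}
    (hψ : ψ ∈ E) (h0 : blockHeight p E (ψ : K → ℂ) = 0) :
    ¬ MemLocalIdeal M ((ψ : K → ℂ) 1 / (p : ℂ) ^ minExp p E) := by
  intro hbad
  have h := mem_localRing.1 (natCast_div_mem_localRing hM (exists_degree_eq ψ).2.1
    (a := p ^ minExp p E) (Or.inl (by
      rw [hM.1.factorization_pow, Finsupp.single_eq_same]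
      cases nonempty_fintype K
      have := BrauerFeit.factorization_add_defect (p := p) hψ
      simp only [minExp]
      omega)))
  rw [Nat.cast_pow, ← (exists_degree_eq ψ).1] at h
  refine not_memLocalIdeal_one (M := M) ?_
  have := memLocalIdeal_mul_right hbad h
  rwa [div_mul_div_cancel₀ (pow_ne_zero _ (Nat.cast_ne_zero.2 hM.1.ne_zero)),
    div_self (Chars.irr_apply_one_ne_zero ψ)] at this

theorem memLocalRing_classInner {f : K → ℂ} [Fintype K] (hf : IsCharacter K f)
    (ψ : IrrCharacter K) : MemLocalRing M (classInner f (ψ : K → ℂ)) := by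
  obtain ⟨n, hn⟩ := Chars.isCharacter_classInner_nat hf (Chars.irr_isCharacter ψ)
  rw [hn]
  exact mem_localRing.1 (natCast_mem_localRing n)

theorem memLocalRing_blockVal (hM : IsPModular p M) (E : Set (IrrCharacter K)) {f : K → ℂ}
    (hf : IsCharacter K f) : MemLocalRing M (blockVal p E f) := by
  classical
  cases nonempty_fintype K
  rw [blockVal_eq p E hf]
  refine mem_localRing.1 (sum_mem fun ψ _ => ?_)
  split_ifs with h
  · exact mul_mem (mem_localRing.2 (memLocalRing_classInner hf ψ))
      (mem_localRing.2 (degree_div_mem hM h))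
  · exact zero_mem _

theorem blockVal_height_zero (hM : IsPModular p M) {E : Set (IrrCharacter K)} {ψ : IrrCharacter K}
    (hψ : ψ ∈ E) (h0 : blockHeight p E (ψ : K → ℂ) = 0) :
    ¬ MemLocalIdeal M (blockVal p E (ψ : K → ℂ)) := by
  classical
  cases nonempty_fintype K
  rw [blockVal_eq p E (Chars.irr_isCharacter ψ), Finset.sum_eq_single ψ
    (fun φ _ hne => by rw [Chars.classInner_irr_of_ne hne.symm]; simp)
    (fun h => absurd (Finset.mem_univ _) h), if_pos hψ, Chars.classInner_irr_self, one_mul]
  exact degree_div_not_mem hM hψ h0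

/-- On a block the values at an element are congruent to a multiple of the scaled degrees. -/
theorem exists_apply_congr (hM : IsPModular p M) {E : Set (IrrCharacter K)} (hE : IsPBlock M E)
    {y : K} (hν : blockDefect p E ≤ (Nat.card (Subgroup.centralizer ({y} : Set K))).factorization p) :
    ∃ c : ℂ, MemLocalRing M c ∧
      (∀ ψ ∈ E, MemLocalIdeal M ((ψ : K → ℂ) y - c * ((ψ : K → ℂ) 1 / (p : ℂ) ^ minExp p E))) ∧
      ((∀ ψ ∈ E, ¬ MemLocalIdeal M (centralChar (ψ : K → ℂ) y)) →
        (Nat.card (Subgroup.centralizer ({y} : Set K))).factorization p = blockDefect p E →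
        ¬ MemLocalIdeal M c) := by
  obtain ⟨ψ₀, hψ₀⟩ := Blocks.isPBlock_nonempty hE
  set m := Nat.card (Subgroup.centralizer ({y} : Set K)) with hm
  have hm0 : m ≠ 0 := Nat.card_pos.ne'
  have hd : blockDefect p E ≤ (Nat.card K).factorization p := Nat.sub_le _ _
  set s : ℂ := ((m * p ^ minExp p E : ℕ) : ℂ) / (Nat.card K : ℂ) with hs
  have hpk : (p : ℂ) ^ minExp p E ≠ 0 := pow_ne_zero _ (Nat.cast_ne_zero.2 hM.1.ne_zero)
  have hfac : (m * p ^ minExp p E).factorization p = m.factorization p + minExp p E := by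
    rw [Nat.factorization_mul hm0 (pow_ne_zero _ hM.1.ne_zero), Finsupp.add_apply,
      hM.1.factorization_pow, Finsupp.single_eq_same]
  have hsR : MemLocalRing M s := mem_localRing.1 (natCast_div_mem_localRing hM Nat.card_pos.ne'
    (Or.inl (by rw [hfac]; simp only [minExp]; omega)))
  refine ⟨centralChar (ψ₀ : K → ℂ) y * s, mem_localRing.1 (mul_mem
    (centralChar_mem_localRing ψ₀ y) (mem_localRing.2 hsR)), fun ψ hψ => ?_, fun hu hν' hbad => ?_⟩
  · have hval : (ψ : K → ℂ) y =
        centralChar (ψ : K → ℂ) y * s * ((ψ : K → ℂ) 1 / (p : ℂ) ^ minExp p E) := by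
      have hidx : ((Subgroup.centralizer ({y} : Set K)).index : ℂ) * (m : ℂ) = (Nat.card K : ℂ) := by
        rw [hm]; exact_mod_cast Subgroup.index_mul_card _
      have h1 := Chars.irr_apply_one_ne_zero ψ
      have h2 : (Nat.card K : ℂ) ≠ 0 := Nat.cast_ne_zero.2 Nat.card_pos.ne'
      rw [centralChar, hs]
      push_cast
      field_simp
      linear_combination (-(ψ : K → ℂ) y) * hidx
    rw [hval, ← sub_mul, ← sub_mul, mul_assoc]
    exact memLocalIdeal_mul_right ((sameBlock_of_mem hE hψ hψ₀) y)
      (mem_localRing.1 (mul_mem (mem_localRing.2 hsR) (mem_localRing.2 (degree_div_mem hM hψ))))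
  · refine not_memLocalIdeal_mul (mem_localRing.1 (centralChar_mem_localRing ψ₀ y)) hsR
      (hu ψ₀ hψ₀) (fun hbad => not_memLocalIdeal_one (M := M) ?_) hbad
    have h := memLocalIdeal_mul_right hbad (mem_localRing.1 (natCast_div_mem_localRing hM
      (mul_ne_zero hm0 (pow_ne_zero (minExp p E) hM.1.ne_zero)) (a := Nat.card K)
      (Or.inl (by rw [hfac]; simp only [minExp]; omega))))
    rwa [hs, div_mul_div_cancel₀ (Nat.cast_ne_zero.2 Nat.card_pos.ne'), div_self
      (Nat.cast_ne_zero.2 (mul_ne_zero hm0 (pow_ne_zero _ hM.1.ne_zero)))] at h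

/-- A sum against a `Q`-invariant function reduces to the centralizer of `Q` modulo `M`. -/
theorem sum_congr_centralizer [Fintype K] (hM : IsPModular p M) {Q : Subgroup K}
    (hQ : IsPGroup p Q) [Fintype (Subgroup.centralizer (Q : Set K))] (F : K → ℂ)
    (hF : ∀ g, MemLocalRing M (F g)) (hinv : ∀ q ∈ Q, ∀ g, F (q * g * q⁻¹) = F g) :
    MemLocalIdeal M ((∑ g : K, F g) - ∑ g : Subgroup.centralizer (Q : Set K), F g) := by
  classical
  let F' : K → localRing M := fun g => ⟨F g, mem_localRing.2 (hF g)⟩
  have hp0 : (p : Residue M) = 0 := by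
    have := charP_residue hM
    exact CharP.cast_eq_zero _ p
  letI : MulAction Q K := MulAction.compHom K ((MulAut.conj).comp Q.subtype : Q →* MulAut K)
  have hsmul : ∀ (a : Q) (y : K), a • y = (a : K) * y * (a : K)⁻¹ := fun _ _ => rfl
  have h := sum_eq_sum_fixedPoints hp0 hQ (fun g => residue M (F' g)) fun a g => by
    rw [hsmul]
    exact congrArg _ (Subtype.ext (hinv a a.2 g))
  suffices h' : residue M (∑ g : K, F' g) =
      residue M (∑ g : Subgroup.centralizer (Q : Set K), F' g) by
    rw [residue_eq_iff] at h'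
    simpa [F'] using h'
  rw [map_sum, map_sum, h]
  refine Finset.sum_subtype (p := fun y => y ∈ Subgroup.centralizer (Q : Set K)) _ (fun y => ?_)
    (fun g => residue M (F' g))
  rw [Finset.mem_filter, and_iff_right (Finset.mem_univ _)]
  constructor
  · intro hy
    refine Subgroup.mem_centralizer_iff.mpr fun a ha => ?_
    have h1 := hy ⟨a, ha⟩
    rw [hsmul] at h1
    exact mul_inv_eq_iff_eq_mul.mp h1
  · intro hy a
    rw [hsmul, Subgroup.mem_centralizer_iff.mp hy a a.2, mul_inv_cancel_right]

/-- Transfer along a pair on a defect group. -/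
theorem exists_transfer (hM : IsPModular p M) {E : Set (IrrCharacter K)} (hE : IsPBlock M E)
    {Q : Subgroup K} (hQ : IsDefectGroup p M E Q)
    {e : Set (IrrCharacter (Subgroup.centralizer (Q : Set K)))}
    (he : IsBrauerPairOf p M E Q e) :
    IsDefectGroup p M e (zOf Q) ∧ ∀ f : K → ℂ, IsCharacter K f →
      (¬ MemLocalIdeal M (blockVal p E f) ↔
        ¬ MemLocalIdeal M
          (blockVal p e fun c : Subgroup.centralizer (Q : Set K) => f c)) := by
  classical
  cases nonempty_fintype K
  have : Fintype (Subgroup.centralizer (Q : Set K)) := Fintype.ofFinite _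
  obtain ⟨y, hy, hyD⟩ := isDefectGroup_iff.1 hQ
  have hQp : IsPGroup p Q := hyD.1
  have hyC : y ∈ (Subgroup.centralizer (Q : Set K)) := le_centralizer_singleton_iff.1 hyD.2.1
  -- pairs on Q are maximal
  have hmax : ∀ e' : Set (IrrCharacter (Subgroup.centralizer (Q : Set K))), IsBrauerPairOf p M E Q e' →
      IsMaximalBrauerPair p M E Q e' := by
    intro e' he'
    refine ⟨he', fun R g hR hle => ?_⟩
    obtain ⟨m, hm, -⟩ := exists_isMaximal_above (b := ⟨R, g⟩) hM hR
    obtain ⟨x, hx⟩ := isDefectGroup_conjugate hM hE hQ (isDefectGroup_of_isMaximal hM hm)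
    have hRm : Nat.card R ≤ Nat.card m.1 := card_le_of_isMaximal (b := ⟨R, g⟩) hM hm hR
    rw [hx, card_map_conj] at hRm
    exact (Subgroup.eq_of_le_of_card_ge
      (pairLE_fst_le (a := ⟨Q, e'⟩) (b := ⟨R, g⟩) hle) hRm).symm
  have hdef : ∀ e' : Set (IrrCharacter (Subgroup.centralizer (Q : Set K))), IsBrauerPairOf p M E Q e' →
      IsDefectGroup p M e' (zOf Q) := fun e' he' =>
    (isDefectGroup_inf_centralizer_iff (a := ⟨Q, e'⟩) (b := ⟨Q, e'⟩) hM (hmax e' he')
      Relation.ReflTransGen.refl).2 fun x hx => by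
        rw [show ((conjPair x ⟨Q, e'⟩).1 : Subgroup K) = Q from
          Subgroup.eq_of_le_of_card_ge (pairLE_fst_le hx) (by rw [conjPair_fst, card_map_conj])]
  have hdefect : ∀ e' : Set (IrrCharacter (Subgroup.centralizer (Q : Set K))), IsBrauerPairOf p M E Q e' →
      blockDefect p e' = blockDefect p e := fun e' he' =>
    Nat.pow_right_injective hM.1.two_le
      ((card_defectGroup hM he'.1.2 (hdef e' he')).symm.trans
        (card_defectGroup hM he.1.2 (hdef e he)))
  refine ⟨hdef e he, ?_⟩
  -- all pairs on Q give the same value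
  have hsame : ∀ e' : Set (IrrCharacter (Subgroup.centralizer (Q : Set K))), IsBrauerPairOf p M E Q e' → ∀ f : K → ℂ,
      IsCharacter K f → blockVal p e' (fun c : (Subgroup.centralizer (Q : Set K)) => f c) = blockVal p e (fun c : (Subgroup.centralizer (Q : Set K)) => f c) := by
    intro e' he' f hf
    obtain ⟨x, hx⟩ := exists_conj_pairLE_max (a := ⟨Q, e⟩) (b := ⟨Q, e'⟩) hM (hmax e he) he'
    have hfst : (conjPair x ⟨Q, e'⟩).1 = Q :=
      Subgroup.eq_of_le_of_card_ge (pairLE_fst_le hx) (by rw [conjPair_fst, card_map_conj])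
    have heq : conjPair x (⟨Q, e'⟩ : BrauerPairIdx K) = ⟨Q, e⟩ :=
      pairLE_unique hM he.1 hx Relation.ReflTransGen.refl hfst
    have hxN : x ∈ Subgroup.normalizer (Q : Set K) := map_conj_eq_iff_mem_normalizer.1 hfst
    simp only [blockVal, minExp, hdefect e' he']
    congr 1
    rw [finsum_eq_sum_of_fintype, finsum_eq_sum_of_fintype]
    refine Fintype.sum_equiv
      ((MulAut.conj x).toEquiv.subtypeEquiv fun c => ?_) _ _ fun c => ?_
    · exact Subgroup.mem_normalizer_iff.1
        (BrauerMap.normalizer_le_normalizer_centralizer' Q hxN) c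
    · show _ = blockCoeff e ⟨x * (c : K) * x⁻¹, _⟩ * f (x * (c : K) * x⁻¹)
      rw [Chars.isClassFunction_of_isCharacter hf (c : K) x,
        ← BrauerMap.subgroupBlockCoeff_of_mem (Subgroup.centralizer (Q : Set K)) e,
        ← BrauerMap.subgroupBlockCoeff_of_mem (Subgroup.centralizer (Q : Set K)) e']
      congr 1
      show coeffFun ⟨Q, e'⟩ (c : K) = coeffFun ⟨Q, e⟩ (x * (c : K) * x⁻¹)
      rw [← heq, coeffFun_conjPair]
      group
  -- coefficient of the restricted idempotent
  have hres : IsClassFunction (Subgroup.centralizer (Q : Set K)) (fun g : (Subgroup.centralizer (Q : Set K)) => blockCoeff E (g : K)) := fun g h => by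
    simp only [Subgroup.coe_mul, Subgroup.coe_inv]
    exact blockCoeff_conj E _ _
  have homega : ∀ ξ : IrrCharacter (Subgroup.centralizer (Q : Set K)),
      (IsBrauerPairOf p M E Q (blockOf M (ξ : (Subgroup.centralizer (Q : Set K)) → ℂ)) →
        MemLocalIdeal M (brauerOmega Q (blockCoeff E) (ξ : (Subgroup.centralizer (Q : Set K)) → ℂ) - 1)) ∧
      (¬ IsBrauerPairOf p M E Q (blockOf M (ξ : (Subgroup.centralizer (Q : Set K)) → ℂ)) →
        MemLocalIdeal M (brauerOmega Q (blockCoeff E) (ξ : (Subgroup.centralizer (Q : Set K)) → ℂ))) := by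
    intro ξ
    refine ⟨fun h => h.2.2 ξ (mem_blockOf_self ξ), fun h => ?_⟩
    obtain ⟨hm, hr⟩ := brHom_eq_residue hM hQp ξ ⟨_, blockIdem_mem E hE (core Q)⟩ (blockCoeff E)
      fun x _ => (coe_coeff_blockIdem hE x).symm
    have hid : (⟨_, blockIdem_mem E hE (core Q)⟩ : fixedRing M (core Q)) *
        ⟨_, blockIdem_mem E hE (core Q)⟩ = ⟨_, blockIdem_mem E hE (core Q)⟩ :=
      Subtype.ext (congrArg (fun t : RCenter M K => (t : MonoidAlgebra (localRing M) K))
        (blockIdem_mul_self hE))
    rcases IsIdempotentElem.iff_eq_zero_or_one.1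
      (show IsIdempotentElem (brHom hM hQp ξ ⟨_, blockIdem_mem E hE (core Q)⟩) from
        (map_mul _ _ _).symm.trans (congrArg _ hid)) with h0 | h1
    · rw [hr, residue_eq_zero_iff] at h0
      exact h0
    · refine absurd ⟨⟨hQp, isPBlock_blockOf ξ⟩, hE, fun ξ' hξ' => ?_⟩ h
      rw [BrauerMap.brHom_blockIdem_eq_one_iff hM hQp hE, BrauerMap.brHom_eq_of_sameBlock hM hQp
        (sameBlock_symm (mem_blockOf.1 hξ'))]
      exact h1
  -- constants
  have hνQ : (Nat.card (Subgroup.centralizer ({y} : Set K))).factorization p =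
      blockDefect p E := by
    have h := (card_defectGroup hM hE hQ).symm.trans hyD.2.2
    exact (Nat.pow_right_injective hM.1.two_le h).symm
  obtain ⟨c₀, hc₀R, hc₀, hc₀u⟩ := exists_apply_congr hM hE (y := y) hνQ.ge
  have hc₀' : ¬ MemLocalIdeal M c₀ := hc₀u hy.2.2 hνQ
  have hνC : ∀ e' : Set (IrrCharacter (Subgroup.centralizer (Q : Set K))), IsBrauerPairOf p M E Q e' → blockDefect p e' ≤
      (Nat.card (Subgroup.centralizer ({(⟨y, hyC⟩ : (Subgroup.centralizer (Q : Set K)))} : Set (Subgroup.centralizer (Q : Set K))))).factorization p := by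
    intro e' he'
    have hle : zOf Q ≤ Subgroup.centralizer ({(⟨y, hyC⟩ : (Subgroup.centralizer (Q : Set K)))} : Set (Subgroup.centralizer (Q : Set K))) := fun z hz =>
      Subgroup.mem_centralizer_singleton_iff.2
        (Subgroup.mem_center_iff.1 (PairDefectZero.zOf_le_center Q hz) _).symm
    have h1 := Subgroup.card_dvd_of_le hle
    rw [card_defectGroup hM he'.1.2 (hdef e' he')] at h1
    exact (hM.1.pow_dvd_iff_le_factorization Nat.card_pos.ne').1 h1
  have hce : ∀ e' : Set (IrrCharacter (Subgroup.centralizer (Q : Set K))), ∃ c : ℂ, MemLocalRing M c ∧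
      (IsBrauerPairOf p M E Q e' → ∀ ξ ∈ e', MemLocalIdeal M
        ((ξ : (Subgroup.centralizer (Q : Set K)) → ℂ) ⟨y, hyC⟩ - c * ((ξ : (Subgroup.centralizer (Q : Set K)) → ℂ) 1 / (p : ℂ) ^ minExp p e'))) := by
    intro e'
    by_cases h : IsBrauerPairOf p M E Q e'
    · obtain ⟨c, hcR, hc, -⟩ := exists_apply_congr hM h.1.2 (hνC e' h)
      exact ⟨c, hcR, fun _ => hc⟩
    · exact ⟨0, mem_localRing.1 (zero_mem _), fun h' => absurd h' h⟩
  choose cf hcfR hcf using hce
  set S := (Finset.univ.image fun ξ : IrrCharacter (Subgroup.centralizer (Q : Set K)) => blockOf M (ξ : (Subgroup.centralizer (Q : Set K)) → ℂ)).filter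
    fun e' => IsBrauerPairOf p M E Q e' with hS
  set c₁ := ∑ e' ∈ S, cf e' with hc₁
  have hc₁R : MemLocalRing M c₁ :=
    mem_localRing.1 (sum_mem fun e' _ => mem_localRing.2 (hcfR e'))
  have key : ∀ f : K → ℂ, IsCharacter K f →
      MemLocalIdeal M (c₀ * blockVal p E f - c₁ * blockVal p e (fun c : (Subgroup.centralizer (Q : Set K)) => f c)) := by
    intro f hf
    have hfc : IsCharacter (Subgroup.centralizer (Q : Set K)) (fun c : (Subgroup.centralizer (Q : Set K)) => f c) := Chars.isCharacter_restrict (Subgroup.centralizer (Q : Set K)) hf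
    set L := ∑ g : K, blockCoeff E g * f (g * y) with hL
    set R := ∑ g : (Subgroup.centralizer (Q : Set K)), blockCoeff E (g : K) * f ((g : K) * y) with hR
    have hLR : MemLocalIdeal M (L - R) := sum_congr_centralizer hM hQp
      (fun g => blockCoeff E g * f (g * y))
      (fun g => mem_localRing.1 (mul_mem (mem_localRing.2 (memLocalRing_blockCoeff hE g))
        (isIntegral_mem_localRing (Chars.isCharacter_isIntegral hf _))))
      (fun q hq g => by
        rw [blockCoeff_conj]
        congr 1
        have hqy : q⁻¹ * y = y * q⁻¹ := Subgroup.mem_centralizer_iff.1 hyC _ (inv_mem hq)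
        rw [mul_assoc, hqy, ← mul_assoc, mul_assoc q g y]
        exact Chars.isClassFunction_of_isCharacter hf _ q)
    have hfK : ∀ g, f g = ∑ ψ : IrrCharacter K, classInner f (ψ : K → ℂ) * (ψ : K → ℂ) g :=
      fun g => by conv_lhs => rw [Chars.isCharacter_eq_sum_classInner hf]; simp
    have hfC : ∀ g : (Subgroup.centralizer (Q : Set K)), f g = ∑ ξ : IrrCharacter (Subgroup.centralizer (Q : Set K)),
        classInner (fun c : (Subgroup.centralizer (Q : Set K)) => f c) (ξ : (Subgroup.centralizer (Q : Set K)) → ℂ) * (ξ : (Subgroup.centralizer (Q : Set K)) → ℂ) g := fun g => by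
      show (fun c : (Subgroup.centralizer (Q : Set K)) => f c) g = _
      conv_lhs => rw [Chars.isCharacter_eq_sum_classInner hfc]
      simp
    have hLE : MemLocalIdeal M (L - c₀ * blockVal p E f) := by
      rw [hL, Finset.sum_congr rfl fun g _ => by rw [hfK (g * y), Finset.mul_sum], Finset.sum_comm,
        blockVal_eq p E hf, Finset.mul_sum, ← Finset.sum_sub_distrib]
      refine memLocalIdeal_sum _ _ fun ψ _ => ?_
      rw [Finset.sum_congr rfl (g := fun g => classInner f (ψ : K → ℂ) *
        (blockCoeff E g * (ψ : K → ℂ) (g * y))) fun g _ => by ring, ← Finset.mul_sum,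
        sum_mul_translate (fun g h => blockCoeff_conj E g h), Covering.sum_blockCoeff_eq_ite]
      split_ifs with h
      · rw [one_mul, mul_left_comm c₀, ← mul_sub]
        exact memLocalIdeal_mul_left (memLocalRing_classInner hf ψ) (hc₀ ψ h)
      · simpa using memLocalIdeal_zero
    have hRe : MemLocalIdeal M (R - c₁ * blockVal p e (fun c : (Subgroup.centralizer (Q : Set K)) => f c)) := by
      have hRsum : R = ∑ ξ : IrrCharacter (Subgroup.centralizer (Q : Set K)), classInner (fun c : (Subgroup.centralizer (Q : Set K)) => f c) (ξ : (Subgroup.centralizer (Q : Set K)) → ℂ) *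
          (brauerOmega Q (blockCoeff E) (ξ : (Subgroup.centralizer (Q : Set K)) → ℂ) * (ξ : (Subgroup.centralizer (Q : Set K)) → ℂ) ⟨y, hyC⟩) := by
        rw [hR, Finset.sum_congr rfl fun g _ => by
          rw [show f ((g : K) * y) = f ((g * ⟨y, hyC⟩ : (Subgroup.centralizer (Q : Set K))) : K) from rfl, hfC, Finset.mul_sum],
          Finset.sum_comm]
        refine Finset.sum_congr rfl fun ξ _ => ?_
        rw [Finset.sum_congr rfl (g := fun g : (Subgroup.centralizer (Q : Set K)) => classInner (fun c : (Subgroup.centralizer (Q : Set K)) => f c) (ξ : (Subgroup.centralizer (Q : Set K)) → ℂ) *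
          (blockCoeff E (g : K) * (ξ : (Subgroup.centralizer (Q : Set K)) → ℂ) (g * ⟨y, hyC⟩))) fun g _ => by ring, ← Finset.mul_sum,
          sum_mul_translate hres, brauerOmega, finsum_eq_sum_of_fintype]
      have hfib : c₁ * blockVal p e (fun c : (Subgroup.centralizer (Q : Set K)) => f c) = ∑ ξ : IrrCharacter (Subgroup.centralizer (Q : Set K)),
          if IsBrauerPairOf p M E Q (blockOf M (ξ : (Subgroup.centralizer (Q : Set K)) → ℂ)) then
            classInner (fun c : (Subgroup.centralizer (Q : Set K)) => f c) (ξ : (Subgroup.centralizer (Q : Set K)) → ℂ) * (cf (blockOf M (ξ : (Subgroup.centralizer (Q : Set K)) → ℂ)) *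
              ((ξ : (Subgroup.centralizer (Q : Set K)) → ℂ) 1 / (p : ℂ) ^ minExp p (blockOf M (ξ : (Subgroup.centralizer (Q : Set K)) → ℂ)))) else 0 := by
        rw [← Finset.sum_filter, hc₁, Finset.sum_mul,
          ← Finset.sum_fiberwise_of_maps_to (t := S) (g := fun ξ : IrrCharacter (Subgroup.centralizer (Q : Set K)) =>
            blockOf M (ξ : (Subgroup.centralizer (Q : Set K)) → ℂ)) fun ξ hξ => by
              rw [hS, Finset.mem_filter, Finset.mem_image]
              exact ⟨⟨ξ, Finset.mem_univ _, rfl⟩, (Finset.mem_filter.1 hξ).2⟩]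
        refine Finset.sum_congr rfl fun e' he' => ?_
        have he'' := (Finset.mem_filter.1 he').2
        rw [← hsame e' he'' f hf, blockVal_eq p e' hfc, Finset.mul_sum, Finset.filter_filter,
          Finset.sum_filter]
        refine Finset.sum_congr rfl fun ξ _ => ?_
        by_cases hξ : ξ ∈ e'
        · have hb : blockOf M (ξ : (Subgroup.centralizer (Q : Set K)) → ℂ) = e' := (Blocks.eq_blockOf_of_mem he''.1.2 hξ).symm
          rw [if_pos hξ, if_pos ⟨hb.symm ▸ he'', hb⟩, hb]
          ring
        · rw [if_neg hξ, if_neg, mul_zero]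
          exact fun h => hξ (h.2 ▸ mem_blockOf_self ξ)
      rw [hRsum, hfib, ← Finset.sum_sub_distrib]
      refine memLocalIdeal_sum _ _ fun ξ _ => ?_
      have hξR : MemLocalRing M ((ξ : (Subgroup.centralizer (Q : Set K)) → ℂ) ⟨y, hyC⟩) :=
        mem_localRing.1 (isIntegral_mem_localRing (Chars.irr_isIntegral ξ _))
      split_ifs with h
      · rw [← mul_sub]
        refine memLocalIdeal_mul_left (memLocalRing_classInner hfc ξ) ?_
        have h1 := memLocalIdeal_add (memLocalIdeal_mul_right ((homega ξ).1 h) hξR)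
          (hcf _ h ξ (mem_blockOf_self ξ))
        convert h1 using 1
        ring
      · rw [sub_zero]
        exact memLocalIdeal_mul_left (memLocalRing_classInner hfc ξ)
          (memLocalIdeal_mul_right ((homega ξ).2 h) hξR)
    have := memLocalIdeal_sub (memLocalIdeal_add hLR hRe) hLE
    convert this using 1
    ring
  intro f hf
  have hc₁' : ¬ MemLocalIdeal M c₁ := by
    obtain ⟨ψ, hψ, h0⟩ := Blocks.exists_height_zero (p := p) hE
    intro hbad
    refine blockVal_height_zero hM hψ h0 ?_
    by_contra hne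
    refine not_memLocalIdeal_mul hc₀R (memLocalRing_blockVal hM E (Chars.irr_isCharacter ψ)) hc₀'
      hne ?_
    have h1 := memLocalIdeal_add (key (ψ : K → ℂ) (Chars.irr_isCharacter ψ))
      (memLocalIdeal_mul_right hbad (memLocalRing_blockVal hM e
        (Chars.isCharacter_restrict (Subgroup.centralizer (Q : Set K)) (Chars.irr_isCharacter ψ))))
    simpa using h1
  have hk := key f hf
  constructor
  · intro hne hbad
    refine not_memLocalIdeal_mul hc₀R (memLocalRing_blockVal hM E hf) hc₀' hne ?_
    simpa using memLocalIdeal_add hk (memLocalIdeal_mul_left hc₁R hbad)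
  · intro hne hbad
    refine not_memLocalIdeal_mul hc₁R
      (memLocalRing_blockVal hM e (Chars.isCharacter_restrict (Subgroup.centralizer (Q : Set K)) hf)) hc₁' hne ?_
    simpa using memLocalIdeal_sub (memLocalIdeal_mul_left hc₀R hbad) hk

end Cfsg.Agent.Lib.Contrib
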