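import Mathlib
import Cfsg.Agent.Lib.Contrib.Transfer
import Cfsg.Agent.Lib.Blocks.InducedBlock
import Cfsg.Agent.Lib.Blocks.HeightZero
import Cfsg.Agent.Lib.BrauerPairs.Centric

/-!
# The block part of a height zero character at a centric pair and at a subsection

If `χ` has height zero in `B` and `(Q, e)` is a pair of `B` whose block has the centre of `Q` as
defect group, then the degree of the `e`-part of the restriction of `χ` has the least possible
`p`-part.  The same follows for a block of the centralizer of a `p`-element inducing `B`.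
-/

set_option autoImplicit false

namespace Cfsg.Agent.Lib.Contrib

open Cfsg MonoidAlgebra
open Cfsg.Agent.Lib
open Cfsg.Agent.Lib.Blocks
open Cfsg.Agent.Lib.Blocks.PairDefectZero (zOf)
open Cfsg.Agent.Lib.BrauerMap (fixedRing core brHom)
open Cfsg.Agent.Lib.BrauerPairs
open scoped ComplexConjugate

universe u

variable {G : Type u} [Group G] [Finite G] {p : ℕ} {M : Ideal AlgInt}

section Congr

variable {K L : Type u} [Group K] [Finite K] [Group L] [Finite L]

theorem blockDefect_image (e : L ≃* K) (A : Set (IrrCharacter K)) :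
    blockDefect p (Chars.irrCongr e '' A) = blockDefect p A := by
  rw [blockDefect, blockDefect, Set.image_image, Nat.card_congr e.toEquiv]
  refine congrArg _ (congrArg sInf (Set.image_congr fun χ _ => ?_))
  simp [charDegree, BrauerMap.irrCongr_apply]

theorem blockVal_image (e : L ≃* K) (A : Set (IrrCharacter K)) (f : L → ℂ) :
    blockVal p (Chars.irrCongr e '' A) f = blockVal p A fun k => f (e.symm k) := by
  classical
  cases nonempty_fintype K
  cases nonempty_fintype L
  simp only [blockVal, minExp, blockDefect_image, Nat.card_congr e.toEquiv]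
  congr 1
  rw [finsum_eq_sum_of_fintype, finsum_eq_sum_of_fintype]
  refine Fintype.sum_equiv e.toEquiv _ _ fun x => ?_
  rw [BrauerMap.blockCoeff_image_irrCongr]
  simp

end Congr

variable [Fact p.Prime] [M.IsPrime]

/-- The value at a pair. -/
noncomputable def pairVal (p : ℕ) (a : BrauerPairIdx G) (f : G → ℂ) : ℂ :=
  blockVal p a.2 fun c : Subgroup.centralizer (a.1 : Set G) => f c

/-- The block of the pair has the centre of its subgroup as defect group. -/
def IsCentricPair (p : ℕ) (M : Ideal AlgInt) (a : BrauerPairIdx G) : Prop :=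
  IsDefectGroup p M a.2 (zOf a.1)

theorem isCentricPair_iff (hM : IsPModular p M) {a : BrauerPairIdx G} (ha : IsPair p M a) :
    IsCentricPair p M a ↔ p ^ blockDefect p a.2 = Nat.card (zOf a.1) := by
  refine ⟨fun h => (card_defectGroup hM ha.2 h).symm, fun h => ?_⟩
  obtain ⟨D, hD⟩ := Blocks.exists_isDefectGroup (p := p) ha.2
  have := card_defectGroup hM ha.2 hD
  haveI : (zOf a.1).Normal := ⟨fun z hz g => by
    rw [Subgroup.mem_center_iff.1 (PairDefectZero.zOf_le_center a.1 hz) g, mul_inv_cancel_right]
    exact hz⟩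
  have hle : zOf a.1 ≤ D :=
    normal_le_defectGroup hM (PairDefectZero.isPGroup_zOf ha.1) ha.2 hD
  rw [IsCentricPair, Subgroup.eq_of_le_of_card_ge hle (by omega)]
  exact hD

theorem card_zOf_conj (Q : Subgroup G) (x : G) :
    Nat.card (zOf (Q.map (MulAut.conj x).toMonoidHom)) = Nat.card (zOf Q) := by
  rw [PairDefectZero.card_zOf, PairDefectZero.card_zOf, ← map_inf_centralizer_conj, card_map_conj]

theorem isCentricPair_conj (hM : IsPModular p M) {a : BrauerPairIdx G} (ha : IsPair p M a)
    (h : IsCentricPair p M a) (x : G) : IsCentricPair p M (conjPair x a) := by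
  rw [isCentricPair_iff hM (isPair_conjPair ha x)]
  rw [isCentricPair_iff hM ha] at h
  show p ^ blockDefect p (conjBlock a.1 x a.2) =
    Nat.card (zOf (a.1.map (MulAut.conj x).toMonoidHom))
  rw [conjBlock_eq_image, blockDefect_image, card_zOf_conj, h]

omit [Fact p.Prime] in
theorem pairVal_conj {a : BrauerPairIdx G} (x : G) {f : G → ℂ}
    (hf : IsClassFunction G f) : pairVal p (conjPair x a) f = pairVal p a f := by
  show blockVal p (conjBlock a.1 x a.2) (fun c : Subgroup.centralizer ((a.1.map (MulAut.conj x).toMonoidHom : Subgroup G) : Set G) => f c) = _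
  rw [conjBlock_eq_image, blockVal_image, pairVal]
  congr 1
  funext c
  rw [MulEquiv.symm_symm, coe_centEquiv]
  exact hf _ _

/-- The centralizer inside a subgroup that contains it. -/
def centInside {H P : Subgroup G} (hP : P ≤ H) (hC : Subgroup.centralizer (P : Set G) ≤ H) :
    Subgroup.centralizer ((P.subgroupOf H : Subgroup H) : Set H) ≃*
      Subgroup.centralizer (P : Set G) where
  toFun c := ⟨((c : H) : G), Subgroup.mem_centralizer_iff.2 fun x hx =>
    congrArg Subtype.val (Subgroup.mem_centralizer_iff.1 c.2 ⟨x, hP hx⟩ hx)⟩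
  invFun c := ⟨⟨c, hC c.2⟩, Subgroup.mem_centralizer_iff.2 fun x hx =>
    Subtype.ext (Subgroup.mem_centralizer_iff.1 c.2 _ hx)⟩
  left_inv _ := rfl
  right_inv _ := rfl
  map_mul' _ _ := rfl

theorem brauerOmega_inside {H P : Subgroup G} (hP : P ≤ H)
    (hC : Subgroup.centralizer (P : Set G) ≤ H) (β : G → ℂ)
    (ξ : IrrCharacter (Subgroup.centralizer (P : Set G))) :
    brauerOmega (P.subgroupOf H) (fun h : H => β h)
      ((Chars.irrCongr (centInside hP hC) ξ : IrrCharacter _) : _ → ℂ) =
      brauerOmega P β (ξ : Subgroup.centralizer (P : Set G) → ℂ) := by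
  rw [brauerOmega, brauerOmega]
  refine (finsum_eq_of_bijective (centInside hP hC) (MulEquiv.bijective _) fun c => ?_)
  show _ = β ((centInside hP hC c : _) : G) * _ / _
  simp only [BrauerMap.irrCongr_apply, map_one]
  rfl

theorem card_zOf_inside {H P : Subgroup G} (hP : P ≤ H)
    (hC : Subgroup.centralizer (P : Set G) ≤ H) :
    Nat.card (zOf (P.subgroupOf H)) = Nat.card (zOf P) :=
  Nat.card_congr ((centInside hP hC).toEquiv.subtypeEquiv fun c =>
    ⟨fun h => ⟨h.1, (centInside hP hC c).2⟩, fun h => ⟨h.1, c.2⟩⟩)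

/-- One step up between centric pairs. -/
theorem step (hM : IsPModular p M) {a : BrauerPairIdx G} {R : Subgroup G}
    {g : Set (IrrCharacter (Subgroup.centralizer (R : Set G)))}
    (hg : NormalSubpairRel p M a ⟨R, g⟩) (ha : IsCentricPair p M a)
    (hRC : R ⊓ Subgroup.centralizer (a.1 : Set G) ≤ a.1) :
    IsCentricPair p M ⟨R, g⟩ ∧ ∀ f : G → ℂ, IsCharacter G f →
      (¬ MemLocalIdeal M (pairVal p a f) ↔ ¬ MemLocalIdeal M (pairVal p ⟨R, g⟩ f)) := by
  classical
  cases nonempty_fintype G
  obtain ⟨hap, hRg, hQR, hRN, hst, hω⟩ := hg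
  have hgn : NormalSubpairRel p M a ⟨R, g⟩ := ⟨hap, hRg, hQR, hRN, hst, hω⟩
  set H := R ⊔ Subgroup.centralizer (a.1 : Set G) with hH
  have hRst : R ≤ pairStab hap.2 := fun x hx =>
    (mem_pairStab_iff_stabilizesBlock hap.2).2 ⟨hRN hx, hst x hx⟩
  have hHst : H ≤ pairStab hap.2 := sup_le hRst (le_sup_right.trans (core_le_pairStab hap.2))
  have hcore : core a.1 ≤ H := sup_le (hQR.trans le_sup_left) le_sup_right
  have hCH : Subgroup.centralizer (a.1 : Set G) ≤ H := le_sup_right
  have hRH : R ≤ H := le_sup_left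
  have hCRH : Subgroup.centralizer (R : Set G) ≤ H := (BrauerMap.centralizer_anti hQR).trans hCH
  have hHN : H ≤ Subgroup.normalizer (a.1 : Set G) :=
    fun x hx => ((mem_pairStab_iff hap.2).1 (hHst hx)).1
  obtain ⟨E, hE, hEc⟩ := exists_block_of_le_pairStab hM hap hcore hHst
  haveI hNn := centralizer_normal_subgroupOf hCH hHN
  set N := (Subgroup.centralizer (a.1 : Set G)).subgroupOf H with hN
  set RH := R.subgroupOf H with hRHdef
  have hRHcard : Nat.card RH = Nat.card R :=
    Nat.card_congr (Subgroup.subgroupOfEquivOfLe hRH).toEquiv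
  have hRHp : IsPGroup p RH := hRg.1.of_equiv (Subgroup.subgroupOfEquivOfLe hRH).symm
  -- the index of the centralizer
  have hidx : N.index * Nat.card (zOf a.1) = Nat.card R := by
    have hsup : RH ⊔ N = ⊤ := by
      refine Subgroup.map_injective (f := H.subtype) Subtype.coe_injective ?_
      rw [Subgroup.map_sup, Subgroup.map_subgroupOf_eq_of_le hRH,
        Subgroup.map_subgroupOf_eq_of_le hCH, ← MonoidHom.range_eq_map, Subgroup.range_subtype]
    have hrel : N.relIndex RH = N.index := by
      rw [← Subgroup.relIndex_sup_right (H := RH), hsup, Subgroup.relIndex_top_right]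
    rw [← hrel, ← hRHcard, ← Subgroup.card_mul_index (N.subgroupOf RH), mul_comm]
    refine congrArg (· * _) (Nat.card_congr
      { toFun := fun z => ⟨⟨⟨((z.1 : Subgroup.centralizer (a.1 : Set G)) : G), hCH z.1.2⟩,
          hQR z.2.1⟩, z.1.2⟩
        invFun := fun x => ⟨⟨((x.1.1 : H) : G), x.2⟩, hRC ⟨x.1.2, x.2⟩, x.2⟩
        left_inv := fun _ => rfl
        right_inv := fun _ => rfl })
  -- a defect group above R
  obtain ⟨y, hy, hyne⟩ := exists_unit_of_normalSubpair hM hgn
  obtain ⟨S, hS, hRS⟩ := exists_isDefectGroup_ge hM hE hRHp (h := ⟨y, hCRH hy⟩)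
    (Subgroup.mem_centralizer_iff.2 fun z hz =>
      Subtype.ext (Subgroup.mem_centralizer_iff.1 hy z hz))
    (by rw [hEc]; exact (residue_idemG_ne_zero_iff hap.2 y).1 hyne)
  obtain ⟨h, hh, hhS⟩ := isDefectGroup_iff.1 hS
  have hhC : (h : G) ∈ Subgroup.centralizer (a.1 : Set G) := by
    by_contra hno
    exact hh.2.1 (by rw [hEc, coeffFun_of_notMem hno]; exact memLocalIdeal_zero)
  have hSN : Nat.card (N.subgroupOf S) ≤ Nat.card (zOf a.1) := by
    set X := (S ⊓ N).map H.subtype with hX
    have hXC : X ≤ Subgroup.centralizer (a.1 : Set G) := by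
      rintro _ ⟨z, hz, rfl⟩
      exact hz.2
    obtain ⟨D, hD, hle⟩ := exists_defect_ge_centralizer hM (a := a) hap.2
      (X := X) ((hhS.1.to_le inf_le_left).map _) hXC hhC
      (by
        refine Subgroup.mem_centralizer_iff.2 ?_
        rintro _ ⟨z, hz, rfl⟩
        exact congrArg Subtype.val (Subgroup.mem_centralizer_iff.1
          (le_centralizer_singleton_iff.1 hhS.2.1) z hz.1))
      (by
        rw [residue_idemG_ne_zero_iff hap.2, ← hEc]
        exact hh.2.1)
    calc Nat.card (N.subgroupOf S) = Nat.card ↥(S ⊓ N) := Nat.card_congr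
          { toFun := fun z => ⟨z.1.1, z.1.2, z.2⟩
            invFun := fun z => ⟨⟨z.1, z.2.1⟩, z.2.2⟩
            left_inv := fun _ => rfl
            right_inv := fun _ => rfl }
      _ = Nat.card X := (Subgroup.card_map_of_injective (Subgroup.subtype_injective _)).symm
      _ = Nat.card (X.subgroupOf (Subgroup.centralizer (a.1 : Set G))) :=
          (Nat.card_congr (Subgroup.subgroupOfEquivOfLe hXC).toEquiv).symm
      _ ≤ Nat.card D := Subgroup.card_le_of_le hle
      _ = Nat.card (zOf a.1) :=
          (card_defectGroup hM hap.2 hD).trans (card_defectGroup hM hap.2 ha).symm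
  have hSeq : RH = S := by
    refine Subgroup.eq_of_le_of_card_ge hRS ?_
    calc Nat.card S = Nat.card (N.subgroupOf S) * N.relIndex S :=
          (Subgroup.card_mul_index _).symm
      _ ≤ Nat.card (zOf a.1) * N.index := Nat.mul_le_mul hSN (Nat.le_of_dvd
          (Nat.pos_of_ne_zero Subgroup.index_ne_zero_of_finite)
          (Subgroup.relIndex_dvd_index_of_normal N S))
      _ = Nat.card RH := by rw [mul_comm, hidx, hRHcard]
  rw [← hSeq] at hS
  -- the pair inside
  set κ := centInside hRH hCRH with hκ
  have hEfun : blockCoeff E = fun t : H => coeffFun a (t : G) := funext hEc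
  have hpairH : IsBrauerPairOf p M E RH (Chars.irrCongr κ '' g) := by
    refine ⟨⟨hRHp, BrauerMap.isPBlock_image_irrCongr κ hRg.2⟩, hE, ?_⟩
    rintro _ ⟨ξ, hξ, rfl⟩
    rw [hEfun, brauerOmega_inside hRH hCRH]
    exact hω ξ hξ
  obtain ⟨hdefH, hiff⟩ := exists_transfer hM hE hS hpairH
  refine ⟨?_, fun f hf => ?_⟩
  · rw [isCentricPair_iff hM hRg]
    have h1 := card_defectGroup hM hpairH.1.2 hdefH
    rw [blockDefect_image, card_zOf_inside hRH hCRH] at h1
    exact h1.symm
  · have h1 : blockVal p E (fun t : H => f t) = pairVal p a f := by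
      have hk : minExp p E = minExp p a.2 := by
        have e1 := card_defectGroup hM hE hS
        have e2 := card_defectGroup hM hap.2 ha
        have e3 : Nat.card H = N.index * Nat.card (Subgroup.centralizer (a.1 : Set G)) := by
          rw [← Nat.card_congr (Subgroup.subgroupOfEquivOfLe hCH).toEquiv, Subgroup.index_mul_card]
        have e4 : (Nat.card (zOf a.1)).factorization p = blockDefect p a.2 := by
          rw [e2, hM.1.factorization_pow, Finsupp.single_eq_same]
        have e5 : N.index.factorization p + blockDefect p a.2 = blockDefect p E := by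
          rw [← e4, ← Finsupp.add_apply, ← Nat.factorization_mul Subgroup.index_ne_zero_of_finite
            Nat.card_pos.ne', hidx, ← hRHcard, e1, hM.1.factorization_pow, Finsupp.single_eq_same]
        have e6 : (Nat.card H).factorization p = N.index.factorization p +
            (Nat.card (Subgroup.centralizer (a.1 : Set G))).factorization p := by
          rw [e3, Nat.factorization_mul Subgroup.index_ne_zero_of_finite Nat.card_pos.ne',
            Finsupp.add_apply]
        simp only [minExp]
        omega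
      rw [pairVal, blockVal, blockVal, hk]
      congr 1
      rw [finsum_eq_sum_of_fintype, finsum_eq_sum_of_fintype,
        ← Finset.sum_subset (Finset.subset_univ (Finset.univ.filter fun t : H =>
          (t : G) ∈ Subgroup.centralizer (a.1 : Set G))) (fun t _ ht => by
            rw [hEc, coeffFun_of_notMem fun h => ht (Finset.mem_filter.2 ⟨Finset.mem_univ _, h⟩),
              zero_mul])]
      refine Finset.sum_bij' (fun t ht => ⟨(t : G), (Finset.mem_filter.1 ht).2⟩)
        (fun c _ => ⟨(c : G), hCH c.2⟩) (fun _ _ => Finset.mem_univ _)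
        (fun c _ => Finset.mem_filter.2 ⟨Finset.mem_univ _, c.2⟩) (fun _ _ => rfl) (fun _ _ => rfl)
        fun t ht => ?_
      rw [hEc, coeffFun]
      exact congrArg (· * _) (BrauerMap.subgroupBlockCoeff_of_mem
        (Subgroup.centralizer (a.1 : Set G)) a.2 ⟨(t : G), (Finset.mem_filter.1 ht).2⟩)
    have h2 := hiff (fun t : H => f t) (Chars.isCharacter_restrict H hf)
    rw [h1, blockVal_image] at h2
    exact h2

/-- A height zero character is nonzero modulo `M` at every centric pair of its block. -/
theorem pairVal_not_mem (hM : IsPModular p M) {B : Set (IrrCharacter G)} {a b : BrauerPairIdx G}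
    (hb : IsMaximalBrauerPair p M B b.1 b.2) (hab : PairLE p M a b) (ha : IsCentricPair p M a)
    {χ : IrrCharacter G} (hχ : χ ∈ B) (h0 : blockHeight p B (χ : G → ℂ) = 0) :
    ¬ MemLocalIdeal M (pairVal p a (χ : G → ℂ)) := by
  induction hn : Nat.card b.1 - Nat.card a.1 using Nat.strong_induction_on generalizing a with
  | _ n ih =>
    have hbp : IsPair p M b := hb.1.1
    rcases (pairLE_fst_le hab).eq_or_lt with heq | hlt
    · rw [pairLE_unique hM hbp hab Relation.ReflTransGen.refl heq]
      exact ((exists_transfer hM hb.1.2.1 (isDefectGroup_of_isMaximal hM hb) hb.1).2 _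
        (Chars.irr_isCharacter χ)).1 (blockVal_height_zero hM hχ h0)
    · have hlt' := BrauerMap.lt_inf_normalizer_of_lt hM.1 hbp.1 hlt
      obtain ⟨g, hg, hgb⟩ := exists_normal_between hM hbp hab hlt'.le inf_le_left inf_le_right
      have hap : IsPair p M a := hbp.of_pairLE hab
      have hPC : b.1 ⊓ Subgroup.centralizer (a.1 : Set G) ≤ a.1 := by
        obtain ⟨D, hD, hle⟩ := exists_defect_ge_inf hM hbp hab
        have hZle : a.1 ⊓ Subgroup.centralizer (a.1 : Set G) ≤
            b.1 ⊓ Subgroup.centralizer (a.1 : Set G) :=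
          inf_le_inf_right _ (pairLE_fst_le hab)
        rw [← Subgroup.eq_of_le_of_card_ge hZle ?_]
        · exact inf_le_left
        · rw [← PairDefectZero.card_zOf a.1, card_defectGroup hM hap.2 ha,
            ← card_defectGroup hM hap.2 hD]
          exact (Nat.card_congr (Subgroup.subgroupOfEquivOfLe inf_le_right).toEquiv).symm.le.trans
            (Subgroup.card_le_of_le hle)
      obtain ⟨hgc, hiff⟩ := step hM hg ha ((inf_le_inf_right _ inf_le_left).trans hPC)
      refine (hiff _ (Chars.irr_isCharacter χ)).2 (ih _ ?_ (a := ⟨_, g⟩) hgb hgc rfl)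
      have h1 : Nat.card a.1 < Nat.card ↥(b.1 ⊓ Subgroup.normalizer (a.1 : Set G)) :=
        lt_of_le_of_ne (Subgroup.card_le_of_le hlt'.le) fun e =>
          hlt'.ne (Subgroup.eq_of_le_of_card_ge hlt'.le e.ge)
      have h2 := Subgroup.card_le_of_le
        (inf_le_left : b.1 ⊓ Subgroup.normalizer (a.1 : Set G) ≤ b.1)
      dsimp only
      omega

/-- The block part of a height zero character at a subsection. -/
theorem blockVal_subsection (hM : IsPModular p M) {B : Set (IrrCharacter G)} {u : G}
    (hu : ∃ j : ℕ, orderOf u = p ^ j)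
    {b : Set (IrrCharacter (Subgroup.centralizer ({u} : Set G)))}
    (hb : IsInducedBlock M (Subgroup.centralizer ({u} : Set G)) b B)
    {χ : IrrCharacter G} (hχ : χ ∈ B) (h0 : blockHeight p B (χ : G → ℂ) = 0) :
    ¬ MemLocalIdeal M (blockVal p b fun c : Subgroup.centralizer ({u} : Set G) => (χ : G → ℂ) c) := by
  classical
  cases nonempty_fintype G
  have : Fintype (Subgroup.centralizer ({u} : Set G)) := Fintype.ofFinite _
  obtain ⟨Q, hQ⟩ := Blocks.exists_isDefectGroup (p := p) hb.1
  obtain ⟨y, hy, hyQ⟩ := isDefectGroup_iff.1 hQ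
  obtain ⟨e', he'⟩ := exists_pair_of_unit hM hb.1 hyQ.1
    (le_centralizer_singleton_iff.1 hyQ.2.1) hy.2.1
  obtain ⟨hdef, hiff⟩ := exists_transfer hM hb.1 hQ he'
  obtain ⟨P, hP⟩ : ∃ P : Subgroup G, P = Q.map (Subgroup.centralizer ({u} : Set G)).subtype := ⟨_, rfl⟩
  have hPle : P ≤ (Subgroup.centralizer ({u} : Set G)) := hP ▸ Subgroup.map_subtype_le _
  have hPsub : P.subgroupOf (Subgroup.centralizer ({u} : Set G)) = Q :=
    hP ▸ Subgroup.comap_map_eq_self_of_injective (Subgroup.subtype_injective _) Q
  have huP : u ∈ P := by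
    have huCu : u ∈ (Subgroup.centralizer ({u} : Set G)) := Subgroup.mem_centralizer_singleton_iff.2 rfl
    have hcen : (⟨u, huCu⟩ : (Subgroup.centralizer ({u} : Set G))) ∈ Subgroup.center (Subgroup.centralizer ({u} : Set G)) := Subgroup.mem_center_iff.2 fun c =>
      Subtype.ext (Subgroup.mem_centralizer_singleton_iff.1 c.2)
    haveI : (Subgroup.zpowers (⟨u, huCu⟩ : (Subgroup.centralizer ({u} : Set G)))).Normal := ⟨fun z hz g => by
      rw [Subgroup.mem_center_iff.1 (Subgroup.zpowers_le.2 hcen hz) g, mul_inv_cancel_right]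
      exact hz⟩
    obtain ⟨j, hj⟩ := hu
    rw [hP]
    exact ⟨_, normal_le_defectGroup hM (IsPGroup.of_card (n := j)
      (by rw [Nat.card_zpowers, Subgroup.orderOf_mk u huCu, hj])) hb.1 hQ (Subgroup.mem_zpowers _), rfl⟩
  have hCP : Subgroup.centralizer (P : Set G) ≤ (Subgroup.centralizer ({u} : Set G)) := fun c hc =>
    Subgroup.mem_centralizer_singleton_iff.2 (Subgroup.mem_centralizer_iff.1 hc u huP).symm
  subst hPsub
  set κ := centInside hPle hCP with hκ
  set e : Set (IrrCharacter (Subgroup.centralizer (P : Set G))) := Chars.irrCongr κ.symm '' e'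
    with he
  have hpair : IsBrauerPairOf p M B P e := by
    refine ⟨⟨hyQ.1.of_equiv (Subgroup.subgroupOfEquivOfLe hPle),
      BrauerMap.isPBlock_image_irrCongr _ he'.1.2⟩, hb.2.1, ?_⟩
    rintro _ ⟨ξ, hξ, rfl⟩
    have hξeq : Chars.irrCongr κ (Chars.irrCongr κ.symm ξ) = ξ :=
      Subtype.ext (funext fun c => by simp)
    rw [← brauerOmega_inside hPle hCP, ← hκ, hξeq]
    -- the restriction of the idempotent of B
    obtain ⟨ψ, hψ⟩ := Blocks.isPBlock_nonempty hb.1
    obtain ⟨χ', hχ'⟩ := Blocks.isPBlock_nonempty hb.2.1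
    let z : RCenter M (Subgroup.centralizer ({u} : Set G)) := ⟨ofFun fun h : (Subgroup.centralizer ({u} : Set G)) =>
      (blockIdem M hb.2.1 : MonoidAlgebra (localRing M) G).coeff (h : G), by
        rw [mem_center_iff]
        intro g h
        simp only [coeff_ofFun, Subgroup.coe_mul, Subgroup.coe_inv]
        exact mem_center_iff.1 (blockIdem M hb.2.1).2 _ _⟩
    have hzc : ∀ h : (Subgroup.centralizer ({u} : Set G)), blockCoeff B (h : G) =
        (((z : MonoidAlgebra (localRing M) (Subgroup.centralizer ({u} : Set G))).coeff h : localRing M) : ℂ) := fun h => by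
      simp only [z, coeff_ofFun, coe_coeff_blockIdem]
    have hz1 : omegaBar M ψ z = 1 := by
      rw [omegaBar_apply, ← map_one (residue M), residue_eq_iff, coe_omegaR, omega_eq_sum,
        Subring.coe_one]
      have h1 := HeightZero.eval_congr_induced (fun g h => blockCoeff_conj B g h)
        (fun g => memLocalRing_blockCoeff hb.2.1 g) hb hψ hχ'
      rw [Covering.sum_blockCoeff_eq_ite B χ', if_pos hχ'] at h1
      convert h1 using 2
      refine Finset.sum_congr rfl fun h _ => ?_
      rw [coeff_mapRingHom, Subring.coe_subtype, ← hzc]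
      ring
    have hfor := (isPairFor_top_iff hM hb.1 hψ (a := ⟨_, e'⟩)).2 he'
    obtain ⟨hPp, hcle, hbe, hωe⟩ := hfor
    have h2 := hωe ξ hξ ⟨_, BrauerMap.center_le_fixedRing ⊤ z.2⟩
    rw [show omegaTop ψ (⟨_, BrauerMap.center_le_fixedRing ⊤ z.2⟩ :
        fixedRing M (⊤ : Subgroup (Subgroup.centralizer ({u} : Set G)))) = 1 from hz1] at h2
    exact (BrauerMap.brauerOmega_congr_one_iff hM hPp ξ _ _ fun x _ => hzc x).2 h2
  have hcentric : IsCentricPair p M (⟨P, e⟩ : BrauerPairIdx G) := by
    rw [isCentricPair_iff hM hpair.1]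
    show p ^ blockDefect p e = _
    rw [he, blockDefect_image, ← card_zOf_inside hPle hCP]
    exact (card_defectGroup hM he'.1.2 hdef).symm
  obtain ⟨m, hm, hle⟩ := exists_isMaximal_above (b := ⟨P, e⟩) hM hpair
  have hval := pairVal_not_mem hM hm hle hcentric hχ h0
  refine (hiff _ (Chars.isCharacter_restrict (Subgroup.centralizer ({u} : Set G)) (Chars.irr_isCharacter χ))).2 ?_
  convert hval using 2
  rw [pairVal]
  show _ = blockVal p e _
  rw [he, blockVal_image]
  rfl

end Cfsg.Agent.Lib.Contrib
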