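import Mathlib
import Cfsg.Agent.Lib.Blocks.LocalRing

/-!
# Averages over the primitive residues of integer combinations of roots of unity

A function `F` of `t : ℕ` is cyclic when `F t` is a fixed integer polynomial at `ζ ^ t`, for a
primitive root of unity `ζ` of order `p ^ k`.  Lower bounds for the sums of `‖F t‖ ^ 2` over the
`t` prime to `p` are proved.
-/

set_option autoImplicit false

namespace Cfsg.Agent.Lib.Contrib

open Cfsg Polynomial
open Cfsg.Agent.Lib.Blocks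
open scoped ComplexConjugate

/-- `F t` is an integer polynomial at `ζ ^ t`. -/
def IsCyc (ζ : ℂ) (F : ℕ → ℂ) : Prop := ∃ P : ℤ[X], ∀ t, F t = aeval (ζ ^ t) P

namespace IsCyc

variable {ζ : ℂ} {F F' : ℕ → ℂ}

theorem intCast (a : ℤ) : IsCyc ζ fun _ => (a : ℂ) := ⟨C a, fun t => by simp⟩

theorem add (h : IsCyc ζ F) (h' : IsCyc ζ F') : IsCyc ζ fun t => F t + F' t := by
  obtain ⟨P, hP⟩ := h
  obtain ⟨P', hP'⟩ := h'
  exact ⟨P + P', fun t => by simp [hP t, hP' t]⟩

theorem mul (h : IsCyc ζ F) (h' : IsCyc ζ F') : IsCyc ζ fun t => F t * F' t := by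
  obtain ⟨P, hP⟩ := h
  obtain ⟨P', hP'⟩ := h'
  exact ⟨P * P', fun t => by simp [hP t, hP' t]⟩

theorem sum {ι : Type*} (s : Finset ι) {f : ι → ℕ → ℂ} (h : ∀ i ∈ s, IsCyc ζ (f i)) :
    IsCyc ζ fun t => ∑ i ∈ s, f i t := by
  classical
  induction s using Finset.induction_on with
  | empty => exact ⟨0, fun t => by simp⟩
  | insert a s ha ih =>
    simp only [Finset.sum_insert ha]
    exact (h a (Finset.mem_insert_self _ _)).add (ih fun i hi => h i (Finset.mem_insert_of_mem hi))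

theorem root_pow {n : ℕ} [NeZero n] (hζ : IsPrimitiveRoot ζ n) {z : ℂ} (hz : z ^ n = 1) :
    IsCyc ζ fun t => z ^ t := by
  obtain ⟨i, -, rfl⟩ := hζ.eq_pow_of_pow_eq_one hz
  exact ⟨X ^ i, fun t => by simp [← pow_mul, mul_comm i t]⟩

theorem conj' {n : ℕ} [NeZero n] (hζ : IsPrimitiveRoot ζ n) (h : IsCyc ζ F) :
    IsCyc ζ fun t => conj (F t) := by
  obtain ⟨P, hP⟩ := h
  refine ⟨P.comp (X ^ (n - 1)), fun t => ?_⟩
  have hn : 0 < n := Nat.pos_of_ne_zero (NeZero.ne n)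
  have h1 : conj (ζ ^ t) = (ζ ^ t) ^ (n - 1) := by
    have e : (ζ ^ t) ^ n = 1 := by rw [← pow_mul, mul_comm, pow_mul, hζ.pow_eq_one, one_pow]
    rw [← Complex.inv_eq_conj (Complex.norm_eq_one_of_pow_eq_one e hn.ne')]
    exact inv_eq_of_mul_eq_one_right (by rw [← pow_succ', Nat.sub_add_cancel hn, e])
  show conj (F t) = _
  rw [hP t, aeval_comp, map_pow (aeval (ζ ^ t)), aeval_X, ← h1, aeval_def, aeval_def, hom_eval₂]
  congr 1
  exact RingHom.ext_int _ _

end IsCyc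

/-- The residues below `p ^ k` prime to `p`. -/
def primResidues (p k : ℕ) : Finset ℕ := (Finset.range (p ^ k)).filter fun t => ¬ p ∣ t

variable {p k : ℕ} {ζ : ℂ}

theorem card_primResidues (hp : p.Prime) (hk : 0 < k) :
    (primResidues p k).card = p ^ (k - 1) * (p - 1) := by
  rw [primResidues, ← Nat.totient_prime_pow hp hk, Nat.totient_eq_card_coprime]
  congr 1
  refine Finset.filter_congr fun t _ => ?_
  rw [Nat.coprime_pow_left_iff hk, hp.coprime_iff_not_dvd]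

theorem one_mem_primResidues (hp : p.Prime) (hk : 0 < k) : 1 ∈ primResidues p k :=
  Finset.mem_filter.2 ⟨Finset.mem_range.2 (Nat.one_lt_pow hk.ne' hp.one_lt), hp.not_dvd_one⟩

theorem sum_root_pow (hp : p.Prime) (hk : 0 < k) {z : ℂ} (hz : z ^ p ^ k = 1) :
    ∑ t ∈ primResidues p k, z ^ t =
      (if z = 1 then (p : ℂ) ^ k else 0) - if z ^ p = 1 then (p : ℂ) ^ (k - 1) else 0 := by
  classical
  have geo : ∀ (w : ℂ) (m : ℕ), w ^ m = 1 → ∑ t ∈ Finset.range m, w ^ t =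
      if w = 1 then (m : ℂ) else 0 := by
    intro w m hw
    split_ifs with h
    · simp [h]
    · rw [geom_sum_eq h, hw, sub_self, zero_div]
  have hpk : p * p ^ (k - 1) = p ^ k := by rw [← pow_succ', Nat.sub_add_cancel hk]
  have hmul : ∑ t ∈ (Finset.range (p ^ k)).filter (fun t => p ∣ t), z ^ t =
      ∑ s ∈ Finset.range (p ^ (k - 1)), (z ^ p) ^ s := by
    refine Finset.sum_bij' (fun t _ => t / p) (fun s _ => p * s) (fun t ht => ?_) (fun s hs => ?_)
      (fun t ht => ?_) (fun s _ => ?_) fun t ht => ?_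
    · rw [Finset.mem_filter, Finset.mem_range] at ht
      rw [Finset.mem_range, Nat.div_lt_iff_lt_mul hp.pos, mul_comm, hpk]
      exact ht.1
    · rw [Finset.mem_filter, Finset.mem_range, ← hpk]
      exact ⟨Nat.mul_lt_mul_of_pos_left (Finset.mem_range.1 hs) hp.pos, dvd_mul_right _ _⟩
    · exact Nat.mul_div_cancel' (Finset.mem_filter.1 ht).2
    · exact Nat.mul_div_cancel_left _ hp.pos
    · rw [← pow_mul, Nat.mul_div_cancel' (Finset.mem_filter.1 ht).2]
  have hsplit := Finset.sum_filter_add_sum_filter_not (Finset.range (p ^ k)) (fun t => p ∣ t)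
    (fun t => z ^ t)
  rw [hmul, geo z _ hz, geo (z ^ p) _ (by rw [← pow_mul, hpk, hz])] at hsplit
  push_cast at hsplit
  rw [primResidues, ← hsplit, add_sub_cancel_left]

theorem pow_eq_one_of_dvd (hk : 0 < k) (hζ : IsPrimitiveRoot ζ (p ^ k)) {r t : ℕ}
    (h : p ∣ t) : (ζ ^ (p ^ (k - 1) * r)) ^ t = 1 := by
  obtain ⟨s, rfl⟩ := h
  rw [← pow_mul, show p ^ (k - 1) * r * (p * s) = p ^ (k - 1) * p * (r * s) by ring, ← pow_succ,
    Nat.sub_add_cancel hk, pow_mul, hζ.pow_eq_one, one_pow]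

/-- Coefficients along the classes modulo `p ^ (k - 1)`. -/
theorem IsCyc.exists_coeff (hp : p.Prime) (hk : 0 < k) (hζ : IsPrimitiveRoot ζ (p ^ k))
    {F : ℕ → ℂ} (h : IsCyc ζ F) : ∃ c : ℕ → ℕ → ℤ, ∀ t, F t =
      ∑ r ∈ Finset.range (p ^ (k - 1)), ∑ j ∈ Finset.range p,
        (c r j : ℂ) * (ζ ^ (r + p ^ (k - 1) * j)) ^ t := by
  classical
  obtain ⟨P, hP⟩ := h
  suffices hQ : ∀ Q : ℤ[X], ∃ c : ℕ → ℕ → ℤ, ∀ t, aeval (ζ ^ t) Q =
      ∑ r ∈ Finset.range (p ^ (k - 1)), ∑ j ∈ Finset.range p,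
        (c r j : ℂ) * (ζ ^ (r + p ^ (k - 1) * j)) ^ t by
    obtain ⟨c, hc⟩ := hQ P
    exact ⟨c, fun t => (hP t).trans (hc t)⟩
  intro Q
  induction Q using Polynomial.induction_on' with
  | add Q Q' ih ih' =>
    obtain ⟨c, hc⟩ := ih
    obtain ⟨c', hc'⟩ := ih'
    refine ⟨fun r j => c r j + c' r j, fun t => ?_⟩
    rw [map_add, hc t, hc' t, ← Finset.sum_add_distrib]
    refine Finset.sum_congr rfl fun r _ => ?_
    rw [← Finset.sum_add_distrib]
    exact Finset.sum_congr rfl fun j _ => by push_cast; ring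
  | monomial i a =>
    have hpk : p ^ (k - 1) * p = p ^ k := by rw [← pow_succ, Nat.sub_add_cancel hk]
    set m := i % p ^ k with hm
    have hmlt : m < p ^ k := Nat.mod_lt _ (pow_pos hp.pos _)
    refine ⟨fun r j => if r = m % p ^ (k - 1) ∧ j = m / p ^ (k - 1) then a else 0, fun t => ?_⟩
    rw [Finset.sum_eq_single (m % p ^ (k - 1)), Finset.sum_eq_single (m / p ^ (k - 1))]
    · dsimp only
      rw [if_pos ⟨rfl, rfl⟩, Nat.mod_add_div, aeval_monomial, algebraMap_int_eq, eq_intCast]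
      congr 1
      rw [← pow_mul, ← pow_mul, hm]
      conv_lhs => rw [← Nat.mod_add_div i (p ^ k)]
      rw [mul_add, pow_add, mul_comm t (p ^ k * _), mul_assoc (p ^ k), pow_mul ζ (p ^ k),
        hζ.pow_eq_one, one_pow, mul_one, mul_comm t]
    · intro j _ hj
      dsimp only
      rw [if_neg fun h => hj h.2]
      simp
    · intro hno
      exact absurd (Finset.mem_range.2 (Nat.div_lt_of_lt_mul (hpk.symm ▸ hmlt))) hno
    · intro r _ hr
      refine Finset.sum_eq_zero fun j _ => ?_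
      dsimp only
      rw [if_neg fun h => hr h.1]
      simp
    · intro hno
      exact absurd (Finset.mem_range.2 (Nat.mod_lt _ (pow_pos hp.pos _))) hno

/-- The spread of a family of integers. -/
def spread (p : ℕ) (d : ℕ → ℤ) : ℤ :=
  p * ∑ j ∈ Finset.range p, d j ^ 2 - (∑ j ∈ Finset.range p, d j) ^ 2

theorem two_mul_spread (p : ℕ) (d : ℕ → ℤ) :
    2 * spread p d = ∑ a ∈ Finset.range p, ∑ b ∈ Finset.range p, (d a - d b) ^ 2 := by
  simp only [spread, sub_sq, Finset.sum_add_distrib, Finset.sum_sub_distrib, Finset.sum_const,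
    Finset.card_range, nsmul_eq_mul, ← Finset.mul_sum, ← Finset.sum_mul, sq (∑ j ∈ _, d j)]
  ring

theorem spread_nonneg (p : ℕ) (d : ℕ → ℤ) : 0 ≤ spread p d := by
  have h := two_mul_spread p d
  have : 0 ≤ ∑ a ∈ Finset.range p, ∑ b ∈ Finset.range p, (d a - d b) ^ 2 :=
    Finset.sum_nonneg fun a _ => Finset.sum_nonneg fun b _ => sq_nonneg _
  linarith

theorem sub_one_le_spread (p : ℕ) (d : ℕ → ℤ) {x y : ℕ} (hx : x < p) (hy : y < p)
    (hne : d x ≠ d y) : (p : ℤ) - 1 ≤ spread p d := by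
  classical
  have h := two_mul_spread p d
  have hxy : x ≠ y := fun e => hne (e ▸ rfl)
  have one_le : ∀ z, (1 : ℤ) ≤ (d x - z) ^ 2 + (d y - z) ^ 2 := fun z => by
    by_contra h'
    have h1 : (d x - z) ^ 2 = 0 := by nlinarith [sq_nonneg (d x - z), sq_nonneg (d y - z)]
    have h2 : (d y - z) ^ 2 = 0 := by nlinarith [sq_nonneg (d x - z), sq_nonneg (d y - z)]
    rw [sq_eq_zero_iff, sub_eq_zero] at h1 h2
    exact hne (h1.trans h2.symm)
  set s := Finset.range p with hs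
  have hsub : ({x, y} : Finset ℕ) ⊆ s := by
    intro z hz
    rw [Finset.mem_insert, Finset.mem_singleton] at hz
    exact Finset.mem_range.2 (hz.elim (fun e => e ▸ hx) (fun e => e ▸ hy))
  rw [← Finset.sum_sdiff hsub, Finset.sum_pair hxy] at h
  have h1 : (p : ℤ) ≤ (∑ b ∈ s, (d x - d b) ^ 2) + ∑ b ∈ s, (d y - d b) ^ 2 := by
    rw [← Finset.sum_add_distrib]
    calc (p : ℤ) = ∑ _b ∈ s, (1 : ℤ) := by simp [hs]
      _ ≤ _ := Finset.sum_le_sum fun b _ => one_le (d b)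
  have h2 : (p : ℤ) - 2 ≤ ∑ a ∈ s \ {x, y}, ∑ b ∈ s, (d a - d b) ^ 2 := by
    calc (p : ℤ) - 2 = ∑ _a ∈ s \ {x, y}, (1 : ℤ) := by
          rw [Finset.sum_const, Finset.card_sdiff_of_subset hsub, Finset.card_pair hxy,
            Finset.card_range, nsmul_eq_mul, mul_one, Nat.cast_sub (by omega)]
          rfl
      _ ≤ _ := Finset.sum_le_sum fun a _ => by
          refine le_trans ?_ (Finset.sum_le_sum_of_subset_of_nonneg hsub fun b _ _ => sq_nonneg _)
          rw [Finset.sum_pair hxy]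
          calc (1 : ℤ) ≤ (d x - d a) ^ 2 + (d y - d a) ^ 2 := one_le (d a)
            _ = _ := by ring
  linarith

section

variable {c : ℕ → ℕ → ℤ} {F : ℕ → ℂ}
  (hF : ∀ t, F t = ∑ r ∈ Finset.range (p ^ (k - 1)), ∑ j ∈ Finset.range p,
    (c r j : ℂ) * (ζ ^ (r + p ^ (k - 1) * j)) ^ t)

include hF

theorem sum_norm_sq (hp : p.Prime) (hk : 0 < k) (hζ : IsPrimitiveRoot ζ (p ^ k)) :
    ∑ t ∈ primResidues p k, ‖F t‖ ^ 2 =
      (p : ℝ) ^ (k - 1) * ((∑ r ∈ Finset.range (p ^ (k - 1)), spread p (c r) : ℤ) : ℝ) := by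
  classical
  apply Complex.ofReal_injective
  push_cast
  set q := p ^ (k - 1) with hq
  have hqp : q * p = p ^ k := by rw [hq, ← pow_succ, Nat.sub_add_cancel hk]
  haveI : NeZero (p ^ k) := ⟨pow_ne_zero _ hp.ne_zero⟩
  have hne0 : ζ ≠ 0 := hζ.ne_zero (pow_ne_zero _ hp.ne_zero)
  set I := Finset.range q ×ˢ Finset.range p with hI
  set e : ℕ × ℕ → ℕ := fun x => x.1 + q * x.2 with he
  have helt : ∀ x ∈ I, e x < p ^ k := fun x hx => by
    rw [hI, Finset.mem_product, Finset.mem_range, Finset.mem_range] at hx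
    calc x.1 + q * x.2 < q + q * x.2 := by omega
      _ = q * (x.2 + 1) := by ring
      _ ≤ q * p := Nat.mul_le_mul_left _ hx.2
      _ = p ^ k := hqp
  have hF' : ∀ t, F t = ∑ x ∈ I, (c x.1 x.2 : ℂ) * (ζ ^ e x) ^ t := fun t => by
    rw [hF t, hI, Finset.sum_product]
  have hmod : ∀ x ∈ I, e x % q = x.1 ∧ e x / q = x.2 := fun x hx => by
    rw [hI, Finset.mem_product, Finset.mem_range, Finset.mem_range] at hx
    have hq0 : 0 < q := pow_pos hp.pos _
    exact ⟨by rw [he]; simp [Nat.mod_eq_of_lt hx.1],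
      by rw [he]; simp [Nat.add_mul_div_left _ _ hq0, Nat.div_eq_of_lt hx.1]⟩
  have key : ∀ x ∈ I, ∀ y ∈ I, ∑ t ∈ primResidues p k, (ζ ^ e x) ^ t * conj ((ζ ^ e y) ^ t) =
      (if x = y then (p : ℂ) ^ k else 0) - if x.1 = y.1 then (p : ℂ) ^ (k - 1) else 0 := by
    intro x hx y hy
    have hc : conj (ζ ^ e y) = (ζ ^ e y)⁻¹ :=
      (Complex.inv_eq_conj (by rw [norm_pow, hζ.norm'_eq_one (pow_ne_zero _ hp.ne_zero), one_pow])).symm
    have hy0 : ζ ^ e y ≠ 0 := pow_ne_zero _ hne0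
    have hpw : ∀ i : ℕ, (ζ ^ i) ^ p ^ k = 1 := fun i => by
      rw [← pow_mul, mul_comm, pow_mul, hζ.pow_eq_one, one_pow]
    have h1 : ζ ^ e x * (ζ ^ e y)⁻¹ = 1 ↔ x = y := by
      rw [mul_inv_eq_one₀ hy0]
      exact ⟨fun h => by
        have := hζ.pow_inj (helt x hx) (helt y hy) h
        exact Prod.ext (((hmod x hx).1.symm.trans (by rw [this])).trans (hmod y hy).1)
          (((hmod x hx).2.symm.trans (by rw [this])).trans (hmod y hy).2), fun h => h ▸ rfl⟩
    have h2 : (ζ ^ e x * (ζ ^ e y)⁻¹) ^ p = 1 ↔ x.1 = y.1 := by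
      rw [mul_pow, inv_pow, mul_inv_eq_one₀ (pow_ne_zero _ hy0), ← pow_mul, ← pow_mul]
      have hmodEq : ∀ u v : ℕ, ζ ^ u = ζ ^ v ↔ u ≡ v [MOD q * p] := fun u v => by
        rw [hqp, ← pow_mod_orderOf ζ u, ← pow_mod_orderOf ζ v, ← hζ.eq_orderOf]
        exact ⟨fun h => hζ.pow_inj (Nat.mod_lt _ (pow_pos hp.pos _))
          (Nat.mod_lt _ (pow_pos hp.pos _)) h, fun h => congrArg (ζ ^ ·) h⟩
      rw [hmodEq]
      constructor
      · intro h
        have h' : e x ≡ e y [MOD q] := Nat.ModEq.mul_right_cancel' hp.ne_zero h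
        exact ((hmod x hx).1.symm.trans h').trans (hmod y hy).1
      · intro h
        exact Nat.ModEq.mul_right' p (show e x % q = e y % q by
          rw [(hmod x hx).1, (hmod y hy).1, h])
    rw [Finset.sum_congr rfl (g := fun t => (ζ ^ e x * (ζ ^ e y)⁻¹) ^ t) fun t _ => by
      rw [map_pow, hc, mul_pow], sum_root_pow hp hk (by rw [mul_pow, inv_pow, hpw, hpw]; simp)]
    simp only [h1, h2]
  calc ∑ t ∈ primResidues p k, ((‖F t‖ : ℂ)) ^ 2
      = ∑ t ∈ primResidues p k, ∑ x ∈ I, ∑ y ∈ I,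
          (c x.1 x.2 : ℂ) * (c y.1 y.2 : ℂ) * ((ζ ^ e x) ^ t * conj ((ζ ^ e y) ^ t)) := by
        refine Finset.sum_congr rfl fun t _ => ?_
        rw [← Complex.ofReal_pow, ← Complex.normSq_eq_norm_sq, ← Complex.mul_conj, hF', map_sum,
          Finset.sum_mul_sum]
        refine Finset.sum_congr rfl fun x _ => Finset.sum_congr rfl fun y _ => ?_
        rw [map_mul, map_intCast]
        ring
    _ = ∑ x ∈ I, ∑ y ∈ I, (c x.1 x.2 : ℂ) * (c y.1 y.2 : ℂ) *
          ((if x = y then (p : ℂ) ^ k else 0) - if x.1 = y.1 then (p : ℂ) ^ (k - 1) else 0) := by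
        rw [Finset.sum_comm]
        refine Finset.sum_congr rfl fun x hx => ?_
        rw [Finset.sum_comm]
        refine Finset.sum_congr rfl fun y hy => ?_
        rw [← Finset.mul_sum, key x hx y hy]
    _ = _ := by
        have hpp : (p : ℂ) ^ k = (p : ℂ) ^ (k - 1) * p := by
          rw [← pow_succ, Nat.sub_add_cancel hk]
        have S1 : ∑ x ∈ I, ∑ y ∈ I,
            (if x = y then (c x.1 x.2 : ℂ) * (c y.1 y.2 : ℂ) * (p : ℂ) ^ k else 0) =
            ∑ r ∈ Finset.range q, (p : ℂ) ^ k * ∑ j ∈ Finset.range p, (c r j : ℂ) ^ 2 := by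
          simp only [Finset.sum_ite_eq]
          rw [Finset.sum_congr rfl fun x hx => if_pos hx, hI, Finset.sum_product]
          refine Finset.sum_congr rfl fun r _ => ?_
          rw [Finset.mul_sum]
          exact Finset.sum_congr rfl fun j _ => by ring
        have S2 : ∑ x ∈ I, ∑ y ∈ I,
            (if x.1 = y.1 then (c x.1 x.2 : ℂ) * (c y.1 y.2 : ℂ) * (p : ℂ) ^ (k - 1) else 0) =
            ∑ r ∈ Finset.range q,
              (p : ℂ) ^ (k - 1) * (∑ j ∈ Finset.range p, (c r j : ℂ)) ^ 2 := by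
          rw [hI, Finset.sum_product]
          refine Finset.sum_congr rfl fun r hr => ?_
          rw [sq, Finset.sum_mul, Finset.mul_sum]
          refine Finset.sum_congr rfl fun j _ => ?_
          rw [Finset.sum_product, Finset.sum_eq_single r (fun r' _ hr' =>
            Finset.sum_eq_zero fun j' _ => if_neg hr'.symm) (fun h => absurd hr h), Finset.mul_sum,
            Finset.mul_sum]
          refine Finset.sum_congr rfl fun j' _ => ?_
          rw [if_pos rfl]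
          ring
        simp only [mul_sub, Finset.sum_sub_distrib, mul_ite, mul_zero]
        rw [S1, S2, ← Finset.sum_sub_distrib]
        simp only [spread, Int.cast_sum, Int.cast_sub, Int.cast_mul, Int.cast_pow,
          Int.cast_natCast, Finset.mul_sum (s := Finset.range q)]
        refine Finset.sum_congr rfl fun r _ => ?_
        rw [hpp]
        ring

theorem apply_eq_zero_of_const (hp : p.Prime) (hk : 0 < k) (hζ : IsPrimitiveRoot ζ (p ^ k))
    {t : ℕ} (ht : ¬ p ∣ t)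
    (hconst : ∀ r < p ^ (k - 1), ∀ x < p, ∀ y < p, c r x = c r y) : F t = 0 := by
  rw [hF t]
  refine Finset.sum_eq_zero fun r hr => ?_
  have hr' := Finset.mem_range.1 hr
  rw [Finset.sum_congr rfl (g := fun j => (c r 0 : ℂ) * (ζ ^ r) ^ t *
    ((ζ ^ (p ^ (k - 1))) ^ t) ^ j) (fun j hj => by
      rw [hconst r hr' j (Finset.mem_range.1 hj) 0 hp.pos, pow_add, mul_pow, pow_mul]
      ring), ← Finset.mul_sum]
  refine mul_eq_zero_of_right _ ?_
  have hw : ((ζ ^ (p ^ (k - 1))) ^ t) ^ p = 1 := by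
    rw [← pow_mul, ← pow_mul, show p ^ (k - 1) * (t * p) = p ^ (k - 1) * p * t by ring, ← pow_succ,
      Nat.sub_add_cancel hk, pow_mul, hζ.pow_eq_one, one_pow]
  have hw1 : (ζ ^ (p ^ (k - 1))) ^ t ≠ 1 := fun h => ht (by
    rw [← pow_mul, hζ.pow_eq_one_iff_dvd] at h
    rw [show p ^ k = p ^ (k - 1) * p by rw [← pow_succ, Nat.sub_add_cancel hk]] at h
    exact Nat.dvd_of_mul_dvd_mul_left (pow_pos hp.pos _) h)
  rw [geom_sum_eq hw1, hw, sub_self, zero_div]

end

/-- A cyclic function not vanishing at `1` has mean square at least one. -/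
theorem IsCyc.card_le_sum_norm_sq {F : ℕ → ℂ} (hp : p.Prime) (hk : 0 < k)
    (hζ : IsPrimitiveRoot ζ (p ^ k)) (h : IsCyc ζ F) (h1 : F 1 ≠ 0) :
    ((primResidues p k).card : ℝ) ≤ ∑ t ∈ primResidues p k, ‖F t‖ ^ 2 := by
  obtain ⟨c, hc⟩ := h.exists_coeff hp hk hζ
  rw [sum_norm_sq hc hp hk hζ, card_primResidues hp hk, Nat.cast_mul, Nat.cast_pow]
  refine mul_le_mul_of_nonneg_left ?_ (by positivity)
  obtain ⟨r, hr, x, hx, y, hy, hne⟩ : ∃ r < p ^ (k - 1), ∃ x < p, ∃ y < p, c r x ≠ c r y := by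
    by_contra hno
    push Not at hno
    exact h1 (apply_eq_zero_of_const hc hp hk hζ hp.not_dvd_one hno)
  have hle : ((p - 1 : ℕ) : ℤ) ≤ ∑ r ∈ Finset.range (p ^ (k - 1)), spread p (c r) := by
    refine le_trans ?_ (Finset.single_le_sum (fun i _ => spread_nonneg p (c i))
      (Finset.mem_range.2 hr))
    have := sub_one_le_spread p (c r) hx hy hne
    have := hp.one_lt
    omega
  exact_mod_cast hle

variable {M : Ideal AlgInt}

/-- A nonzero cyclic value in the local ideal has a larger mean square. -/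
theorem IsCyc.pow_le_sum_norm_sq [M.IsPrime] {F : ℕ → ℂ} (hM : IsPModular p M) (hk : 0 < k)
    (hζ : IsPrimitiveRoot ζ (p ^ k)) (h : IsCyc ζ F) (h1 : F 1 ≠ 0)
    (hmem : MemLocalIdeal M (F 1)) :
    (p : ℝ) ^ k ≤ ∑ t ∈ primResidues p k, ‖F t‖ ^ 2 := by
  have hp := hM.1
  obtain ⟨c, hc⟩ := h.exists_coeff hp hk hζ
  rw [sum_norm_sq hc hp hk hζ]
  conv_lhs => rw [← Nat.sub_add_cancel hk, pow_succ]
  refine mul_le_mul_of_nonneg_left ?_ (by positivity)
  set q := p ^ (k - 1) with hq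
  obtain ⟨r, hr, x, hx, y, hy, hne⟩ : ∃ r < q, ∃ x < p, ∃ y < p, c r x ≠ c r y := by
    by_contra hno
    push Not at hno
    exact h1 (apply_eq_zero_of_const hc hp hk hζ hp.not_dvd_one hno)
  have hsum : (p : ℤ) ∣ ∑ r ∈ Finset.range q, ∑ j ∈ Finset.range p, c r j := by
    rw [← memLocalIdeal_intCast_iff hM]
    have hroot : ∀ i : ℕ, MemLocalIdeal M ((ζ ^ i) ^ 1 - 1) := fun i =>
      memLocalIdeal_sub_one_of_pow_eq_one hM (k := k) (by
        rw [pow_one, ← pow_mul, mul_comm, pow_mul, hζ.pow_eq_one, one_pow])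
    have := memLocalIdeal_sub hmem (memLocalIdeal_sum (Finset.range q)
      (fun r => ∑ j ∈ Finset.range p, (c r j : ℂ) * ((ζ ^ (r + q * j)) ^ 1 - 1))
      fun r _ => memLocalIdeal_sum _ _ fun j _ => memLocalIdeal_mul_left
        (mem_localRing.1 (intCast_mem_localRing _)) (hroot _))
    rw [hc 1, ← Finset.sum_sub_distrib] at this
    convert this using 1
    push_cast
    refine Finset.sum_congr rfl fun r _ => ?_
    rw [← Finset.sum_sub_distrib]
    exact Finset.sum_congr rfl fun j _ => by ring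
  suffices hle : (p : ℤ) ≤ ∑ r ∈ Finset.range q, spread p (c r) by exact_mod_cast hle
  by_cases h2 : ∃ r' < q, r' ≠ r ∧ ∃ x' < p, ∃ y' < p, c r' x' ≠ c r' y'
  · obtain ⟨r', hr', hrr, x', hx', y', hy', hne'⟩ := h2
    have hsub : ({r, r'} : Finset ℕ) ⊆ Finset.range q := by
      intro z hz
      rw [Finset.mem_insert, Finset.mem_singleton] at hz
      exact Finset.mem_range.2 (hz.elim (fun e => e ▸ hr) (fun e => e ▸ hr'))
    refine le_trans ?_ (Finset.sum_le_sum_of_subset_of_nonneg hsub fun i _ _ => spread_nonneg p (c i))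
    rw [Finset.sum_pair hrr.symm]
    have := sub_one_le_spread p (c r) hx hy hne
    have := sub_one_le_spread p (c r') hx' hy' hne'
    have := hp.two_le
    omega
  · push Not at h2
    refine le_trans ?_ (Finset.single_le_sum (fun i _ => spread_nonneg p (c i))
      (Finset.mem_range.2 hr))
    have hdr : (p : ℤ) ∣ ∑ j ∈ Finset.range p, c r j := by
      rw [← Finset.add_sum_erase _ _ (Finset.mem_range.2 hr)] at hsum
      refine (dvd_add_left (Finset.dvd_sum fun r' hr' => ?_)).1 hsum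
      obtain ⟨hne', hr''⟩ := Finset.mem_erase.1 hr'
      rw [Finset.sum_congr rfl fun j hj => h2 r' (Finset.mem_range.1 hr'') hne' j
        (Finset.mem_range.1 hj) 0 hp.pos, Finset.sum_const, Finset.card_range, nsmul_eq_mul]
      exact dvd_mul_right _ _
    refine Int.le_of_dvd ?_ ?_
    · have := sub_one_le_spread p (c r) hx hy hne
      have := hp.two_le
      omega
    · exact dvd_sub (dvd_mul_right _ _) (dvd_pow hdr two_ne_zero)

end Cfsg.Agent.Lib.Contrib

namespace Cfsg.Agent.Lib.Contrib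

open Cfsg Polynomial
open Cfsg.Agent.Lib.Blocks

variable {p k : ℕ} {ζ : ℂ}

/-- Vanishing at `1` spreads to all residues prime to `p`. -/
theorem IsCyc.apply_eq_zero {F : ℕ → ℂ} (hp : p.Prime) (hζ : IsPrimitiveRoot ζ (p ^ k))
    (h : IsCyc ζ F) (h1 : F 1 = 0) {t : ℕ} (ht : ¬ p ∣ t) : F t = 0 := by
  obtain ⟨P, hP⟩ := h
  rw [hP 1, pow_one] at h1
  obtain ⟨R, hR⟩ := minpoly.isIntegrallyClosed_dvd (hζ.isIntegral (pow_pos hp.pos k)) h1
  rw [hP t, hR, hζ.minpoly_eq_pow_coprime (Nat.Coprime.pow_right k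
    (hp.coprime_iff_not_dvd.2 ht).symm), map_mul, minpoly.aeval, zero_mul]

/-- Modulo `M` a cyclic function is a constant integer. -/
theorem IsCyc.exists_int_congr {M : Ideal AlgInt} [M.IsPrime] {F : ℕ → ℂ} (hM : IsPModular p M)
    (hζ : IsPrimitiveRoot ζ (p ^ k)) (h : IsCyc ζ F) :
    ∃ a : ℤ, ∀ t, MemLocalIdeal M (F t - a) := by
  obtain ⟨P, hP⟩ := h
  refine ⟨P.eval 1, fun t => ?_⟩
  have hz : (ζ ^ t) ^ p ^ k = 1 := by rw [← pow_mul, mul_comm, pow_mul, hζ.pow_eq_one, one_pow]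
  rw [hP t]
  clear hP
  induction P using Polynomial.induction_on' with
  | add P Q ihP ihQ =>
    have h' := memLocalIdeal_add ihP ihQ
    convert h' using 1
    rw [map_add, eval_add, Int.cast_add]
    ring
  | monomial i a =>
    have h' := memLocalIdeal_mul_left (mem_localRing.1 (intCast_mem_localRing (M := M) a))
      (memLocalIdeal_sub_one_of_pow_eq_one hM (z := (ζ ^ t) ^ i) (k := k)
        (by rw [← pow_mul, mul_comm, pow_mul, hz, one_pow]))
    convert h' using 1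
    simp
    ring

end Cfsg.Agent.Lib.Contrib

namespace Cfsg.Agent.Lib.Contrib

open Cfsg Polynomial
open Cfsg.Agent.Lib.Blocks
open scoped ComplexConjugate

variable {p k : ℕ} {ζ : ℂ}

/-- Complex conjugation acts on the exponent. -/
theorem IsCyc.conj_apply {n : ℕ} [NeZero n] (hζ : IsPrimitiveRoot ζ n) {F : ℕ → ℂ}
    (h : IsCyc ζ F) (t : ℕ) : conj (F t) = F (t * (n - 1)) := by
  obtain ⟨P, hP⟩ := h
  have hn : 0 < n := Nat.pos_of_ne_zero (NeZero.ne n)
  have e : (ζ ^ t) ^ n = 1 := by rw [← pow_mul, mul_comm, pow_mul, hζ.pow_eq_one, one_pow]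
  have h1 : conj (ζ ^ t) = ζ ^ (t * (n - 1)) := by
    rw [pow_mul, ← Complex.inv_eq_conj (Complex.norm_eq_one_of_pow_eq_one e hn.ne')]
    exact inv_eq_of_mul_eq_one_right (by rw [← pow_succ', Nat.sub_add_cancel hn, e])
  rw [hP t, hP _, ← h1, aeval_def, aeval_def, hom_eval₂]
  congr 1
  exact RingHom.ext_int _ _

/-- Modulo `M` a cyclic function and its conjugate are the same integer. -/
theorem IsCyc.exists_int_congr_conj {M : Ideal AlgInt} [M.IsPrime] {F : ℕ → ℂ} (hM : IsPModular p M)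
    (hζ : IsPrimitiveRoot ζ (p ^ k)) (h : IsCyc ζ F) :
    ∃ a : ℤ, ∀ t, MemLocalIdeal M (F t - a) ∧ MemLocalIdeal M (conj (F t) - a) := by
  haveI : NeZero (p ^ k) := ⟨pow_ne_zero _ hM.1.ne_zero⟩
  obtain ⟨a, ha⟩ := h.exists_int_congr hM hζ
  exact ⟨a, fun t => ⟨ha t, by rw [h.conj_apply hζ]; exact ha _⟩⟩

theorem IsCyc.memLocalRing {M : Ideal AlgInt} [M.IsPrime] {F : ℕ → ℂ} (hM : IsPModular p M)
    (hζ : IsPrimitiveRoot ζ (p ^ k)) (h : IsCyc ζ F) (t : ℕ) :
    MemLocalRing M (F t) ∧ MemLocalRing M (conj (F t)) := by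
  obtain ⟨a, ha⟩ := h.exists_int_congr_conj hM hζ
  have key : ∀ w : ℂ, MemLocalIdeal M (w - a) → MemLocalRing M w := fun w hw => by
    have h' := mem_localRing.1 (add_mem (mem_localRing.2 (memLocalIdeal_memLocalRing hw))
      (intCast_mem_localRing (M := M) a))
    rwa [sub_add_cancel] at h'
  exact ⟨key _ (ha t).1, key _ (ha t).2⟩

/-- A pair of cyclic functions, not both vanishing at `1`, has mean square at least one. -/
theorem IsCyc.card_le_sum_sq_pair {F F' : ℕ → ℂ} (hp : p.Prime) (hk : 0 < k)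
    (hζ : IsPrimitiveRoot ζ (p ^ k)) (h : IsCyc ζ F) (h' : IsCyc ζ F')
    (hne : F 1 ≠ 0 ∨ F' 1 ≠ 0) :
    ((primResidues p k).card : ℝ) ≤
      ∑ t ∈ primResidues p k, (‖F t‖ ^ 2 + ‖F' t‖ ^ 2 - ‖F t‖ * ‖F' t‖) := by
  have hmem : ∀ t ∈ primResidues p k, ¬ p ∣ t := fun t ht => (Finset.mem_filter.1 ht).2
  by_cases h1 : F 1 = 0
  · refine (h'.card_le_sum_norm_sq hp hk hζ (hne.resolve_left (by simp [h1]))).trans
      (le_of_eq (Finset.sum_congr rfl fun t ht => ?_))
    rw [h.apply_eq_zero hp hζ h1 (hmem t ht)]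
    simp
  by_cases h2 : F' 1 = 0
  · refine (h.card_le_sum_norm_sq hp hk hζ h1).trans (le_of_eq (Finset.sum_congr rfl fun t ht => ?_))
    rw [h'.apply_eq_zero hp hζ h2 (hmem t ht)]
    simp
  have e1 := h.card_le_sum_norm_sq hp hk hζ h1
  have e2 := h'.card_le_sum_norm_sq hp hk hζ h2
  have : ∑ t ∈ primResidues p k, (‖F t‖ ^ 2 + ‖F' t‖ ^ 2) / 2 ≤
      ∑ t ∈ primResidues p k, (‖F t‖ ^ 2 + ‖F' t‖ ^ 2 - ‖F t‖ * ‖F' t‖) :=
    Finset.sum_le_sum fun t _ => by nlinarith [sq_nonneg (‖F t‖ - ‖F' t‖)]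
  rw [← Finset.sum_div, Finset.sum_add_distrib] at this
  linarith

end Cfsg.Agent.Lib.Contrib
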