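import Mathlib

/-!
# Factorisation of an integer matrix that is a multiple of an idempotent
-/

set_option autoImplicit false

namespace Cfsg.Agent.Lib.Contrib

open Finset

/-- A symmetric integer matrix `N` with `N * N = q • N` is `g Q gᵀ` with `g` integral, `Q` symmetric
integral and `Q (gᵀ g) = q`. -/
theorem exists_factor {ι : Type*} [Fintype ι] [DecidableEq ι] (N : ι → ι → ℤ) (q : ℤ)
    (hsym : ∀ i j, N i j = N j i) (hidem : ∀ i k, ∑ j, N i j * N j k = q * N i k) :
    ∃ (l : ℕ) (g : ι → Fin l → ℤ) (s : Fin l → ι → ℤ) (Q : Fin l → Fin l → ℤ),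
      (∀ a c, Q a c = Q c a) ∧ (∀ a c, Q a c = ∑ i, ∑ j, s a i * s c j * N i j) ∧
      (∀ i j, N i j = ∑ a, ∑ c, g i a * Q a c * g j c) ∧
      (∀ a c, ∑ b, Q a b * (∑ i, g i b * g i c) = if a = c then q else 0) ∧
      ∑ i, N i i = q * l := by
  classical
  let L : (ι → ℤ) →ₗ[ℤ] (ι → ℤ) :=
    { toFun := fun v j => ∑ i, v i * N i j
      map_add' := fun u v => by ext j; simp [add_mul, sum_add_distrib]
      map_smul' := fun c v => by ext j; simp [mul_sum, mul_assoc] }
  have hL : ∀ v j, L v j = ∑ i, v i * N i j := fun _ _ => rfl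
  obtain ⟨l, B⟩ := Submodule.basisOfPid (Pi.basisFun ℤ ι) (LinearMap.range L)
  choose s hs using fun a => LinearMap.mem_range.1 (B a).2
  let g : ι → Fin l → ℤ := fun i a => B.repr ⟨L (Pi.single i 1), LinearMap.mem_range_self L _⟩ a
  let Q : Fin l → Fin l → ℤ := fun a c => ∑ i, ∑ j, s a i * s c j * N i j
  have hsingle : ∀ i j, L (Pi.single i 1) j = N i j := fun i j => by
    rw [hL]
    simp [Pi.single_apply]
  have hN : ∀ i j, N i j = ∑ a, g i a * (B a : ι → ℤ) j := fun i j => by
    have h := congrArg (fun w : LinearMap.range L => (w : ι → ℤ) j)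
      (B.sum_repr ⟨L (Pi.single i 1), LinearMap.mem_range_self L _⟩)
    simp only [Submodule.coe_sum, Submodule.coe_smul, Finset.sum_apply, Pi.smul_apply,
      smul_eq_mul, hsingle] at h
    exact h.symm
  have hBL : ∀ a j, (B a : ι → ℤ) j = ∑ i, s a i * N i j := fun a j => by rw [← hs a, hL]
  have hQsym : ∀ a c, Q a c = Q c a := fun a c => by
    simp only [Q]
    rw [sum_comm]
    exact sum_congr rfl fun i _ => sum_congr rfl fun j _ => by rw [hsym j i]; ring
  have hQB : ∀ a c, Q a c = ∑ i, s a i * (B c : ι → ℤ) i := fun a c => by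
    simp only [Q, hBL, mul_sum]
    exact sum_congr rfl fun i _ => sum_congr rfl fun j _ => by rw [hsym j i]; ring
  have hB : ∀ a j, (B a : ι → ℤ) j = ∑ c, Q a c * g j c := fun a j => by
    rw [hBL, sum_congr rfl fun i _ => by rw [hsym i j, hN j i, mul_sum], sum_comm]
    refine sum_congr rfl fun c _ => ?_
    rw [hQB, sum_mul]
    exact sum_congr rfl fun i _ => by ring
  have hcoord : ∀ a c, ∑ i, (B a : ι → ℤ) i * g i c = if a = c then q else 0 := fun a c => by
    have he : ∑ i, (B a : ι → ℤ) i •
        (⟨L (Pi.single i 1), LinearMap.mem_range_self L _⟩ : LinearMap.range L) = q • B a := by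
      refine Subtype.ext (funext fun j => ?_)
      simp only [Submodule.coe_sum, Submodule.coe_smul, Finset.sum_apply, Pi.smul_apply,
        smul_eq_mul, hsingle, hBL, sum_mul, mul_sum]
      rw [sum_comm]
      refine sum_congr rfl fun i _ => ?_
      rw [sum_congr rfl (g := fun x => s a i * (N i x * N x j)) fun x _ => by ring, ← mul_sum,
        hidem]
      ring
    have h := congrArg (fun w => B.repr w c) he
    simp only [map_sum, map_smul, B.repr_self, Finsupp.coe_finsetSum, Finset.sum_apply,
      Finsupp.smul_apply, smul_eq_mul, Finsupp.single_apply, mul_ite, mul_one, mul_zero] at h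
    exact h
  refine ⟨l, g, s, Q, hQsym, fun a c => rfl, fun i j => ?_, fun a c => ?_, ?_⟩
  · rw [hN]
    refine sum_congr rfl fun a _ => ?_
    rw [hB, mul_sum]
    exact sum_congr rfl fun c _ => by ring
  · rw [← hcoord a c, sum_congr rfl fun b _ => mul_sum _ _ _, sum_comm]
    refine sum_congr rfl fun i _ => ?_
    rw [hB, sum_mul]
    exact sum_congr rfl fun b _ => by ring
  · rw [sum_congr rfl fun i _ => hN i i, sum_comm,
      sum_congr rfl (g := fun _ : Fin l => q) fun a _ => ?_]
    · simp [mul_comm]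
    · rw [sum_congr rfl fun i _ => mul_comm (g i a) _, hcoord a a, if_pos rfl]

end Cfsg.Agent.Lib.Contrib
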