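import Mathlib
import Cfsg.Agent.Lib.Contrib.Transfer
import Cfsg.Agent.Lib.Blocks.SecondMain
import Cfsg.Agent.Lib.Blocks.PrincipalSection
import Cfsg.Agent.Lib.BrauerFeit.Bounds
import Cfsg.Agent.Lib.BrauerFeit.Rank
import Cfsg.Agent.Lib.BrauerFeit.RegGen
import Cfsg.Agent.Lib.BrauerFeit.Orth

/-!
# The contributions of a subsection

For a `p`-element `x`, a block `b` of its centralizer `C` inducing `B` and characters `χ`, `ψ`,
`contrib` is the inner product over the `p`-regular elements of `C` of the `b`-parts of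
`y ↦ χ (x y)` and `y ↦ ψ (x y)`.
-/

set_option autoImplicit false

namespace Cfsg.Agent.Lib.Contrib

open Cfsg
open Cfsg.Agent.Lib
open Cfsg.Agent.Lib.Blocks
open Cfsg.Agent.Lib.BrauerFeit (regCoef)
open scoped ComplexConjugate

universe u

attribute [local instance] Classical.propDecidable

variable {G : Type u} [Group G] [Fintype G] {p : ℕ} {M : Ideal AlgInt} [Fact p.Prime] [M.IsPrime]

/-- `p ^ q * regCoef` as an integer matrix, congruent modulo `p` to a rank one matrix. -/
theorem exists_intMatrix {K : Type u} [Group K] [Fintype K] (hM : IsPModular p M)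
    {b : Set (IrrCharacter K)} (hb : IsPBlock M b) :
    ∃ (N : IrrCharacter K → IrrCharacter K → ℤ) (lam : ℂ),
      (∀ ξ ∈ b, ∀ η, (N ξ η : ℂ) = (p : ℂ) ^ blockDefect p b * regCoef p ξ η) ∧
      MemLocalRing M lam ∧ ¬ MemLocalIdeal M lam ∧
      (∀ ξ ∈ b, ∀ η ∈ b, MemLocalIdeal M ((N ξ η : ℂ) -
        lam * ((ξ : K → ℂ) 1 / (p : ℂ) ^ minExp p b) * ((η : K → ℂ) 1 / (p : ℂ) ^ minExp p b))) := by
  classical
  have hint : ∀ ξ η : IrrCharacter K, ∃ n : ℤ, ξ ∈ b →
      (n : ℂ) = (p : ℂ) ^ blockDefect p b * regCoef p ξ η := fun ξ η => by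
    by_cases h : ξ ∈ b
    · obtain ⟨n, hn, -⟩ := BrauerFeit.exists_int_defect_mul_regCoef hM (BrauerFeit.regGen p) h η
      exact ⟨n, fun _ => hn.symm⟩
    · exact ⟨0, fun h' => absurd h' h⟩
  choose N hN using hint
  obtain ⟨η₀, hη₀, hh0⟩ := Blocks.exists_height_zero (p := p) hb
  set v : IrrCharacter K → ℂ := fun ξ => (ξ : K → ℂ) 1 / (p : ℂ) ^ minExp p b with hv
  set P : IrrCharacter K → ℂ := fun η =>
    HeightZero.regPairing p (η₀ : K → ℂ) (η : K → ℂ) with hP
  have hPR : ∀ η, MemLocalRing M (P η) := fun η => HeightZero.memLocalRing_regPairing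
    (fun χ g => mem_localRing.1 (centralChar_mem_localRing χ g)) p η₀ (Chars.irr_isCharacter η)
  set e := (Nat.card K).factorization p with he
  set s : ℂ := ((p ^ e : ℕ) : ℂ) / (Nat.card K : ℕ) with hs
  have hde : blockDefect p b ≤ e := Nat.sub_le _ _
  have hsR : MemLocalRing M s := mem_localRing.1 (natCast_div_mem_localRing hM Nat.card_pos.ne'
    (Or.inl (by rw [hM.1.factorization_pow, Finsupp.single_eq_same])))
  have hsU : ¬ MemLocalIdeal M s := fun hbad => not_memLocalIdeal_one (M := M) (by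
    have h := memLocalIdeal_mul_right hbad (mem_localRing.1 (natCast_div_mem_localRing hM
      (pow_ne_zero e hM.1.ne_zero) (a := Nat.card K)
      (Or.inl (by rw [hM.1.factorization_pow, Finsupp.single_eq_same]))))
    rwa [hs, div_mul_div_cancel₀ (Nat.cast_ne_zero.2 Nat.card_pos.ne'),
      div_self (Nat.cast_ne_zero.2 (pow_ne_zero _ hM.1.ne_zero))] at h)
  have hexact : ∀ ξ ∈ b, ∀ η, (N ξ η : ℂ) =
      s * v ξ * HeightZero.regPairing p (ξ : K → ℂ) (η : K → ℂ) := by
    intro ξ hξ η
    rw [hN ξ η hξ, BrauerFeit.regCoef_eq_regPairing, hs, hv]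
    simp only [(exists_degree_eq ξ).1]
    have hp : (p : ℂ) ≠ 0 := Nat.cast_ne_zero.2 hM.1.ne_zero
    have hsplit : ((p ^ e : ℕ) : ℂ) = (p : ℂ) ^ blockDefect p b * (p : ℂ) ^ minExp p b := by
      rw [← pow_add, Nat.cast_pow, minExp, ← he, Nat.add_sub_cancel' hde]
    rw [hsplit]
    field_simp
  have hcongr : ∀ ξ ∈ b, ∀ η, MemLocalIdeal M ((N ξ η : ℂ) - s * v ξ * P η) := by
    intro ξ hξ η
    rw [hexact ξ hξ η, ← mul_sub]
    exact memLocalIdeal_mul_left (mem_localRing.1 (mul_mem (mem_localRing.2 hsR)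
      (mem_localRing.2 (degree_div_mem hM hξ))))
      (HeightZero.regPairing_congr p (Chars.irr_isCharacter η) (sameBlock_of_mem hb hξ hη₀))
  have hsymm : ∀ ξ ∈ b, ∀ η ∈ b, N ξ η = N η ξ := fun ξ hξ η hη => by
    have : (N ξ η : ℂ) = N η ξ := by rw [hN ξ η hξ, hN η ξ hη, BrauerFeit.regCoef_comm]
    exact_mod_cast this
  have hu0R : MemLocalRing M (v η₀) := degree_div_mem hM hη₀
  have hu0 : ¬ MemLocalIdeal M (v η₀) := degree_div_not_mem hM hη₀ hh0
  have hinv : MemLocalRing M (v η₀)⁻¹ := mem_localRing.1 (inv_mem_localRing hu0R hu0)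
  have hv0 : v η₀ ≠ 0 := fun h => hu0 (h ▸ memLocalIdeal_zero)
  refine ⟨N, s * P η₀ * (v η₀)⁻¹, fun ξ hξ η => hN ξ η hξ, mem_localRing.1 (mul_mem (mul_mem
    (mem_localRing.2 hsR) (mem_localRing.2 (hPR η₀))) (mem_localRing.2 hinv)), ?_, ?_⟩
  · intro hbad
    have h1 := memLocalIdeal_mul_right hbad hu0R
    rw [mul_assoc, inv_mul_cancel₀ hv0, mul_one] at h1
    exact not_memLocalIdeal_mul hsR (hPR η₀) hsU (HeightZero.not_memLocalIdeal_regPairing hM
      (BrauerFeit.regOrth hM) (by rw [← Blocks.eq_blockOf_of_mem hb hη₀]; exact hh0)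
      (sameBlock_refl _)) h1
  · intro ξ hξ η hη
    -- s * v η₀ * P η ≡ s * v η * P η₀
    have h1 := memLocalIdeal_sub (hcongr η hη η₀) (hcongr η₀ hη₀ η)
    rw [hsymm η hη η₀ hη₀] at h1
    have h2 := memLocalIdeal_mul_left (mem_localRing.1 (mul_mem
      (mem_localRing.2 (degree_div_mem hM hξ)) (mem_localRing.2 hinv))) h1
    have h3 := memLocalIdeal_add (hcongr ξ hξ η) h2
    convert h3 using 1
    show _ - _ * v ξ * v η = _
    field_simp
    ring

variable {C : Subgroup G} [Fintype C] {x : G}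

/-- The element `x` in its centralizer. -/
def secElt (hC : C = Subgroup.centralizer ({x} : Set G)) : C :=
  ⟨x, hC ▸ Subgroup.mem_centralizer_singleton_iff.2 rfl⟩

omit [Fintype G] [Fintype C] in
theorem secElt_mem_center (hC : C = Subgroup.centralizer ({x} : Set G)) :
    secElt hC ∈ Subgroup.center C := Subgroup.mem_center_iff.2 fun c => Subtype.ext
  (Subgroup.mem_centralizer_singleton_iff.1 (hC.le c.2))

/-- The scalar by which `x` acts in a character of its centralizer. -/
noncomputable def secScalar (hC : C = Subgroup.centralizer ({x} : Set G)) (η : IrrCharacter C) : ℂ :=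
  (η : C → ℂ) (secElt hC) / (η : C → ℂ) 1

/-- The multiplicity of `η` in the restriction times the scalar of `x`. -/
noncomputable def secMult (hC : C = Subgroup.centralizer ({x} : Set G)) (χ : IrrCharacter G)
    (η : IrrCharacter C) : ℂ :=
  classInner (fun c : C => (χ : G → ℂ) c) (η : C → ℂ) * secScalar hC η

/-- The multiplicity of `ξ` in the `p`-regular part of `y ↦ χ (x y)`. -/
noncomputable def secCoef (p : ℕ) (x : G) (χ : IrrCharacter G) (ξ : IrrCharacter C) : ℂ :=
  classInner (pRegularPart p fun c : C => (χ : G → ℂ) (x * (c : G))) (ξ : C → ℂ)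

open Classical in
/-- The contribution of the subsection `(x, b)` to a pair of characters. -/
noncomputable def contrib (p : ℕ) (x : G) (b : Set (IrrCharacter C)) (χ ψ : IrrCharacter G) : ℂ :=
  ∑ ξ ∈ b.toFinset, secCoef p x χ ξ * conj (secCoef p x ψ ξ)

omit [Fact p.Prime] [M.IsPrime] in
theorem apply_section (hC : C = Subgroup.centralizer ({x} : Set G)) (χ : IrrCharacter G) (c : C) :
    (χ : G → ℂ) (x * (c : G)) = ∑ η : IrrCharacter C, secMult hC χ η * (η : C → ℂ) c := by
  have h : (χ : G → ℂ) (x * (c : G)) =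
      (fun d : C => (χ : G → ℂ) d) (c * secElt hC) := by
    show _ = (χ : G → ℂ) ((c : G) * x)
    exact congrArg _ (Subgroup.mem_centralizer_singleton_iff.1 (hC.le c.2)).symm
  rw [h, Chars.isCharacter_eq_sum_classInner
    (Chars.isCharacter_restrict C (Chars.irr_isCharacter χ))]
  simp only [Finset.sum_apply, Pi.smul_apply, smul_eq_mul]
  refine Finset.sum_congr rfl fun η _ => ?_
  rw [CentralKernel.irr_mul_central η (secElt_mem_center hC)]
  simp only [secMult, secScalar]
  ring

omit [Fact p.Prime] [M.IsPrime] in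
theorem secCoef_eq (hC : C = Subgroup.centralizer ({x} : Set G)) (χ : IrrCharacter G)
    (ξ : IrrCharacter C) :
    secCoef p x χ ξ = ∑ η : IrrCharacter C, secMult hC χ η * regCoef p η ξ := by
  rw [secCoef, show (pRegularPart p fun c : C => (χ : G → ℂ) (x * (c : G))) =
    ∑ η : IrrCharacter C, secMult hC χ η • pRegularPart p (η : C → ℂ) from funext fun c => by
      simp only [Finset.sum_apply, Pi.smul_apply, smul_eq_mul, BrauerFeit.pRegularPart_apply]
      split_ifs
      · simp
      · exact apply_section hC χ c, Chars.classInner_sum_left]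
  simp only [Chars.classInner_smul_left]
  rfl

variable {b : Set (IrrCharacter C)}

theorem secCoef_eq_block (hM : IsPModular p M) (hC : C = Subgroup.centralizer ({x} : Set G))
    (hb : IsPBlock M b) (χ : IrrCharacter G) {ξ : IrrCharacter C} (hξ : ξ ∈ b) :
    secCoef p x χ ξ = ∑ η ∈ b.toFinset, secMult hC χ η * regCoef p η ξ := by
  rw [secCoef_eq hC]
  refine (Finset.sum_subset (Finset.subset_univ _) fun η _ hη => ?_).symm
  rw [BrauerFeit.regCoef_comm,
    BrauerFeit.regCoef_eq_zero_of_not_mem (BrauerFeit.regOrth hM) hb hξ (by simpa using hη),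
    mul_zero]

theorem sum_secCoef_mul_regCoef (hM : IsPModular p M)
    (hC : C = Subgroup.centralizer ({x} : Set G)) (hb : IsPBlock M b) (χ : IrrCharacter G)
    {ζ : IrrCharacter C} (hζ : ζ ∈ b) :
    ∑ ξ ∈ b.toFinset, secCoef p x χ ξ * regCoef p ξ ζ = secCoef p x χ ζ := by
  rw [secCoef_eq_block hM hC hb χ hζ, Finset.sum_congr rfl fun ξ hξ => by
    rw [secCoef_eq_block hM hC hb χ (Set.mem_toFinset.1 hξ), Finset.sum_mul], Finset.sum_comm]
  refine Finset.sum_congr rfl fun η hη => ?_
  rw [← BrauerFeit.sum_toFinset_regCoef_mul (BrauerFeit.regOrth hM) hb (φ := ζ)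
    (Set.mem_toFinset.1 hη), Finset.mul_sum]
  exact Finset.sum_congr rfl fun ξ _ => by ring

/-- The second main theorem. -/
theorem secCoef_eq_zero (hM : IsPModular p M) (hx : ∃ k : ℕ, orderOf x = p ^ k)
    (hC : C = Subgroup.centralizer ({x} : Set G)) {B : Set (IrrCharacter G)}
    (hb : IsInducedBlock M C b B) {χ : IrrCharacter G} (hχ : χ ∉ B) {ξ : IrrCharacter C}
    (hξ : ξ ∈ b) : secCoef p x χ ξ = 0 := by
  classical
  have hnot : ¬ IsInducedBlock M C b (blockOf M (χ : G → ℂ)) := fun h =>
    hχ (by rw [isInducedBlock_unique hb h]; exact mem_blockOf_self χ)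
  have h0 : ∀ c : C, ¬ p ∣ orderOf c →
      ∑ η : IrrCharacter C, (if η ∈ b then
        classInner (fun d : C => (χ : G → ℂ) (x * (d : G))) (η : C → ℂ) * (η : C → ℂ) c else 0) = 0 := by
    intro c hc
    have h := secondMain_blockPart hM hx (isPBlock_blockOf χ) (mem_blockOf_self χ) hC hb.1 hnot hc
    rwa [PrincipalSection.blockPart_apply] at h
  have hv : ∀ η : IrrCharacter C,
      classInner (fun d : C => (χ : G → ℂ) (x * (d : G))) (η : C → ℂ) = secMult hC χ η := by
    intro η
    rw [funext fun d : C => apply_section hC χ d,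
      show (fun d : C => ∑ θ : IrrCharacter C, secMult hC χ θ * (θ : C → ℂ) d) =
        ∑ θ : IrrCharacter C, secMult hC χ θ • (θ : C → ℂ) by ext d; simp,
      Chars.classInner_sum_left]
    simp only [Chars.classInner_smul_left, Chars.classInner_irr, mul_ite, mul_one, mul_zero]
    simp
  simp only [hv] at h0
  rw [secCoef_eq_block hM hC hb.1 χ hξ]
  have hfun : (∑ η ∈ b.toFinset, secMult hC χ η • pRegularPart p (η : C → ℂ)) = 0 := by
    funext c
    simp only [Finset.sum_apply, Pi.smul_apply, smul_eq_mul, BrauerFeit.pRegularPart_apply,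
      Pi.zero_apply]
    by_cases hc : p ∣ orderOf c
    · simp [hc]
    · simp only [if_neg hc]
      refine Eq.trans ?_ (h0 c hc)
      rw [← Finset.sum_filter]
      exact Finset.sum_congr (by ext η; simp) fun _ _ => rfl
  calc ∑ η ∈ b.toFinset, secMult hC χ η * regCoef p η ξ
      = classInner (∑ η ∈ b.toFinset, secMult hC χ η • pRegularPart p (η : C → ℂ))
          (ξ : C → ℂ) := by
        rw [Chars.classInner_sum_left]
        simp only [Chars.classInner_smul_left]
        rfl
    _ = 0 := by rw [hfun]; simp [classInner]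

/-- Orthogonality of the sections. -/
theorem sum_secCoef_mul_conj (hM : IsPModular p M) (hx : ∃ k : ℕ, orderOf x = p ^ k)
    (hC : C = Subgroup.centralizer ({x} : Set G)) (ξ ξ' : IrrCharacter C) :
    ∑ χ : IrrCharacter G, secCoef p x χ ξ * conj (secCoef p x χ ξ') = regCoef p ξ' ξ := by
  subst hC
  have hKK : ∀ z y : Subgroup.centralizer ({x} : Set G), ¬ p ∣ orderOf z → ¬ p ∣ orderOf y →
      ∑ ζ : IrrCharacter G, (ζ : G → ℂ) (x * (z : G)) * conj ((ζ : G → ℂ) (x * (y : G))) =
        ∑ η : IrrCharacter (Subgroup.centralizer ({x} : Set G)),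
          (η : _ → ℂ) z * conj ((η : _ → ℂ) y) := by
    intro z y hz hy
    rw [Chars.column_orthogonality_eq, Chars.column_orthogonality_eq,
      PrincipalSection.card_centralizer_mul hx hy]
    simp only [Chars.classIndicator]
    congr 1
    have hiff := PrincipalSection.isConj_mul_iff hx hy hz
    by_cases hc : IsConj y z
    · rw [if_pos hc, if_pos (hiff.2 hc)]
    · rw [if_neg hc, if_neg (mt hiff.1 hc)]
  have hR : regCoef p ξ' ξ = ∑ η : IrrCharacter (Subgroup.centralizer ({x} : Set G)),
      regCoef p η ξ * conj (regCoef p η ξ') := by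
    rw [← BrauerFeit.sum_regCoef_mul p ξ' ξ]
    refine Finset.sum_congr rfl fun η _ => ?_
    show regCoef p ξ' η * regCoef p η ξ = regCoef p η ξ * conj (regCoef p η ξ')
    rw [BrauerFeit.conj_regCoef, BrauerFeit.regCoef_comm p ξ' η, mul_comm]
  rw [hR]
  simp only [secCoef, BrauerFeit.regCoef, classInner, map_mul, map_sum, Finset.mul_sum, Finset.sum_mul]
  rw [Finset.sum_comm]
  conv_rhs => rw [Finset.sum_comm]
  refine Finset.sum_congr rfl fun y _ => ?_
  rw [Finset.sum_comm]
  conv_rhs => rw [Finset.sum_comm]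
  refine Finset.sum_congr rfl fun z _ => ?_
  simp only [BrauerFeit.pRegularPart_apply]
  by_cases hy : p ∣ orderOf y
  · simp [hy]
  by_cases hz : p ∣ orderOf z
  · simp [hz]
  simp only [if_neg hy, if_neg hz, Complex.conj_conj]
  rw [Finset.sum_congr rfl (g := fun χ : IrrCharacter G =>
      ((χ : G → ℂ) (x * (z : G)) * conj ((χ : G → ℂ) (x * (y : G)))) *
      (conj (Nat.card (Subgroup.centralizer ({x} : Set G)) : ℂ)⁻¹ *
        (Nat.card (Subgroup.centralizer ({x} : Set G)) : ℂ)⁻¹ * (ξ' : _ → ℂ) y * conj ((ξ : _ → ℂ) z)))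
      (fun χ _ => by ring), ← Finset.sum_mul, hKK z y hz hy, Finset.sum_mul]
  exact Finset.sum_congr rfl fun η _ => by ring

section Subsection

variable {B : Set (IrrCharacter G)}

theorem contrib_conj (χ ψ : IrrCharacter G) :
    conj (contrib p x b χ ψ) = contrib p x b ψ χ := by
  classical
  simp only [contrib, map_sum, map_mul, Complex.conj_conj]
  exact Finset.sum_congr rfl fun _ _ => by ring

/-- Contributions are idempotent. -/
theorem sum_contrib_mul (hM : IsPModular p M) (hx : ∃ k : ℕ, orderOf x = p ^ k)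
    (hC : C = Subgroup.centralizer ({x} : Set G)) (hb : IsInducedBlock M C b B)
    (χ ψ : IrrCharacter G) :
    ∑ φ ∈ B.toFinset, contrib p x b χ φ * contrib p x b φ ψ = contrib p x b χ ψ := by
  classical
  have hall : ∑ φ ∈ B.toFinset, contrib p x b χ φ * contrib p x b φ ψ =
      ∑ φ : IrrCharacter G, contrib p x b χ φ * contrib p x b φ ψ := by
    refine Finset.sum_subset (Finset.subset_univ _) fun φ _ hφ => ?_
    refine mul_eq_zero_of_left ?_ _
    simp only [contrib]
    refine Finset.sum_eq_zero fun ξ hξ => ?_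
    rw [secCoef_eq_zero hM hx hC hb (χ := φ) (by simpa using hφ) (Set.mem_toFinset.1 hξ), map_zero,
      mul_zero]
  rw [hall]
  calc ∑ φ : IrrCharacter G, contrib p x b χ φ * contrib p x b φ ψ
      = ∑ φ : IrrCharacter G, ∑ ξ' ∈ b.toFinset, ∑ ξ ∈ b.toFinset,
          secCoef p x χ ξ * conj (secCoef p x ψ ξ') *
            (secCoef p x φ ξ' * conj (secCoef p x φ ξ)) := by
        refine Finset.sum_congr rfl fun φ _ => ?_
        simp only [contrib, Finset.mul_sum, Finset.sum_mul]
        exact Finset.sum_congr rfl fun ξ' _ => Finset.sum_congr rfl fun ξ _ => by ring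
    _ = ∑ ξ' ∈ b.toFinset, (∑ ξ ∈ b.toFinset, secCoef p x χ ξ * regCoef p ξ ξ') *
          conj (secCoef p x ψ ξ') := by
        rw [Finset.sum_comm]
        refine Finset.sum_congr rfl fun ξ' _ => ?_
        rw [Finset.sum_comm, Finset.sum_mul]
        refine Finset.sum_congr rfl fun ξ _ => ?_
        rw [← Finset.mul_sum, sum_secCoef_mul_conj hM hx hC]
        ring
    _ = contrib p x b χ ψ := Finset.sum_congr rfl fun ξ' hξ' => by
        rw [sum_secCoef_mul_regCoef hM hC hb.1 χ (Set.mem_toFinset.1 hξ')]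

/-- The trace of the contributions is the rank. -/
theorem sum_contrib_self (hM : IsPModular p M) (hx : ∃ k : ℕ, orderOf x = p ^ k)
    (hC : C = Subgroup.centralizer ({x} : Set G)) (hb : IsInducedBlock M C b B) :
    ∑ χ ∈ B.toFinset, contrib p x b χ χ = (blockRank p b : ℂ) := by
  classical
  rw [BrauerFeit.blockRank_eq_sum_regCoef hM hb.1]
  simp only [contrib]
  rw [Finset.sum_comm]
  refine Finset.sum_congr rfl fun ξ hξ => ?_
  rw [← sum_secCoef_mul_conj hM hx hC ξ ξ]
  exact Finset.sum_subset (Finset.subset_univ _) fun φ _ hφ => by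
    rw [secCoef_eq_zero hM hx hC hb (χ := φ) (by simpa using hφ) (Set.mem_toFinset.1 hξ), zero_mul]

/-- Contributions in terms of the integer matrix. -/
theorem pow_mul_contrib (hM : IsPModular p M) (hC : C = Subgroup.centralizer ({x} : Set G))
    (hb : IsPBlock M b) {N : IrrCharacter C → IrrCharacter C → ℤ}
    (hN : ∀ ξ ∈ b, ∀ η, (N ξ η : ℂ) = (p : ℂ) ^ blockDefect p b * regCoef p ξ η)
    (χ ψ : IrrCharacter G) :
    (p : ℂ) ^ blockDefect p b * contrib p x b χ ψ = ∑ η ∈ b.toFinset, ∑ η' ∈ b.toFinset,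
      secMult hC χ η * conj (secMult hC ψ η') * (N η η' : ℂ) := by
  classical
  simp only [contrib]
  rw [Finset.mul_sum, Finset.sum_congr rfl fun ξ hξ => by
    rw [secCoef_eq_block hM hC hb ψ (Set.mem_toFinset.1 hξ), map_sum, Finset.mul_sum,
      Finset.mul_sum]]
  rw [Finset.sum_comm]
  conv_rhs => rw [Finset.sum_comm]
  refine Finset.sum_congr rfl fun η' hη' => ?_
  rw [Finset.sum_congr rfl (g := fun ξ => (p : ℂ) ^ blockDefect p b * conj (secMult hC ψ η') *
    (secCoef p x χ ξ * regCoef p ξ η')) (fun ξ _ => by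
      rw [map_mul, BrauerFeit.conj_regCoef, BrauerFeit.regCoef_comm p η' ξ]; ring),
    ← Finset.mul_sum, sum_secCoef_mul_regCoef hM hC hb χ (Set.mem_toFinset.1 hη'),
    secCoef_eq_block hM hC hb χ (Set.mem_toFinset.1 hη'), Finset.mul_sum]
  refine Finset.sum_congr rfl fun η hη => ?_
  rw [hN η (Set.mem_toFinset.1 hη)]
  ring

omit [M.IsPrime] in
theorem secScalar_pow (hC : C = Subgroup.centralizer ({x} : Set G)) (η : IrrCharacter C) (j : ℕ) :
    secScalar hC η ^ j = (η : C → ℂ) (secElt hC ^ j) / (η : C → ℂ) 1 := by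
  have hne := Chars.irr_apply_one_ne_zero η
  induction j with
  | zero => simp [div_self hne]
  | succ j ih =>
    rw [pow_succ, pow_succ, CentralKernel.irr_mul_central η (secElt_mem_center hC), ih, secScalar]
    ring

theorem secScalar_pow_eq_one (hC : C = Subgroup.centralizer ({x} : Set G)) (η : IrrCharacter C)
    {k : ℕ} (hk : x ^ p ^ k = 1) : secScalar hC η ^ p ^ k = 1 := by
  rw [secScalar_pow, show secElt hC ^ p ^ k = 1 from Subtype.ext (by simpa [secElt] using hk),
    div_self (Chars.irr_apply_one_ne_zero η)]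

/-- Modulo `M` the contributions form a rank one matrix. -/
theorem contrib_congr (hM : IsPModular p M) (hx : ∃ k : ℕ, orderOf x = p ^ k)
    (hC : C = Subgroup.centralizer ({x} : Set G)) (hb : IsPBlock M b) :
    ∃ lam : ℂ, MemLocalRing M lam ∧ ¬ MemLocalIdeal M lam ∧ ∀ χ ψ : IrrCharacter G,
      MemLocalIdeal M ((p : ℂ) ^ blockDefect p b * contrib p x b χ ψ -
        lam * blockVal p b (fun c : C => (χ : G → ℂ) c) *
          blockVal p b (fun c : C => (ψ : G → ℂ) c)) := by
  classical
  obtain ⟨k, hk⟩ := hx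
  obtain ⟨N, lam, hN, hlR, hlU, hNc⟩ := exists_intMatrix hM hb
  refine ⟨lam, hlR, hlU, fun χ ψ => ?_⟩
  have hω : ∀ η : IrrCharacter C, secScalar hC η ^ p ^ k = 1 := fun η =>
    secScalar_pow_eq_one hC η (hk ▸ pow_orderOf_eq_one x)
  have hV : ∀ φ : IrrCharacter G, blockVal p b (fun c : C => (φ : G → ℂ) c) =
      ∑ η ∈ b.toFinset, classInner (fun c : C => (φ : G → ℂ) c) (η : C → ℂ) *
        ((η : C → ℂ) 1 / (p : ℂ) ^ minExp p b) := fun φ => by
    rw [blockVal_eq p b (Chars.isCharacter_restrict C (Chars.irr_isCharacter φ)), ← Finset.sum_filter]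
    exact Finset.sum_congr (by ext η; simp) fun _ _ => rfl
  rw [pow_mul_contrib hM hC hb hN, hV χ, hV ψ, mul_assoc, Finset.sum_mul_sum, Finset.mul_sum,
    ← Finset.sum_sub_distrib]
  refine memLocalIdeal_sum _ _ fun η hη => ?_
  rw [Finset.mul_sum, ← Finset.sum_sub_distrib]
  refine memLocalIdeal_sum _ _ fun η' hη' => ?_
  set a := classInner (fun c : C => (χ : G → ℂ) c) (η : C → ℂ)
  set a' := classInner (fun c : C => (ψ : G → ℂ) c) (η' : C → ℂ) with ha'
  have haR : MemLocalRing M a :=
    memLocalRing_classInner (Chars.isCharacter_restrict C (Chars.irr_isCharacter χ)) η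
  have ha'R : MemLocalRing M a' :=
    memLocalRing_classInner (Chars.isCharacter_restrict C (Chars.irr_isCharacter ψ)) η'
  have hconj : conj a' = a' := by
    obtain ⟨n, hn⟩ := Chars.isCharacter_classInner_nat
      (Chars.isCharacter_restrict C (Chars.irr_isCharacter ψ)) (Chars.irr_isCharacter η')
    rw [ha', hn, Complex.conj_natCast]
  set z := secScalar hC η * conj (secScalar hC η') with hz
  have hz1 : MemLocalIdeal M (z - 1) := memLocalIdeal_sub_one_of_pow_eq_one hM (k := k)
    (by rw [hz, mul_pow, ← map_pow, hω, hω, map_one, one_mul])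
  have hzR : MemLocalRing M z := mem_localRing.1 (isIntegral_mem_localRing
    (IsIntegral.of_pow (pow_pos hM.1.pos k) (by
      rw [hz, mul_pow, ← map_pow, hω, hω, map_one, one_mul]; exact isIntegral_one)))
  have h1 := memLocalIdeal_mul_left (mem_localRing.1 (mul_mem (mem_localRing.2 haR)
    (mem_localRing.2 ha'R)))
    (memLocalIdeal_add (memLocalIdeal_mul_left hzR
      (hNc η (Set.mem_toFinset.1 hη) η' (Set.mem_toFinset.1 hη')))
      (memLocalIdeal_mul_right hz1 (mem_localRing.1 (mul_mem (mul_mem (mem_localRing.2 hlR)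
        (mem_localRing.2 (degree_div_mem hM (Set.mem_toFinset.1 hη))))
        (mem_localRing.2 (degree_div_mem hM (Set.mem_toFinset.1 hη')))))))
  convert h1 using 1
  simp only [secMult, map_mul, ← ha', hconj, hz]
  ring

/-- For a major subsection each row is a scaled degree times a value congruent along the block. -/
theorem exists_major_factor (hM : IsPModular p M) (hx : ∃ k : ℕ, orderOf x = p ^ k)
    (hC : C = Subgroup.centralizer ({x} : Set G)) (hb : IsInducedBlock M C b B)
    (hmaj : blockDefect p b = blockDefect p B) (ψ : IrrCharacter G) :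
    ∃ Ω : IrrCharacter G → ℂ, (∀ χ, MemLocalRing M (Ω χ)) ∧
      (∀ χ ∈ B, (p : ℂ) ^ blockDefect p b * contrib p x b χ ψ =
        ((χ : G → ℂ) 1 / (p : ℂ) ^ minExp p B) * Ω χ) ∧
      ∀ χ ∈ B, ∀ χ' ∈ B, MemLocalIdeal M (Ω χ - Ω χ') := by
  classical
  subst hC
  have : Fintype (ConjClasses (Subgroup.centralizer ({x} : Set G))) := Fintype.ofFinite _
  obtain ⟨j, hj⟩ := hx
  set Φ : Subgroup.centralizer ({x} : Set G) → ℂ := fun c =>
    ∑ η ∈ b.toFinset, conj (secMult rfl ψ η * (η : _ → ℂ) c) with hΦ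
  have hΦcl : IsClassFunction (Subgroup.centralizer ({x} : Set G)) Φ := fun g h => by
    simp only [hΦ]
    exact Finset.sum_congr rfl fun η _ => by rw [Chars.irr_isClassFunction η g h]
  have hΦR : ∀ c, MemLocalRing M (Φ c) := fun c => mem_localRing.1 (sum_mem fun η _ =>
    isIntegral_mem_localRing (Chars.isIntegral_conj (IsIntegral.mul (IsIntegral.mul (by
      obtain ⟨n, hn⟩ := Chars.isCharacter_classInner_nat
        (Chars.isCharacter_restrict _ (Chars.irr_isCharacter ψ)) (Chars.irr_isCharacter η)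
      rw [hn]; exact isIntegral_algebraMap (R := ℤ) (x := (n : ℤ)) |> (by simpa using ·))
      (IsIntegral.of_pow (pow_pos hM.1.pos j)
        (by rw [secScalar_pow_eq_one rfl η (hj ▸ pow_orderOf_eq_one x)]; exact isIntegral_one)))
      (Chars.irr_isIntegral η c))))
  set d := blockDefect p B with hd
  set s : ℂ := ((p ^ (d + minExp p B) : ℕ) : ℂ) / (Nat.card G : ℂ) with hs
  have hsR : MemLocalRing M s := mem_localRing.1 (natCast_div_mem_localRing hM Nat.card_pos.ne'
    (Or.inl (by
      rw [hM.1.factorization_pow, Finsupp.single_eq_same]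
      simp only [minExp]
      omega)))
  let cls : ConjClasses (Subgroup.centralizer ({x} : Set G)) → Subgroup.centralizer ({x} : Set G) :=
    Quotient.out
  set Ω : IrrCharacter G → ℂ := fun χ => s * ∑ K : ConjClasses (Subgroup.centralizer ({x} : Set G)),
    if p ∣ orderOf (cls K) then 0 else
      centralChar (χ : G → ℂ) (x * (cls K : G)) * Φ (cls K) with hΩ
  refine ⟨Ω, fun χ => mem_localRing.1 (mul_mem (mem_localRing.2 hsR) (sum_mem fun K _ => ?_)),
    fun χ hχ => ?_, fun χ hχ χ' hχ' => ?_⟩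
  · split_ifs
    · exact zero_mem _
    · exact mul_mem (centralChar_mem_localRing χ _) (mem_localRing.2 (hΦR _))
  · -- the row as a sum over the p-regular elements
    have hrow : contrib p x b χ ψ = (Nat.card (Subgroup.centralizer ({x} : Set G)) : ℂ)⁻¹ *
        ∑ c : Subgroup.centralizer ({x} : Set G),
          (if p ∣ orderOf c then 0 else (χ : G → ℂ) (x * (c : G)) * Φ c) := by
      simp only [contrib]
      rw [Finset.sum_congr rfl fun ξ hξ => by
        rw [secCoef_eq_block hM rfl hb.1 ψ (Set.mem_toFinset.1 hξ), map_sum, Finset.mul_sum],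
        Finset.sum_comm, Finset.sum_congr rfl fun η hη => by
          rw [Finset.sum_congr rfl (g := fun ξ => conj (secMult rfl ψ η) *
            (secCoef p x χ ξ * regCoef p ξ η)) (fun ξ _ => by
              rw [map_mul, BrauerFeit.conj_regCoef, BrauerFeit.regCoef_comm p η ξ]; ring),
            ← Finset.mul_sum, sum_secCoef_mul_regCoef hM rfl hb.1 χ (Set.mem_toFinset.1 hη)]]
      simp only [secCoef, classInner, Finset.mul_sum, hΦ]
      rw [Finset.sum_comm]
      refine Finset.sum_congr rfl fun c _ => ?_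
      simp only [BrauerFeit.pRegularPart_apply]
      split_ifs with h
      · simp
      · simp only [Finset.mul_sum, map_mul]
        exact Finset.sum_congr rfl fun η _ => by ring
    rw [hrow, ← Finset.sum_fiberwise Finset.univ ConjClasses.mk, Finset.mul_sum, Finset.mul_sum,
      hΩ]
    simp only [Finset.mul_sum]
    refine Finset.sum_congr rfl fun K _ => ?_
    have hout : ConjClasses.mk (cls K) = K := Quotient.out_eq K
    have hconst : ∀ c ∈ Finset.univ.filter (fun c => ConjClasses.mk c = K),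
        (if p ∣ orderOf c then 0 else (χ : G → ℂ) (x * (c : G)) * Φ c) =
        (if p ∣ orderOf (cls K) then 0 else (χ : G → ℂ) (x * (cls K : G)) * Φ (cls K)) := by
      intro c hc
      obtain ⟨g, hg⟩ := isConj_iff.1 (ConjClasses.mk_eq_mk_iff_isConj.1
        (hout.trans (Finset.mem_filter.1 hc).2.symm))
      rw [← hg, show orderOf (g * cls K * g⁻¹) = orderOf (cls K) from
        orderOf_injective (MulAut.conj g).toMonoidHom (MulAut.conj g).injective _, hΦcl]
      congr 2
      exact PrincipalSection.isClassFunction_section x χ (cls K) g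
    rw [← Finset.mul_sum, ← Finset.mul_sum, Finset.sum_congr rfl hconst, Finset.sum_const,
      nsmul_eq_mul]
    by_cases hreg : p ∣ orderOf (cls K)
    · simp [hreg]
    simp only [if_neg hreg]
    have hcard : (((Finset.univ.filter fun c => ConjClasses.mk c = K).card : ℕ) : ℂ) =
        ((Subgroup.centralizer ({cls K} : Set (Subgroup.centralizer ({x} : Set G)))).index : ℂ) := by
      norm_cast
      rw [← Chars.card_conjClass_eq_index, Nat.card_eq_fintype_card, Fintype.card_subtype]
      congr 1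
      ext c
      simp only [Finset.mem_filter, Finset.mem_univ, true_and]
      rw [← ConjClasses.mk_eq_mk_iff_isConj, hout]
      exact eq_comm
    rw [hcard, centralChar, hs]
    have hm := PrincipalSection.card_centralizer_mul (p := p) ⟨j, hj⟩ (y := cls K) hreg
    have h1 : ((Subgroup.centralizer ({cls K} : Set (Subgroup.centralizer ({x} : Set G)))).index : ℂ) *
        (Nat.card (Subgroup.centralizer ({cls K} : Set (Subgroup.centralizer ({x} : Set G)))) : ℂ) =
        (Nat.card (Subgroup.centralizer ({x} : Set G)) : ℂ) := by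
      exact_mod_cast Subgroup.index_mul_card _
    have h2 : ((Subgroup.centralizer ({x * (cls K : G)} : Set G)).index : ℂ) *
        (Nat.card (Subgroup.centralizer ({x * (cls K : G)} : Set G)) : ℂ) = (Nat.card G : ℂ) := by
      exact_mod_cast Subgroup.index_mul_card _
    rw [hm] at h2
    rw [← h1, ← h2, Nat.cast_pow, pow_add]
    have := Chars.irr_apply_one_ne_zero χ
    have : (Nat.card (Subgroup.centralizer ({cls K} : Set (Subgroup.centralizer ({x} : Set G)))) : ℂ) ≠ 0 :=
      Nat.cast_ne_zero.2 Nat.card_pos.ne'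
    have : ((Subgroup.centralizer ({cls K} : Set (Subgroup.centralizer ({x} : Set G)))).index : ℂ) ≠ 0 :=
      Nat.cast_ne_zero.2 Subgroup.index_ne_zero_of_finite
    have : ((Subgroup.centralizer ({x * (cls K : G)} : Set G)).index : ℂ) ≠ 0 :=
      Nat.cast_ne_zero.2 Subgroup.index_ne_zero_of_finite
    have : (p : ℂ) ≠ 0 := Nat.cast_ne_zero.2 hM.1.ne_zero
    field_simp
    rw [hmaj]
    ring
  · rw [hΩ]
    simp only [← mul_sub, ← Finset.sum_sub_distrib]
    refine memLocalIdeal_mul_left hsR (memLocalIdeal_sum _ _ fun K _ => ?_)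
    split_ifs
    · simpa using memLocalIdeal_zero
    · rw [← sub_mul]
      exact memLocalIdeal_mul_right ((sameBlock_of_mem hb.2.1 hχ hχ') _) (hΦR _)

end Subsection

end Cfsg.Agent.Lib.Contrib
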