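import Mathlib
import Cfsg.Agent.Lib.Contrib.Matrix
import Cfsg.Agent.Lib.Contrib.Cyclotomic
import Cfsg.Agent.Lib.Contrib.Centric
import Cfsg.Agent.Lib.Contrib.Lattice

/-!
# The family of contribution matrices of the powers of a `p`-element
-/

set_option autoImplicit false

namespace Cfsg.Agent.Lib.Contrib

open Cfsg
open Cfsg.Agent.Lib
open Cfsg.Agent.Lib.Blocks
open Cfsg.Agent.Lib.BrauerFeit (regCoef)
open scoped ComplexConjugate

attribute [local instance] Classical.propDecidable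

universe u

variable {G : Type u} [Group G] [Fintype G] {p : ℕ} {M : Ideal AlgInt} [Fact p.Prime] [M.IsPrime]
  {C : Subgroup G} [Fintype C] {z : G} {j : ℕ} {b : Set (IrrCharacter C)} {B : Set (IrrCharacter G)}

omit [Fintype G] [M.IsPrime] in
theorem orderOf_pow_prime (hz : orderOf z = p ^ j) {t : ℕ} (ht : ¬ p ∣ t) :
    orderOf (z ^ t) = p ^ j := by
  rw [Nat.Coprime.orderOf_pow (hz ▸ Nat.Coprime.pow_left j
    ((Fact.out : p.Prime).coprime_iff_not_dvd.2 ht)), hz]

omit [Fintype G] [M.IsPrime] in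
theorem centralizer_pow (hz : orderOf z = p ^ j) {t : ℕ} (ht : ¬ p ∣ t) :
    Subgroup.centralizer ({z ^ t} : Set G) = Subgroup.centralizer ({z} : Set G) := by
  have hcop : Nat.Coprime t (orderOf z) :=
    (hz ▸ Nat.Coprime.pow_left j ((Fact.out : p.Prime).coprime_iff_not_dvd.2 ht)).symm
  obtain ⟨m, hm⟩ := exists_pow_eq_self_of_coprime hcop
  ext c
  simp only [Subgroup.mem_centralizer_singleton_iff]
  refine ⟨fun h => ?_, fun h => ((show Commute c z from h).pow_right t).eq⟩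
  have h' := ((show Commute c (z ^ t) from h).pow_right m).eq
  rwa [hm] at h'

omit [Fintype G] [M.IsPrime] in
theorem eq_centralizer_pow (hz : orderOf z = p ^ j) (hC : C = Subgroup.centralizer ({z} : Set G))
    {t : ℕ} (ht : ¬ p ∣ t) : C = Subgroup.centralizer ({z ^ t} : Set G) := by
  rw [hC, centralizer_pow hz ht]

omit [M.IsPrime] in
theorem secScalar_of_pow (hz : orderOf z = p ^ j) (hC : C = Subgroup.centralizer ({z} : Set G))
    {t : ℕ} (ht : ¬ p ∣ t) (η : IrrCharacter C) :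
    secScalar (eq_centralizer_pow hz hC ht) η = secScalar hC η ^ t := by
  rw [secScalar_pow, secScalar]
  congr 2

omit [M.IsPrime] in
theorem pow_pow_succ_eq_one (hz : orderOf z = p ^ j) : z ^ p ^ (j + 1) = 1 := by
  rw [pow_succ, pow_mul, ← hz, pow_orderOf_eq_one, one_pow]

/-- The scaled contributions of the powers of `z`, as functions of the exponent. -/
noncomputable def famFun (hC : C = Subgroup.centralizer ({z} : Set G))
    (N : IrrCharacter C → IrrCharacter C → ℤ) (b : Set (IrrCharacter C)) (χ ψ : IrrCharacter G)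
    (t : ℕ) : ℂ :=
  ∑ η ∈ b.toFinset, ∑ η' ∈ b.toFinset,
    classInner (fun c : C => (χ : G → ℂ) c) (η : C → ℂ) * secScalar hC η ^ t *
      conj (classInner (fun c : C => (ψ : G → ℂ) c) (η' : C → ℂ) * secScalar hC η' ^ t) *
      (N η η' : ℂ)

/-- The root of unity of order `p ^ (j + 1)`. -/
noncomputable def theRoot (p j : ℕ) : ℂ :=
  Complex.exp (2 * Real.pi * Complex.I / ((p ^ (j + 1) : ℕ) : ℂ))

omit [Fintype G] [M.IsPrime] in
theorem isPrimitiveRoot_theRoot (p j : ℕ) [Fact p.Prime] :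
    IsPrimitiveRoot (theRoot p j) (p ^ (j + 1)) :=
  Complex.isPrimitiveRoot_exp _ (pow_ne_zero _ (Fact.out : p.Prime).ne_zero)

omit [M.IsPrime] in
theorem isCyc_secMult (hz : orderOf z = p ^ j) (hC : C = Subgroup.centralizer ({z} : Set G))
    (χ : IrrCharacter G) (η : IrrCharacter C) :
    IsCyc (theRoot p j) fun t =>
      classInner (fun c : C => (χ : G → ℂ) c) (η : C → ℂ) * secScalar hC η ^ t := by
  haveI : NeZero (p ^ (j + 1)) := ⟨pow_ne_zero _ (Fact.out : p.Prime).ne_zero⟩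
  obtain ⟨n, hn⟩ := Chars.isCharacter_classInner_nat
    (Chars.isCharacter_restrict C (Chars.irr_isCharacter χ)) (Chars.irr_isCharacter η)
  rw [hn]
  simpa using (IsCyc.intCast (ζ := theRoot p j) (n : ℤ)).mul
    (IsCyc.root_pow (isPrimitiveRoot_theRoot p j) (secScalar_pow_eq_one hC η (pow_pow_succ_eq_one hz)))

omit [M.IsPrime] in
theorem isCyc_famFun (hz : orderOf z = p ^ j) (hC : C = Subgroup.centralizer ({z} : Set G))
    (N : IrrCharacter C → IrrCharacter C → ℤ) (χ ψ : IrrCharacter G) :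
    IsCyc (theRoot p j) (famFun hC N b χ ψ) := by
  haveI : NeZero (p ^ (j + 1)) := ⟨pow_ne_zero _ (Fact.out : p.Prime).ne_zero⟩
  exact IsCyc.sum _ fun η _ => IsCyc.sum _ fun η' _ =>
    ((isCyc_secMult hz hC χ η).mul ((isCyc_secMult hz hC ψ η').conj' (isPrimitiveRoot_theRoot p j))).mul
      (IsCyc.intCast _)

theorem famFun_eq (hM : IsPModular p M) (hz : orderOf z = p ^ j)
    (hC : C = Subgroup.centralizer ({z} : Set G)) (hb : IsPBlock M b)
    {N : IrrCharacter C → IrrCharacter C → ℤ}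
    (hN : ∀ ξ ∈ b, ∀ η, (N ξ η : ℂ) = (p : ℂ) ^ blockDefect p b * regCoef p ξ η)
    (χ ψ : IrrCharacter G) {t : ℕ} (ht : ¬ p ∣ t) :
    famFun hC N b χ ψ t = (p : ℂ) ^ blockDefect p b * contrib p (z ^ t) b χ ψ := by
  rw [pow_mul_contrib hM (eq_centralizer_pow hz hC ht) hb hN]
  refine Finset.sum_congr rfl fun η _ => Finset.sum_congr rfl fun η' _ => ?_
  simp only [secMult, secScalar_of_pow hz hC ht]

/-- The basic properties of the family. -/
theorem exists_family (hM : IsPModular p M) (hz : orderOf z = p ^ j)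
    (hC : C = Subgroup.centralizer ({z} : Set G)) (hb : IsInducedBlock M C b B) :
    ∃ (F : IrrCharacter G → IrrCharacter G → ℕ → ℂ) (lam : ℂ),
      (∀ χ ψ, IsCyc (theRoot p j) (F χ ψ)) ∧
      (∀ χ ψ t, ¬ p ∣ t → F χ ψ t = (p : ℂ) ^ blockDefect p b * contrib p (z ^ t) b χ ψ) ∧
      (∀ χ ψ t, ¬ p ∣ t → conj (F χ ψ t) = F ψ χ t) ∧
      (∀ χ ψ t, ¬ p ∣ t →
        ∑ φ ∈ B.toFinset, F χ φ t * F φ ψ t = (p : ℂ) ^ blockDefect p b * F χ ψ t) ∧
      (∀ t, ¬ p ∣ t →
        ∑ χ ∈ B.toFinset, F χ χ t = (p : ℂ) ^ blockDefect p b * (blockRank p b : ℂ)) ∧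
      MemLocalRing M lam ∧ ¬ MemLocalIdeal M lam ∧
      (∀ χ ψ, MemLocalIdeal M (F χ ψ 1 - lam * blockVal p b (fun c : C => (χ : G → ℂ) c) *
        blockVal p b (fun c : C => (ψ : G → ℂ) c))) := by
  have hx : ∀ t, ¬ p ∣ t → ∃ k : ℕ, orderOf (z ^ t) = p ^ k := fun t ht =>
    ⟨j, orderOf_pow_prime hz ht⟩
  obtain ⟨N, -, hN, -, -, -⟩ := exists_intMatrix hM hb.1
  obtain ⟨lam, hlR, hlU, hl⟩ := contrib_congr hM ⟨j, hz⟩ hC hb.1
  refine ⟨famFun hC N b, lam, isCyc_famFun hz hC N,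
    fun χ ψ t ht => famFun_eq hM hz hC hb.1 hN χ ψ ht, fun χ ψ t ht => ?_, fun χ ψ t ht => ?_,
    fun t ht => ?_, hlR, hlU, fun χ ψ => ?_⟩
  · rw [famFun_eq hM hz hC hb.1 hN χ ψ ht, famFun_eq hM hz hC hb.1 hN ψ χ ht, map_mul,
      contrib_conj, map_pow, Complex.conj_natCast]
  · simp only [famFun_eq hM hz hC hb.1 hN _ _ ht]
    rw [← sum_contrib_mul hM (hx t ht) (eq_centralizer_pow hz hC ht) hb χ ψ, Finset.mul_sum,
      Finset.mul_sum]
    exact Finset.sum_congr rfl fun φ _ => by ring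
  · simp only [famFun_eq hM hz hC hb.1 hN _ _ ht]
    rw [← Finset.mul_sum, sum_contrib_self hM (hx t ht) (eq_centralizer_pow hz hC ht) hb]
  · rw [famFun_eq hM hz hC hb.1 hN χ ψ hM.1.not_dvd_one, pow_one]
    exact hl χ ψ

/-- In a major subsection: scaled values at positive height lie in the local ideal, and no entry
against a height zero character vanishes. -/
theorem major_facts (hM : IsPModular p M) (hz : orderOf z = p ^ j)
    (hC : C = Subgroup.centralizer ({z} : Set G)) (hb : IsInducedBlock M C b B)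
    (hmaj : blockDefect p b = blockDefect p B)
    {lam : ℂ} {F : IrrCharacter G → IrrCharacter G → ℕ → ℂ}
    (hF : ∀ χ ψ t, ¬ p ∣ t → F χ ψ t = (p : ℂ) ^ blockDefect p b * contrib p (z ^ t) b χ ψ)
    (hlR : MemLocalRing M lam) (hlU : ¬ MemLocalIdeal M lam)
    (hl : ∀ χ ψ, MemLocalIdeal M (F χ ψ 1 - lam * blockVal p b (fun c : C => (χ : G → ℂ) c) *
        blockVal p b (fun c : C => (ψ : G → ℂ) c))) :
    (∀ χ ∈ B, blockHeight p B (χ : G → ℂ) ≠ 0 →
      MemLocalIdeal M (blockVal p b fun c : C => (χ : G → ℂ) c)) ∧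
    (∀ χ ∈ B, ∀ ψ ∈ B, blockHeight p B (ψ : G → ℂ) = 0 → F χ ψ 1 ≠ 0) := by
  subst hC
  have hx : ∃ k : ℕ, orderOf z = p ^ k := ⟨j, hz⟩
  have hV : ∀ ψ ∈ B, blockHeight p B (ψ : G → ℂ) = 0 →
      ¬ MemLocalIdeal M
        (blockVal p b fun c : Subgroup.centralizer ({z} : Set G) => (ψ : G → ℂ) c) :=
    fun ψ hψ h0 => blockVal_subsection hM hx hb hψ h0
  have hVR : ∀ ψ : IrrCharacter G, MemLocalRing M
      (blockVal p b fun c : Subgroup.centralizer ({z} : Set G) => (ψ : G → ℂ) c) := fun ψ =>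
    memLocalRing_blockVal hM b (Chars.isCharacter_restrict _ (Chars.irr_isCharacter ψ))
  refine ⟨fun χ hχ hpos => ?_, fun χ hχ ψ hψ h0 => ?_⟩
  · obtain ⟨ψ, hψ, h0⟩ := Blocks.exists_height_zero (p := p) hb.2.1
    obtain ⟨Ω, hΩR, hΩ, -⟩ := exists_major_factor hM hx rfl hb hmaj ψ
    by_contra hbad
    refine not_memLocalIdeal_mul (mem_localRing.1 (mul_mem (mem_localRing.2 hlR)
      (mem_localRing.2 (hVR χ)))) (hVR ψ) (not_memLocalIdeal_mul hlR (hVR χ) hlU hbad) (hV ψ hψ h0) ?_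
    have h1 : MemLocalIdeal M (F χ ψ 1) := by
      rw [hF χ ψ 1 hM.1.not_dvd_one, pow_one, hΩ χ hχ]
      refine memLocalIdeal_mul_right ?_ (hΩR χ)
      have h := memLocalIdeal_natCast_div hM (pow_ne_zero (minExp p B) hM.1.ne_zero)
        (a := charDegree (χ : G → ℂ)) (by
          rw [hM.1.factorization_pow, Finsupp.single_eq_same]
          have := BrauerFeit.factorization_add_defect (p := p) hχ
          have h' : blockDefect p B ≤ (Nat.card G).factorization p := Nat.sub_le _ _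
          simp only [minExp]
          omega)
      rw [Nat.cast_pow] at h
      rwa [(exists_degree_eq χ).1]
    simpa using memLocalIdeal_sub h1 (hl χ ψ)
  · obtain ⟨Ω, hΩR, hΩ, hΩc⟩ := exists_major_factor hM hx rfl hb hmaj ψ
    have hunit : ¬ MemLocalIdeal M (F ψ ψ 1) := fun h =>
      not_memLocalIdeal_mul (mem_localRing.1 (mul_mem (mem_localRing.2 hlR)
        (mem_localRing.2 (hVR ψ)))) (hVR ψ) (not_memLocalIdeal_mul hlR (hVR ψ) hlU (hV ψ hψ h0))
        (hV ψ hψ h0) (by simpa using memLocalIdeal_sub h (hl ψ ψ))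
    intro hzero
    refine hunit ?_
    rw [hF χ ψ 1 hM.1.not_dvd_one, pow_one, hΩ χ hχ, mul_eq_zero] at hzero
    have hne : (χ : G → ℂ) 1 / (p : ℂ) ^ minExp p B ≠ 0 :=
      div_ne_zero (Chars.irr_apply_one_ne_zero χ) (pow_ne_zero _ (Nat.cast_ne_zero.2 hM.1.ne_zero))
    have h1 := hΩc ψ hψ χ hχ
    rw [hzero.resolve_left hne, sub_zero] at h1
    rw [hF ψ ψ 1 hM.1.not_dvd_one, pow_one, hΩ ψ hψ]
    exact memLocalIdeal_mul_left (degree_div_mem hM hψ) h1

omit [Fintype G] in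
/-- Interchanging two pairs of summations. -/
theorem sum_comm_four {α β γ δ : Type*} [Fintype α] [Fintype β] (s : Finset γ) (s' : Finset δ)
    (f : α → β → γ → δ → ℂ) :
    ∑ a, ∑ c, ∑ i ∈ s, ∑ k ∈ s', f a c i k = ∑ i ∈ s, ∑ k ∈ s', ∑ a, ∑ c, f a c i k := by
  rw [← Fintype.sum_prod_type' fun a c => ∑ i ∈ s, ∑ k ∈ s', f a c i k, Finset.sum_comm]
  refine Finset.sum_congr rfl fun i _ => ?_
  rw [Finset.sum_comm]
  exact Finset.sum_congr rfl fun k _ => Fintype.sum_prod_type' fun a c => f a c i k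

/-- A lattice basis: the contributions are a quadratic form in `l` columns. -/
theorem exists_columns (hM : IsPModular p M) (hz : orderOf z = p ^ j)
    (hC : C = Subgroup.centralizer ({z} : Set G)) (hb : IsInducedBlock M C b B) :
    ∃ (l : ℕ) (Q A : Fin l → Fin l → ℤ) (X : IrrCharacter G → Fin l → ℕ → ℂ),
      l = blockRank p b ∧ (∀ a c, Q a c = Q c a) ∧ (∀ a c, A a c = A c a) ∧
      (∀ a c, ∑ e, Q a e * A e c = if a = c then (p : ℤ) ^ blockDefect p b else 0) ∧
      (∀ v : Fin l → ℤ, 0 ≤ ∑ a, ∑ c, v a * A a c * v c) ∧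
      (∃ (σ : Fin l → ℂ) (lam : ℂ), MemLocalRing M lam ∧ (∀ a, MemLocalRing M (σ a)) ∧
        ∀ a c, MemLocalIdeal M ((Q a c : ℂ) - lam * σ a * σ c)) ∧
      (∀ χ a, IsCyc (theRoot p j) (X χ a)) ∧
      (∀ t, ¬ p ∣ t → ∀ χ ψ, (p : ℂ) ^ blockDefect p b * contrib p (z ^ t) b χ ψ =
        ∑ a, ∑ c, X χ a t * (Q a c : ℂ) * conj (X ψ c t)) ∧
      (∀ t, ¬ p ∣ t → ∀ a c, ∑ χ ∈ B.toFinset, X χ a t * conj (X χ c t) = (A a c : ℂ)) := by
  obtain ⟨N, mu, hN, hmuR, -, hmu⟩ := exists_intMatrix hM hb.1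
  have hsym : ∀ ξ η : b, N ξ η = N η ξ := fun ξ η => by
    have : (N ξ η : ℂ) = N η ξ := by rw [hN ξ ξ.2 η, hN η η.2 ξ, BrauerFeit.regCoef_comm]
    exact_mod_cast this
  have hsubB : ∀ f : IrrCharacter C → ℂ, ∑ η : b, f η = ∑ η ∈ b.toFinset, f η := fun f =>
    (Finset.sum_subtype b.toFinset (fun x => Set.mem_toFinset) f).symm
  have hidem : ∀ ξ ζ : b, ∑ η : b, N ξ η * N η ζ = (p : ℤ) ^ blockDefect p b * N ξ ζ := fun ξ ζ => by
    have : ((∑ η : b, N ξ η * N η ζ : ℤ) : ℂ) = (((p : ℤ) ^ blockDefect p b * N ξ ζ : ℤ) : ℂ) := by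
      push_cast
      rw [hN ξ ξ.2 ζ, ← BrauerFeit.sum_toFinset_regCoef_mul (BrauerFeit.regOrth hM) hb.1
        (φ := (ζ : IrrCharacter C)) ξ.2, Finset.mul_sum, Finset.mul_sum,
        hsubB fun η => (N ξ η : ℂ) * (N η ζ : ℂ)]
      refine Finset.sum_congr rfl fun η hη => ?_
      rw [hN ξ ξ.2 η, hN η (Set.mem_toFinset.1 hη) ζ]
      ring
    exact_mod_cast this
  obtain ⟨l, g, s, Q, hQsym, hQs, hNQ, hQA, htr⟩ :=
    exists_factor (fun ξ η : b => N ξ η) _ hsym hidem
  let A : Fin l → Fin l → ℤ := fun a c => ∑ i, g i a * g i c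
  have hA : ∀ a c, ∑ e, Q a e * A e c = if a = c then (p : ℤ) ^ blockDefect p b else 0 := hQA
  have hAsym : ∀ a c, A a c = A c a := fun a c => Finset.sum_congr rfl fun i _ => mul_comm _ _
  have hpd : (p : ℂ) ^ blockDefect p b ≠ 0 := pow_ne_zero _ (Nat.cast_ne_zero.2 hM.1.ne_zero)
  have hAQ : ∀ a c, ∑ e, (A a e : ℂ) * (Q e c : ℂ) =
      if a = c then (p : ℂ) ^ blockDefect p b else 0 := fun a c => by
    have : (∑ e, A a e * Q e c : ℤ) = if a = c then (p : ℤ) ^ blockDefect p b else 0 := by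
      rw [if_congr (eq_comm (a := a)) rfl rfl, ← hA c a]
      exact Finset.sum_congr rfl fun e _ => by rw [hQsym e c, hAsym a e, mul_comm]
    exact_mod_cast this
  let X : IrrCharacter G → Fin l → ℕ → ℂ := fun χ a t => ∑ η : b,
    classInner (fun c : C => (χ : G → ℂ) c) ((η : IrrCharacter C) : C → ℂ) *
      secScalar hC η ^ t * (g η a : ℂ)
  refine ⟨l, Q, A, X, ?_, hQsym, hAsym, hA, fun v => ?_, ⟨fun a => ∑ i, (s a i : ℂ) *
    (((i : IrrCharacter C) : C → ℂ) 1 / (p : ℂ) ^ minExp p b), mu, hmuR, fun a => mem_localRing.1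
      (sum_mem fun i _ => mul_mem (intCast_mem_localRing _) (mem_localRing.2 (degree_div_mem hM i.2))),
    fun a c => ?_⟩, fun χ a => ?_,
    fun t ht χ ψ => ?_, fun t ht a c => ?_⟩
  · have h1 : ((∑ i : b, N i i : ℤ) : ℂ) = (((p : ℤ) ^ blockDefect p b * l : ℤ) : ℂ) := by
      exact_mod_cast htr
    push_cast at h1
    rw [hsubB fun η => (N η η : ℂ), Finset.sum_congr rfl fun η hη => hN η (Set.mem_toFinset.1 hη) η,
      ← Finset.mul_sum, ← BrauerFeit.blockRank_eq_sum_regCoef hM hb.1] at h1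
    exact_mod_cast (mul_left_cancel₀ hpd h1).symm
  · have : ∑ a, ∑ c, v a * A a c * v c = ∑ i, (∑ a, v a * g i a) ^ 2 := by
      simp only [A, sq, Finset.mul_sum, Finset.sum_mul]
      rw [Finset.sum_comm]
      conv_rhs => rw [Finset.sum_comm]
      refine Finset.sum_congr rfl fun a _ => ?_
      rw [Finset.sum_comm]
      exact Finset.sum_congr rfl fun i _ => Finset.sum_congr rfl fun c _ => by ring
    rw [this]
    exact Finset.sum_nonneg fun i _ => sq_nonneg _
  · rw [hQs]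
    push_cast
    rw [mul_assoc, Finset.sum_mul_sum, Finset.mul_sum, ← Finset.sum_sub_distrib]
    refine memLocalIdeal_sum _ _ fun i _ => ?_
    rw [Finset.mul_sum, ← Finset.sum_sub_distrib]
    refine memLocalIdeal_sum _ _ fun i' _ => ?_
    have h := memLocalIdeal_mul_left (mem_localRing.1 (mul_mem
      (intCast_mem_localRing (M := M) (s a i)) (intCast_mem_localRing (M := M) (s c i'))))
      (hmu i i.2 i' i'.2)
    convert h using 1
    ring
  · exact IsCyc.sum _ fun η _ => (isCyc_secMult hz hC χ η).mul (IsCyc.intCast _)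
  · rw [← famFun_eq hM hz hC hb.1 hN χ ψ ht, famFun, ← hsubB fun η => ∑ η' ∈ b.toFinset,
      classInner (fun c : C => (χ : G → ℂ) c) (η : C → ℂ) * secScalar hC η ^ t *
      conj (classInner (fun c : C => (ψ : G → ℂ) c) (η' : C → ℂ) * secScalar hC η' ^ t) *
      (N η η' : ℂ)]
    simp only [X, map_sum, Finset.sum_mul, Finset.mul_sum]
    rw [sum_comm_four]
    conv_rhs => rw [Finset.sum_comm]
    refine Finset.sum_congr rfl fun η _ => ?_
    rw [← hsubB fun η' => classInner (fun c : C => (χ : G → ℂ) c) ((η : IrrCharacter C) : C → ℂ) *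
      secScalar hC η ^ t *
      conj (classInner (fun c : C => (ψ : G → ℂ) c) (η' : C → ℂ) * secScalar hC η' ^ t) *
      (N η η' : ℂ)]
    refine Finset.sum_congr rfl fun η' _ => ?_
    rw [hNQ η η']
    push_cast
    simp only [Finset.mul_sum]
    refine Finset.sum_congr rfl fun a _ => Finset.sum_congr rfl fun c _ => ?_
    simp only [map_mul, map_intCast]
    ring
  · have hC' := eq_centralizer_pow hz hC ht
    have hXW : ∀ χ : IrrCharacter G, ∀ a,
        X χ a t = ∑ ξ : b, secCoef p (z ^ t) χ (ξ : IrrCharacter C) * (g ξ a : ℂ) := by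
      intro χ a
      have hw : ∀ ξ : b, (p : ℂ) ^ blockDefect p b * secCoef p (z ^ t) χ (ξ : IrrCharacter C) =
          ∑ a', ∑ c', X χ a' t * (Q a' c' : ℂ) * (g ξ c' : ℂ) := by
        intro ξ
        rw [secCoef_eq_block hM hC' hb.1 χ ξ.2, Finset.mul_sum,
          ← hsubB fun η => (p : ℂ) ^ blockDefect p b * (secMult hC' χ η * regCoef p η ξ)]
        simp only [X, Finset.sum_mul]
        rw [Finset.sum_congr rfl fun a' _ => Finset.sum_comm, Finset.sum_comm]
        refine Finset.sum_congr rfl fun η _ => ?_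
        rw [mul_left_comm, ← hN η η.2 ξ, hNQ η ξ, secMult, secScalar_of_pow hz hC ht]
        push_cast
        simp only [Finset.mul_sum]
        exact Finset.sum_congr rfl fun a' _ => Finset.sum_congr rfl fun c' _ => by ring
      refine mul_left_cancel₀ hpd ?_
      conv_rhs => rw [Finset.mul_sum]
      conv_rhs => arg 2; ext ξ; rw [← mul_assoc, hw ξ]
      simp only [Finset.sum_mul]
      rw [Finset.sum_comm, Finset.sum_congr rfl fun a' _ => Finset.sum_comm]
      rw [Finset.sum_eq_single a]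
      · rw [Finset.sum_congr rfl (g := fun c' => X χ a t * ((Q a c' : ℂ) * (A c' a : ℂ))) fun c' _ => ?_,
          ← Finset.mul_sum]
        · have := hA a a
          rw [if_pos rfl] at this
          have h2 : ∑ e, (Q a e : ℂ) * (A e a : ℂ) = (p : ℂ) ^ blockDefect p b := by exact_mod_cast this
          rw [h2, mul_comm]
        · simp only [A, Int.cast_sum, Int.cast_mul, Finset.mul_sum]
          exact Finset.sum_congr rfl fun ξ _ => by ring
      · intro a' _ hne
        rw [Finset.sum_congr rfl (g := fun c' => X χ a' t * ((Q a' c' : ℂ) * (A c' a : ℂ))) fun c' _ => ?_,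
          ← Finset.mul_sum]
        · have := hA a' a
          rw [if_neg hne] at this
          have h2 : ∑ e, (Q a' e : ℂ) * (A e a : ℂ) = 0 := by exact_mod_cast this
          rw [h2, mul_zero]
        · simp only [A, Int.cast_sum, Int.cast_mul, Finset.mul_sum]
          exact Finset.sum_congr rfl fun ξ _ => by ring
      · exact fun h => absurd (Finset.mem_univ _) h
    have hzero : ∀ χ, χ ∉ B → ∀ a, X χ a t = 0 := fun χ hχ a => by
      rw [hXW]
      exact Finset.sum_eq_zero fun ξ _ => by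
        rw [secCoef_eq_zero hM ⟨j, orderOf_pow_prime hz ht⟩ hC' hb hχ ξ.2, zero_mul]
    rw [Finset.sum_subset (Finset.subset_univ B.toFinset) fun χ _ hχ => by
      rw [hzero χ (by simpa using hχ) a, zero_mul]]
    calc ∑ χ : IrrCharacter G, X χ a t * conj (X χ c t)
        = ∑ χ : IrrCharacter G, ∑ ξ : b, ∑ ξ' : b, (g ξ a : ℂ) * (g ξ' c : ℂ) *
            (secCoef p (z ^ t) χ (ξ : IrrCharacter C) * conj (secCoef p (z ^ t) χ (ξ' : IrrCharacter C))) := by
          refine Finset.sum_congr rfl fun χ _ => ?_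
          rw [hXW χ a, hXW χ c, map_sum, Finset.sum_mul_sum]
          refine Finset.sum_congr rfl fun ξ _ => Finset.sum_congr rfl fun ξ' _ => ?_
          rw [map_mul, map_intCast]
          ring
      _ = ∑ ξ : b, ∑ ξ' : b, (g ξ a : ℂ) * (g ξ' c : ℂ) * regCoef p (ξ' : IrrCharacter C) ξ := by
          rw [Finset.sum_comm]
          refine Finset.sum_congr rfl fun ξ _ => ?_
          rw [Finset.sum_comm]
          refine Finset.sum_congr rfl fun ξ' _ => ?_
          rw [← Finset.mul_sum, sum_secCoef_mul_conj hM ⟨j, orderOf_pow_prime hz ht⟩ hC']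
      _ = (A a c : ℂ) := by
          refine mul_left_cancel₀ hpd ?_
          simp only [Finset.mul_sum]
          calc ∑ ξ : b, ∑ ξ' : b, (p : ℂ) ^ blockDefect p b *
                ((g ξ a : ℂ) * (g ξ' c : ℂ) * regCoef p (ξ' : IrrCharacter C) ξ)
              = ∑ ξ : b, ∑ ξ' : b, ∑ a', ∑ c', (g ξ a : ℂ) * (g ξ a' : ℂ) * (Q a' c' : ℂ) *
                  ((g ξ' c' : ℂ) * (g ξ' c : ℂ)) := by
                refine Finset.sum_congr rfl fun ξ _ => Finset.sum_congr rfl fun ξ' _ => ?_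
                rw [mul_left_comm, ← hN ξ' ξ'.2 ξ, hsym ξ' ξ, hNQ ξ ξ']
                push_cast
                simp only [Finset.mul_sum]
                exact Finset.sum_congr rfl fun a' _ => Finset.sum_congr rfl fun c' _ => by ring
            _ = ∑ a', ∑ c', (A a a' : ℂ) * (Q a' c' : ℂ) * (A c' c : ℂ) := by
                rw [Finset.sum_congr rfl fun ξ _ => Finset.sum_comm,
                  Finset.sum_comm]
                refine Finset.sum_congr rfl fun a' _ => ?_
                rw [Finset.sum_congr rfl fun ξ _ => Finset.sum_comm, Finset.sum_comm]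
                refine Finset.sum_congr rfl fun c' _ => ?_
                simp only [A, Int.cast_sum, Int.cast_mul, Finset.mul_sum, Finset.sum_mul]
                rw [Finset.sum_comm]
            _ = (p : ℂ) ^ blockDefect p b * (A a c : ℂ) := by
                rw [Finset.sum_comm, Finset.sum_congr rfl fun c' _ => by
                  rw [← Finset.sum_mul, hAQ a c'], Finset.sum_eq_single a]
                · rw [if_pos rfl]
                · intro c' _ hne
                  rw [if_neg hne.symm, zero_mul]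
                · exact fun h => absurd (Finset.mem_univ _) h

end Cfsg.Agent.Lib.Contrib

namespace Cfsg.Agent.Lib.Contrib

open Cfsg
open Cfsg.Agent.Lib
open Cfsg.Agent.Lib.Blocks
open scoped ComplexConjugate

attribute [local instance] Classical.propDecidable

universe u

variable {G : Type u} [Group G] [Fintype G] {p : ℕ} {M : Ideal AlgInt} [Fact p.Prime] [M.IsPrime]
  {C : Subgroup G} [Fintype C] {z : G} {j : ℕ} {b : Set (IrrCharacter C)} {B : Set (IrrCharacter G)}

omit [Fintype G] [M.IsPrime] [Fintype C] in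
/-- The entry at `1` of the form given by columns. -/
noncomputable def formAtOne {l : ℕ} (Q : Fin l → Fin l → ℤ)
    (X : IrrCharacter G → Fin l → ℕ → ℂ) (χ ψ : IrrCharacter G) : ℂ :=
  ∑ a, ∑ c, X χ a 1 * (Q a c : ℂ) * conj (X ψ c 1)

/-- The columns of a major subsection. -/
theorem exists_major_columns (hM : IsPModular p M) (hz : orderOf z = p ^ j)
    (hC : C = Subgroup.centralizer ({z} : Set G)) (hb : IsInducedBlock M C b B)
    (hmaj : blockDefect p b = blockDefect p B) :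
    ∃ (l : ℕ) (Q A : Fin l → Fin l → ℤ) (X : IrrCharacter G → Fin l → ℕ → ℂ) (σ : Fin l → ℂ)
      (mu : ℂ),
      l = blockRank p b ∧ (∀ a c, Q a c = Q c a) ∧ (∀ a c, A a c = A c a) ∧
      (∀ a c, ∑ e, Q a e * A e c = if a = c then (p : ℤ) ^ blockDefect p b else 0) ∧
      (∀ v : Fin l → ℤ, 0 ≤ ∑ a, ∑ c, v a * A a c * v c) ∧
      (MemLocalRing M mu ∧ ∀ a, MemLocalRing M (σ a)) ∧
      (∀ a c, MemLocalIdeal M ((Q a c : ℂ) - mu * σ a * σ c)) ∧
      (∀ χ a, IsCyc (theRoot p j) (X χ a)) ∧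
      (∀ t, ¬ p ∣ t → ∀ a c, ∑ χ ∈ B.toFinset, X χ a t * conj (X χ c t) = (A a c : ℂ)) ∧
      (∀ χ ∈ B, ∀ ψ ∈ B, blockHeight p B (ψ : G → ℂ) = 0 → formAtOne Q X χ ψ ≠ 0) ∧
      (∀ ψ ∈ B, blockHeight p B (ψ : G → ℂ) = 0 → ¬ MemLocalIdeal M (formAtOne Q X ψ ψ)) ∧
      (∀ χ ∈ B, blockHeight p B (χ : G → ℂ) ≠ 0 → MemLocalIdeal M (formAtOne Q X χ χ)) := by
  obtain ⟨l, Q, A, X, hl, hQ, hA, hQA, hpos, ⟨σ, mu, hmuR, hσR, hσ⟩, hX, hform, hsum⟩ :=
    exists_columns hM hz hC hb
  obtain ⟨F, lam, -, hF, -, -, -, hlR, hlU, hlam⟩ := exists_family hM hz hC hb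
  obtain ⟨hVI, hne⟩ := major_facts hM hz hC hb hmaj hF hlR hlU hlam
  have hVR : ∀ χ : IrrCharacter G, MemLocalRing M (blockVal p b fun c : C => (χ : G → ℂ) c) :=
    fun χ => memLocalRing_blockVal hM b (Chars.isCharacter_restrict _ (Chars.irr_isCharacter χ))
  have hFQ : ∀ χ ψ, F χ ψ 1 = formAtOne Q X χ ψ := fun χ ψ => by
    rw [hF χ ψ 1 hM.1.not_dvd_one, hform 1 hM.1.not_dvd_one χ ψ, formAtOne]
  refine ⟨l, Q, A, X, σ, mu, hl, hQ, hA, hQA, hpos, ⟨hmuR, hσR⟩, hσ, hX, hsum,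
    fun χ hχ ψ hψ h0 => hFQ χ ψ ▸ hne χ hχ ψ hψ h0, fun ψ hψ h0 h => ?_, fun χ hχ h => ?_⟩
  · have hV : ¬ MemLocalIdeal M (blockVal p b fun c : C => (ψ : G → ℂ) c) := by
      subst hC
      exact blockVal_subsection hM ⟨j, hz⟩ hb hψ h0
    refine not_memLocalIdeal_mul (mem_localRing.1 (mul_mem (mem_localRing.2 hlR)
      (mem_localRing.2 (hVR ψ)))) (hVR ψ) (not_memLocalIdeal_mul hlR (hVR ψ) hlU hV) hV ?_
    rw [← hFQ] at h
    simpa using memLocalIdeal_sub h (hlam ψ ψ)
  · rw [← hFQ]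
    have h1 := memLocalIdeal_add (hlam χ χ) (memLocalIdeal_mul_left (mem_localRing.1
      (mul_mem (mem_localRing.2 hlR) (mem_localRing.2 (hVR χ)))) (hVI χ hχ h))
    rwa [sub_add_cancel] at h1

end Cfsg.Agent.Lib.Contrib

namespace Cfsg.Agent.Lib.Contrib

open Cfsg
open Cfsg.Agent.Lib
open Cfsg.Agent.Lib.Blocks

universe u

variable {G : Type u} [Group G] [Finite G] {p : ℕ} [Fact p.Prime] {M : Ideal AlgInt}

/-- A central element of a defect group gives a major subsection. -/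
theorem exists_orderOf_of_central (hM : IsPModular p M) {B : Set (IrrCharacter G)}
    (hB : IsPBlock M B) {D : Subgroup G} (hD : IsDefectGroup p M B D) {z : G} (hzD : z ∈ D)
    (hzc : ∀ d ∈ D, d * z = z * d) {b : Set (IrrCharacter (Subgroup.centralizer ({z} : Set G)))}
    (hb : IsPBlock M b) (hbD : IsDefectGroup p M b (D.subgroupOf (Subgroup.centralizer {z}))) :
    (∃ j : ℕ, orderOf z = p ^ j) ∧ blockDefect p b = blockDefect p B := by
  have := isPModular_isPrime hM
  obtain ⟨k, hk⟩ := (isPGroup_of_isDefectGroup hD) ⟨z, hzD⟩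
  obtain ⟨j, -, hj⟩ := (Nat.dvd_prime_pow (Fact.out : p.Prime)).1
    (orderOf_dvd_of_pow_eq_one (x := z) (n := p ^ k) (congrArg Subtype.val hk))
  refine ⟨⟨j, hj⟩, Nat.pow_right_injective (Fact.out : p.Prime).two_le ?_⟩
  have hle : D ≤ Subgroup.centralizer ({z} : Set G) := fun d hd =>
    Subgroup.mem_centralizer_singleton_iff.2 (hzc d hd)
  show p ^ blockDefect p b = p ^ blockDefect p B
  rw [← card_defectGroup hM hb hbD, ← card_defectGroup hM hB hD,
    Nat.card_congr (Subgroup.subgroupOfEquivOfLe hle).toEquiv]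

end Cfsg.Agent.Lib.Contrib
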