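import Mathlib

/-!
# Reduction of an idempotent matrix, fixed points of `p`-groups, and right ideals of group algebras
-/

set_option autoImplicit false

namespace Cfsg.Agent.Lib.Contrib

section Idem

variable {R K ι : Type*} [CommRing R] [IsLocalRing R] [Field K] [Fintype ι] [DecidableEq ι]

/-- The range of an idempotent matrix over a local ring has a basis whose size is the trace and
bounds the rank of every reduction. -/
theorem exists_rank_bound (φ : R →+* K) {E : Matrix ι ι R} (hE : E * E = E) :
    ∃ r : ℕ, E.trace = r ∧ Module.finrank K (LinearMap.range (E.map φ).mulVecLin) ≤ r := by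
  classical
  set f : Module.End R (ι → R) := E.mulVecLin with hf
  have hff : ∀ x, f (f x) = f x := fun x => by
    rw [hf, Matrix.mulVecLin_apply, Matrix.mulVecLin_apply, Matrix.mulVec_mulVec, hE]
  have hproj : LinearMap.IsProj (LinearMap.range f) f :=
    ⟨fun x => LinearMap.mem_range_self f x, by rintro _ ⟨y, rfl⟩; exact hff y⟩
  haveI hP : Module.Projective R (LinearMap.range f) :=
    Module.Projective.of_split (LinearMap.range f).subtype f.rangeRestrict
      (LinearMap.ext fun x => Subtype.ext (hproj.map_id _ x.2))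
  haveI hPf : Module.Finite R (LinearMap.range f) := Module.Finite.range f
  haveI hQ : Module.Projective R (LinearMap.ker f) :=
    Module.Projective.of_split (LinearMap.ker f).subtype
      ((LinearMap.id - f).codRestrict (LinearMap.ker f) fun x => by simp [hff])
      (LinearMap.ext fun x => Subtype.ext (by simp [LinearMap.mem_ker.1 x.2]))
  haveI hQf : Module.Finite R (LinearMap.ker f) := Module.Finite.of_surjective (M := ι → R)
    ((LinearMap.id - f).codRestrict (LinearMap.ker f) fun x => by simp [hff])
    fun x => ⟨x, Subtype.ext (by simp [LinearMap.mem_ker.1 x.2])⟩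
  haveI : Module.Free R (LinearMap.range f) := Module.free_of_flat_of_isLocalRing
  haveI : Module.Free R (LinearMap.ker f) := Module.free_of_flat_of_isLocalRing
  refine ⟨Module.finrank R (LinearMap.range f), ?_, ?_⟩
  · rw [← hproj.trace, hf, ← Matrix.toLin'_apply', Matrix.trace_toLin'_eq]
  · let bP := Module.finBasis R (LinearMap.range f)
    let w : Fin (Module.finrank R (LinearMap.range f)) → ι → K := fun a i => φ ((bP a : ι → R) i)
    refine le_trans (Submodule.finrank_mono (t := Submodule.span K (Set.range w)) ?_)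
      ((finrank_range_le_card w).trans (by simp))
    rw [Matrix.range_mulVecLin, Submodule.span_le]
    rintro _ ⟨i, rfl⟩
    have hcol := bP.sum_repr (f.rangeRestrict (Pi.single i 1))
    show (fun a => φ (E a i)) ∈ Submodule.span K (Set.range w)
    have heq : (fun a => φ (E a i)) =
        ∑ c, φ (bP.repr (f.rangeRestrict (Pi.single i 1)) c) • w c := by
      funext a
      have h := congrArg (fun x : LinearMap.range f => φ ((x : ι → R) a)) hcol
      simp only [Submodule.coe_sum, Submodule.coe_smul, Finset.sum_apply, Pi.smul_apply, smul_eq_mul,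
        map_sum, map_mul, LinearMap.codRestrict_apply, hf, Matrix.mulVecLin_apply,
        Matrix.mulVec_single, MulOpposite.op_one, one_smul, Matrix.col_apply] at h
      simp only [Finset.sum_apply, Pi.smul_apply, smul_eq_mul, w]
      exact h.symm
    rw [heq]
    exact Submodule.sum_mem _ fun c _ => Submodule.smul_mem _ _ (Submodule.subset_span ⟨c, rfl⟩)

/-- The trace of an idempotent matrix over a local ring is the rank of its reduction. -/
theorem trace_eq_rank_reduction [CharZero R] (φ : R →+* K) {E : Matrix ι ι R} (hE : E * E = E) :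
    E.trace = (Module.finrank K (LinearMap.range (E.map φ).mulVecLin) : R) := by
  obtain ⟨r, hr, hle⟩ := exists_rank_bound φ hE
  obtain ⟨s, hs, hle'⟩ := exists_rank_bound φ (E := 1 - E)
    (by rw [mul_sub, mul_one, sub_mul, one_mul, hE, sub_self, sub_zero])
  have hsum : r + s = Fintype.card ι := by
    have : ((r + s : ℕ) : R) = (Fintype.card ι : R) := by
      push_cast
      rw [← hr, ← hs, Matrix.trace_sub, Matrix.trace_one, add_sub_cancel]
    exact_mod_cast this
  have htop : Fintype.card ι ≤ Module.finrank K (LinearMap.range (E.map φ).mulVecLin) +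
      Module.finrank K (LinearMap.range ((1 - E).map φ).mulVecLin) := by
    refine le_trans ?_ (Submodule.finrank_add_le_finrank_add_finrank _ _)
    rw [← Module.finrank_fintype_fun_eq_card (R := K), ← finrank_top K (ι → K)]
    refine Submodule.finrank_mono fun x _ => Submodule.mem_sup.2
      ⟨_, ⟨x, rfl⟩, _, ⟨x, rfl⟩, ?_⟩
    rw [Matrix.mulVecLin_apply, Matrix.mulVecLin_apply, ← Matrix.add_mulVec,
      Matrix.map_sub φ (map_sub φ), Matrix.map_one φ (map_zero φ) (map_one φ), add_sub_cancel,
      Matrix.one_mulVec]
  rw [hr, show Module.finrank K (LinearMap.range (E.map φ).mulVecLin) = r by omega]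

end Idem

section FixedPoint

variable {p : ℕ} [hp : Fact p.Prime] {k : Type*} [Field k] [CharP k p] {V : Type*} [AddCommGroup V]
  [Module k V] {H : Type*} [Group H]

/-- A finite `p`-group fixes a nonzero vector of every nonzero invariant subspace in
characteristic `p`. -/
theorem exists_fixed_ne_zero [Finite H] (hH : IsPGroup p H) (ρ : Representation k H V)
    {W : Submodule k V} (hW : ∀ h, ∀ w ∈ W, ρ h w ∈ W) (hW0 : W ≠ ⊥) :
    ∃ w ∈ W, w ≠ 0 ∧ ∀ h, ρ h w = w := by
  obtain ⟨w₀, hw₀, hw₀0⟩ := (Submodule.ne_bot_iff W).1 hW0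
  let U : AddSubgroup V := AddSubgroup.closure (Set.range fun h => ρ h w₀)
  have hpz : ∀ x : V, p • x = 0 := fun x => by
    rw [← Nat.cast_smul_eq_nsmul k, CharP.cast_eq_zero, zero_smul]
  have hUW : ∀ x ∈ U, x ∈ W := fun x hx => by
    refine (AddSubgroup.closure_le (K := W.toAddSubgroup)).2 ?_ hx
    rintro _ ⟨h, rfl⟩
    exact hW h w₀ hw₀
  haveI : AddGroup.FG U := (AddGroup.fg_iff_addSubgroup_fg U).2
    ((AddSubgroup.fg_iff U).2 ⟨_, rfl, Set.finite_range _⟩)
  haveI : Finite U := AddCommGroup.finite_of_fg_isAddTorsion U fun x =>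
    isOfFinAddOrder_iff_nsmul_eq_zero.2 ⟨p, hp.out.pos, Subtype.ext (hpz _)⟩
  have hUinv : ∀ h, ∀ x ∈ U, ρ h x ∈ U := fun h x hx => by
    induction hx using AddSubgroup.closure_induction with
    | mem y hy =>
      obtain ⟨g, rfl⟩ := hy
      exact AddSubgroup.subset_closure ⟨h * g, by simp⟩
    | zero => simp
    | add a c _ _ ha hc => rw [map_add]; exact U.add_mem ha hc
    | neg a _ ha => rw [map_neg]; exact U.neg_mem ha
  letI : MulAction H U :=
    { smul := fun h x => ⟨ρ h x, hUinv h x x.2⟩
      one_smul := fun x => Subtype.ext (by show ρ 1 (x : V) = x; simp)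
      mul_smul := fun a c x => Subtype.ext (by show ρ (a * c) (x : V) = ρ a (ρ c x); simp) }
  have hdvd : p ∣ Nat.card U := by
    have hne : (⟨ρ 1 w₀, AddSubgroup.subset_closure ⟨1, rfl⟩⟩ : U) ≠ 0 := fun h => hw₀0 (by
      simpa using congrArg Subtype.val h)
    rw [← addOrderOf_eq_prime (Subtype.ext (hpz _)) hne]
    exact addOrderOf_dvd_natCard _
  have hfix : (0 : U) ∈ MulAction.fixedPoints H U := fun h => Subtype.ext (map_zero (ρ h))
  obtain ⟨x, hx, hx0⟩ := hH.exists_fixed_point_of_prime_dvd_card_of_fixed_point U hdvd hfix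
  exact ⟨x, hUW x x.2, fun h => hx0 (Subtype.ext h).symm, fun h => congrArg Subtype.val (hx h)⟩

end FixedPoint

section RightIdeal

variable {p : ℕ} [hp : Fact p.Prime] {k : Type*} [Field k] [CharP k p] {G : Type*} [Group G] [Finite G]

open MonoidAlgebra

/-- An idempotent right multiplication on a group algebra has rank divisible by the order of every
`p`-subgroup. -/
theorem card_dvd_finrank_mulRight (H : Subgroup G) (hH : IsPGroup p H) {e : MonoidAlgebra k G}
    (he : IsIdempotentElem e) :
    Nat.card H ∣ Module.finrank k (LinearMap.range (LinearMap.mulRight k e)) := by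
  classical
  cases nonempty_fintype G
  let N : (MonoidAlgebra k G) := ∑ h : H, single (h : G) 1
  have hsh : ∀ h : H, single (h : G) (1 : k) * N = N := fun h => by
    simp only [N, Finset.mul_sum, single_mul_single, one_mul, ← Subgroup.coe_mul]
    exact Equiv.sum_comp (Equiv.mulLeft h) fun h' : H => single (h' : G) (1 : k)
  let Fx : Submodule k (MonoidAlgebra k G) :=
    { carrier := {x | ∀ h : H, single (h : G) (1 : k) * x = x}
      add_mem' := fun {x y} hx hy h => by rw [mul_add, hx h, hy h]
      zero_mem' := fun h => mul_zero _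
      smul_mem' := fun c x hx h => by rw [mul_smul_comm, hx h] }
  have hFx : ∀ {x : (MonoidAlgebra k G)}, x ∈ Fx ↔ ∀ h : H, single (h : G) (1 : k) * x = x := Iff.rfl
  let Q := Quotient (QuotientGroup.rightRel H)
  let mk : G → Q := Quotient.mk''
  have hmk : ∀ a c : G, mk a = mk c ↔ c * a⁻¹ ∈ H := fun a c => by
    show Quotient.mk'' a = Quotient.mk'' c ↔ _
    rw [Quotient.eq'', QuotientGroup.rightRel_apply]
  have hcoef : ∀ x ∈ Fx, ∀ a c : G, mk a = mk c → x.coeff a = x.coeff c := fun x hx a c h => by
    have h' := congrArg (fun y : (MonoidAlgebra k G) => y.coeff c) (hFx.1 hx ⟨c * a⁻¹, (hmk a c).1 h⟩)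
    simpa [coeff_single_mul_apply] using h'
  let ofQ : (Q → k) →ₗ[k] (MonoidAlgebra k G) :=
    { toFun := fun f => MonoidAlgebra.ofCoeff (Finsupp.equivFunOnFinite.symm fun g => f (mk g))
      map_add' := fun f g => by ext x; simp
      map_smul' := fun c f => by ext x; simp }
  have hofQ : ∀ f g, (ofQ f).coeff g = f (mk g) := fun _ _ => rfl
  let Φ : Fx ≃ₗ[k] (Q → k) :=
    { toFun := fun x q => (x : (MonoidAlgebra k G)).coeff q.out
      map_add' := fun x y => funext fun q => by simp
      map_smul' := fun c x => funext fun q => by simp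
      invFun := fun f => ⟨ofQ f, fun h => by
        ext g
        rw [coeff_single_mul_apply, one_mul, hofQ, hofQ,
          (hmk ((h : G)⁻¹ * g) g).2 (by simp)]⟩
      left_inv := fun x => Subtype.ext (by
        ext g
        rw [hofQ]
        exact hcoef x x.2 _ _ (Quotient.out_eq _))
      right_inv := fun f => funext fun q => by
        show (ofQ f).coeff q.out = f q
        rw [hofQ]
        exact congrArg f (Quotient.out_eq q) }
  have hdimFx : Module.finrank k Fx * Nat.card H = Nat.card G := by
    rw [Φ.finrank_eq, Module.finrank_fintype_fun_eq_card, ← Nat.card_eq_fintype_card,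
      Nat.card_congr (QuotientGroup.quotientRightRelEquivQuotientLeftRel H), ← Subgroup.index,
      Subgroup.index_mul_card]
  have hFxN : ∀ x ∈ Fx, ∃ z : (MonoidAlgebra k G), N * z = x := fun x hx => by
    refine ⟨∑ q : Q, single q.out (x.coeff q.out), ?_⟩
    ext g
    simp only [N, Finset.sum_mul, Finset.mul_sum, single_mul_single, one_mul, map_sum,
      MonoidAlgebra.coeff_sum, coeff_single, Finsupp.coe_finsetSum, Finset.sum_apply]
    rw [Finset.sum_eq_single (mk g)]
    · rw [Finset.sum_eq_single (⟨g * (mk g).out⁻¹, (hmk _ _).1 (Quotient.out_eq _)⟩ : H)]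
      · rw [show g * (mk g).out⁻¹ * (mk g).out = g by group, Finsupp.single_eq_same]
        exact hcoef x hx _ _ (Quotient.out_eq _)
      · intro h _ hh
        exact Finsupp.single_eq_of_ne fun hbad => hh (Subtype.ext (eq_mul_inv_of_mul_eq hbad.symm))
      · exact fun h => absurd (Finset.mem_univ _) h
    · intro q _ hq
      refine Finset.sum_eq_zero fun h _ => Finsupp.single_eq_of_ne fun hbad => hq ?_
      exact ((Quotient.out_eq q).symm.trans ((hmk q.out g).2 (by rw [hbad]; simp)))
    · exact fun h => absurd (Finset.mem_univ _) h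
  -- the bound for each of the two complementary summands
  have key : ∀ f : (MonoidAlgebra k G), IsIdempotentElem f →
      Nat.card H * Module.finrank k (Fx ⊓ LinearMap.range (LinearMap.mulRight k f) : Submodule k (MonoidAlgebra k G)) ≤
        Module.finrank k (LinearMap.range (LinearMap.mulRight k f)) := by
    intro f hf
    set M := LinearMap.range (LinearMap.mulRight k f) with hM
    have hMmem : ∀ x, x ∈ M ↔ x * f = x := fun x => by
      refine ⟨?_, fun h => ⟨x, h⟩⟩
      rintro ⟨y, rfl⟩
      show y * f * f = y * f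
      rw [mul_assoc, hf.eq]
    set r := Module.finrank k (Fx ⊓ M : Submodule k (MonoidAlgebra k G)) with hr
    let bas := Module.finBasis k (Fx ⊓ M : Submodule k (MonoidAlgebra k G))
    have hpre : ∀ a, ∃ z ∈ M, N * z = (bas a : (MonoidAlgebra k G)) := fun a => by
      obtain ⟨z, hz⟩ := hFxN _ (Submodule.mem_inf.1 (bas a).2).1
      refine ⟨z * f, ⟨z, rfl⟩, ?_⟩
      rw [← mul_assoc, hz, (hMmem _).1 (Submodule.mem_inf.1 (bas a).2).2]
    choose z hzM hz using hpre
    let ψ : (Fin r × H → k) →ₗ[k] M :=
      { toFun := fun c => ⟨∑ a, ∑ h : H, c (a, h) • (single (h : G) 1 * z a),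
          M.sum_mem fun a _ => M.sum_mem fun h _ => M.smul_mem _ ((hMmem _).2 (by
            rw [mul_assoc, (hMmem _).1 (hzM a)]))⟩
        map_add' := fun c c' => Subtype.ext (by simp [add_smul, Finset.sum_add_distrib])
        map_smul' := fun s c => Subtype.ext (by simp [Finset.smul_sum, smul_smul]) }
    have hψ : ∀ c, (ψ c : (MonoidAlgebra k G)) = ∑ a, ∑ h : H, c (a, h) • (single (h : G) 1 * z a) := fun _ => rfl
    let ρ : Representation k H (Fin r × H → k) :=
      { toFun := fun g => LinearMap.funLeft k k fun x : Fin r × H => (x.1, g⁻¹ * x.2)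
        map_one' := by ext c x; simp [LinearMap.funLeft_apply]
        map_mul' := fun a c => by ext f x; simp [LinearMap.funLeft_apply, mul_assoc] }
    have hρ : ∀ g c, (ψ (ρ g c) : (MonoidAlgebra k G)) = single (g : G) 1 * (ψ c : (MonoidAlgebra k G)) := fun g c => by
      rw [hψ, hψ, Finset.mul_sum]
      refine Finset.sum_congr rfl fun a _ => ?_
      rw [Finset.mul_sum, ← Equiv.sum_comp (Equiv.mulLeft g)]
      refine Finset.sum_congr rfl fun h _ => ?_
      rw [mul_smul_comm, ← mul_assoc, single_mul_single, one_mul]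
      simp [ρ, LinearMap.funLeft_apply]
    have hinj : Function.Injective ψ := by
      rw [← LinearMap.ker_eq_bot]
      by_contra hne
      obtain ⟨c, hc, hc0, hcfix⟩ := exists_fixed_ne_zero hH ρ
        (W := LinearMap.ker ψ) (fun g c hc => Subtype.ext (by
          rw [hρ, LinearMap.mem_ker.1 hc]; simp)) hne
      refine hc0 (funext fun x => ?_)
      have hconst : ∀ a (h : H), c (a, h) = c (a, 1) := fun a h => by
        have := congrFun (hcfix h) (a, h)
        simpa [ρ, LinearMap.funLeft_apply] using this.symm
      have h0 : ∑ a, c (a, 1) • bas a = 0 := Subtype.ext (by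
        rw [Submodule.coe_sum, ZeroMemClass.coe_zero, ← ZeroMemClass.coe_zero M,
          ← LinearMap.mem_ker.1 hc, hψ]
        refine Finset.sum_congr rfl fun a _ => ?_
        rw [Submodule.coe_smul, ← hz a]
        simp only [N, Finset.sum_mul, Finset.smul_sum]
        exact Finset.sum_congr rfl fun h _ => by rw [hconst a h])
      rw [← Prod.mk.eta (p := x), hconst]
      exact Fintype.linearIndependent_iff.1 bas.linearIndependent _ h0 x.1
    have := LinearMap.finrank_le_finrank_of_injective hinj
    rwa [Module.finrank_fintype_fun_eq_card, Fintype.card_prod, Fintype.card_fin,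
      ← Nat.card_eq_fintype_card, mul_comm] at this
  have h1 := key e he
  have h2 := key (1 - e) he.one_sub
  set M := LinearMap.range (LinearMap.mulRight k e) with hM
  set M' := LinearMap.range (LinearMap.mulRight k (1 - e)) with hM'
  have hsum : Module.finrank k M + Module.finrank k M' = Nat.card G := by
    have hc : IsCompl M M' := by
      rw [hM, hM']
      constructor
      · rw [Submodule.disjoint_def]
        rintro x ⟨y, rfl⟩ ⟨y', hy'⟩
        have h := congrArg (· * e) hy'
        simp only [LinearMap.mulRight_apply, mul_assoc, he.eq] at h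
        rw [sub_mul, one_mul, he.eq, sub_self, mul_zero] at h
        exact h.symm
      · rw [codisjoint_iff, eq_top_iff]
        intro x _
        exact Submodule.mem_sup.2 ⟨x * e, ⟨x, rfl⟩, x * (1 - e), ⟨x, rfl⟩, by
          rw [← mul_add, add_sub_cancel, mul_one]⟩
    rw [Submodule.finrank_add_eq_of_isCompl hc, (coeffLinearEquiv k).finrank_eq,
      Module.finrank_finsupp_self, Nat.card_eq_fintype_card]
  have hFxsum : Module.finrank k Fx ≤
      Module.finrank k (Fx ⊓ M : Submodule k (MonoidAlgebra k G)) + Module.finrank k (Fx ⊓ M' : Submodule k (MonoidAlgebra k G)) := by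
    refine le_trans (Submodule.finrank_mono fun x hx => Submodule.mem_sup.2
      ⟨x * e, Submodule.mem_inf.2 ⟨hFx.2 fun h => by rw [← mul_assoc, hFx.1 hx h], LinearMap.mem_range.2 ⟨x, rfl⟩⟩,
        x * (1 - e), Submodule.mem_inf.2 ⟨hFx.2 fun h => by rw [← mul_assoc, hFx.1 hx h], LinearMap.mem_range.2 ⟨x, rfl⟩⟩, by
          rw [← mul_add, add_sub_cancel, mul_one]⟩)
      (Submodule.finrank_add_le_finrank_add_finrank _ _)
  refine ⟨Module.finrank k (Fx ⊓ M : Submodule k (MonoidAlgebra k G)), ?_⟩
  have h3 := Nat.mul_le_mul_left (Nat.card H) hFxsum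
  rw [Nat.mul_add, mul_comm _ (Module.finrank k Fx), hdimFx] at h3
  exact le_antisymm (by omega) h1

end RightIdeal

end Cfsg.Agent.Lib.Contrib
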