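import Mathlib

/-!
# Symmetric algebras with at most two independent trace functions

A finite dimensional symmetric algebra over an algebraically closed field which is not semisimple
and on which there are at most two independent linear functions vanishing on commutators is a
matrix algebra over a commutative algebra of dimension two.
-/

set_option autoImplicit false

namespace Cfsg.Agent.Lib.Contrib

variable {k : Type*} [Field k] {B : Type*} [Ring B] [Algebra k B]

/-- Matrix units lift along a nilpotent kernel. -/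
theorem exists_matrixUnits {S : Type*} [Ring S] {n : ℕ} (π : B →+* Matrix (Fin (n + 1)) (Fin (n + 1)) S)
    (hπ : Function.Surjective π) (hker : ∀ x, π x = 0 → IsNilpotent x) :
    ∃ (i : B) (u v : Fin (n + 1) → B), IsIdempotentElem i ∧ π i = Matrix.single 0 0 1 ∧
      (∀ s t, v s * u t = if s = t then i else 0) ∧ ∑ s, u s * v s = 1 ∧
      (∀ s, u s * i = u s) ∧ (∀ s, i * v s = v s) := by
  classical
  have hk : ∀ x ∈ RingHom.ker π, IsNilpotent x := fun x hx => hker x hx
  have hc : CompleteOrthogonalIdempotents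
      (fun s : Fin (n + 1) => Matrix.single s s (1 : S)) :=
    { idem := fun s => by simp [IsIdempotentElem]
      ortho := fun s t hst => by simp [hst]
      complete := by
        ext a b
        simp [Matrix.sum_apply, Matrix.single_apply, Matrix.one_apply, ite_and] }
  obtain ⟨e, he, hπe⟩ := CompleteOrthogonalIdempotents.lift_of_isNilpotent_ker π hk hc
    fun s => RingHom.mem_range.2 (hπ _)
  have hπe' : ∀ s, π (e s) = Matrix.single s s 1 := fun s => congrFun hπe s
  choose a ha using fun s : Fin (n + 1) => hπ (Matrix.single s 0 1)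
  choose b hb using fun s : Fin (n + 1) => hπ (Matrix.single 0 s 1)
  have hi : IsIdempotentElem (e 0) := he.idem 0
  set i := e 0 with hi_def
  let u' : Fin (n + 1) → B := fun s => e s * a s * i
  let v' : Fin (n + 1) → B := fun s => i * b s * e s
  let w : Fin (n + 1) → B := fun s => v' s * u' s
  have hπw : ∀ s, π (w s) = π i := fun s => by
    simp [w, u', v', hi_def, ha, hb, hπe']
  have hunit : ∀ s, IsUnit (1 + (w s - i)) := fun s =>
    (hker _ (by rw [map_sub, hπw, sub_self])).isUnit_one_add
  choose z hz using hunit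
  have hwi : ∀ s, w s * i = w s ∧ i * w s = w s := fun s => by
    constructor
    · simp only [w, u', mul_assoc, hi.eq]
    · simp only [w, v', ← mul_assoc, hi.eq]
  have hzw : ∀ s, (↑(z s)⁻¹ : B) * w s = i := fun s => by
    have : (↑(z s) : B) * i = w s := by
      rw [hz, add_mul, sub_mul, (hwi s).1, one_mul, hi.eq, add_sub_cancel]
    rw [← this, ← mul_assoc, Units.inv_mul, one_mul]
  let v : Fin (n + 1) → B := fun s => i * (↑(z s)⁻¹ : B) * v' s
  have hiv : ∀ s, i * v s = v s := fun s => by
    simp only [v, ← mul_assoc, hi.eq]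
  have hui : ∀ s, u' s * i = u' s := fun s => by
    simp only [u', mul_assoc, hi.eq]
  have hvu : ∀ s t, v s * u' t = if s = t then i else 0 := fun s t => by
    split_ifs with h
    · subst h
      rw [mul_assoc, mul_assoc, hzw, hi.eq]
    · have : e s * e t = 0 := he.ortho h
      simp only [v, u', v', mul_assoc]
      rw [← mul_assoc (e s) (e t), this]
      simp
  have huv : ∀ s, u' s * v s = e s := fun s => by
    have hidem : IsIdempotentElem (u' s * v s) := by
      rw [IsIdempotentElem, mul_assoc, ← mul_assoc (v s), hvu, if_pos rfl, hiv]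
    have hef : e s * (u' s * v s) = u' s * v s := by
      simp only [u', ← mul_assoc, (he.idem s).eq]
    have hfe : (u' s * v s) * e s = u' s * v s := by
      simp only [v, v', mul_assoc, (he.idem s).eq]
    refine eq_of_isNilpotent_sub_of_isIdempotentElem_of_commute hidem (he.idem s) (hker _ ?_)
      (hfe.trans hef.symm)
    have hz1 : π (↑(z s)⁻¹ : B) = 1 := by
      have h1 : π ↑(z s) = 1 := by rw [hz, map_add, map_sub, hπw, sub_self, add_zero, map_one]
      have h2 := congrArg π (Units.inv_mul (z s))
      rwa [map_mul, map_one, h1, mul_one] at h2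
    simp [u', v, v', hi_def, ha, hb, hπe', hz1]
  refine ⟨i, u', v, hi, hπe' 0, hvu, ?_, hui, hiv⟩
  rw [Finset.sum_congr rfl fun s _ => huv s, he.complete]

/-- The trace to the corner `i B i`. -/
def cornerTrace {n : ℕ} (u v : Fin n → B) : B →ₗ[k] B where
  toFun x := ∑ s, v s * x * u s
  map_add' x y := by simp [mul_add, add_mul, Finset.sum_add_distrib]
  map_smul' c x := by simp [Finset.smul_sum]

theorem cornerTrace_mul {n : ℕ} {u v : Fin n → B} (h : ∑ s, u s * v s = 1) (x y : B) :
    cornerTrace (k := k) u v (x * y) = ∑ s, ∑ t, (v s * x * u t) * (v t * y * u s) := by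
  show ∑ s, v s * (x * y) * u s = _
  refine Finset.sum_congr rfl fun s _ => ?_
  conv_lhs => rw [show x * y = x * 1 * y by rw [mul_one], ← h]
  simp only [Finset.mul_sum, Finset.sum_mul, mul_assoc]

section Main

/-- A bound on the quotients by spaces containing the commutators bounds the ranges of traces. -/
theorem rank_traces {r : ℕ}
    (hle : ∀ W : Submodule k B, (∀ x y, x * y - y * x ∈ W) → Module.finrank k (B ⧸ W) ≤ r)
    {W : Type*} [AddCommGroup W] [Module k W] (L : B →ₗ[k] W)
    (hL : ∀ x y, L (x * y) = L (y * x)) : Module.finrank k (LinearMap.range L) ≤ r := by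
  rw [← L.quotKerEquivRange.finrank_eq]
  exact hle _ fun x y => by rw [LinearMap.mem_ker, map_sub, hL, sub_self]

variable [IsAlgClosed k] [FiniteDimensional k B] [Nontrivial B]

/-- A symmetric, non-semisimple algebra with at most two independent trace functions: there is a
number `n` and an idempotent `i` with `dim B = 2 n²` and `dim B i = 2 n`. -/
theorem exists_idempotent_of_traces_le_two (τ : B →ₗ[k] k) (hτ : ∀ x y, τ (x * y) = τ (y * x))
    (hnd : ∀ x, (∀ y, τ (x * y) = 0) → x = 0)
    (hns : Ring.jacobson B ≠ ⊥)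
    (hle : ∀ W : Submodule k B, (∀ x y, x * y - y * x ∈ W) → Module.finrank k (B ⧸ W) ≤ 2) :
    ∃ (n : ℕ) (i : B), IsIdempotentElem i ∧ Module.finrank k B = n * (n * 2) ∧
      Module.finrank k (LinearMap.range (LinearMap.mulRight k i)) = n * 2 := by
  classical
  haveI : IsArtinianRing B := IsArtinianRing.of_finite k B
  set J := Ring.jacobson B with hJ
  obtain ⟨N, hN⟩ := IsSemiprimaryRing.isNilpotent (R := B)
  haveI : IsSemisimpleRing (B ⧸ J) := IsSemiprimaryRing.isSemisimpleRing
  haveI : FiniteDimensional k (B ⧸ J) := Module.Finite.of_surjective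
    (Ideal.Quotient.mkₐ k J).toLinearMap Ideal.Quotient.mk_surjective
  obtain ⟨m, d, hd, ⟨E⟩⟩ := IsSemisimpleRing.exists_algEquiv_pi_matrix_of_isAlgClosed k (B ⧸ J)
  let P : B →ₐ[k] (∀ a, Matrix (Fin (d a)) (Fin (d a)) k) := E.toAlgHom.comp (Ideal.Quotient.mkₐ k J)
  have hPs : Function.Surjective P := E.surjective.comp Ideal.Quotient.mk_surjective
  have hPk : ∀ x, P x = 0 ↔ x ∈ J := fun x => by
    show E (Ideal.Quotient.mk J x) = 0 ↔ _
    rw [map_eq_zero_iff _ E.injective, Ideal.Quotient.eq_zero_iff_mem]
  -- the traces of the simple factors together with `τ`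
  obtain ⟨j₀, hj₀J, hj₀⟩ : ∃ j ∈ J, τ j ≠ 0 := by
    by_contra hno
    push Not at hno
    refine hns ((Submodule.eq_bot_iff _).2 fun x hx => hnd x fun y => ?_)
    rw [hτ]
    exact hno _ (J.mul_mem_left y hx)
  let L₁ : B →ₗ[k] (Fin m → k) × k :=
    LinearMap.prod (LinearMap.pi fun a => (Matrix.traceLinearMap (Fin (d a)) k k).comp
      ((LinearMap.proj a).comp P.toLinearMap)) τ
  have hL₁s : Function.Surjective L₁ := by
    intro ⟨f, c⟩
    obtain ⟨x, hx⟩ := hPs fun a => Matrix.single (⟨0, Nat.pos_of_ne_zero (hd a).out⟩ : Fin (d a))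
      ⟨0, Nat.pos_of_ne_zero (hd a).out⟩ (f a)
    refine ⟨x + ((c - τ x) / τ j₀) • j₀, Prod.ext (funext fun a => ?_) ?_⟩
    · show Matrix.trace (P (x + ((c - τ x) / τ j₀) • j₀) a) = f a
      rw [map_add, map_smul, (hPk j₀).2 hj₀J, smul_zero, add_zero, hx, Matrix.trace_single_eq_same]
    · show τ (x + ((c - τ x) / τ j₀) • j₀) = c
      rw [map_add, map_smul, smul_eq_mul, div_mul_cancel₀ _ hj₀]
      ring
  have hm : m ≤ 1 := by
    have h := rank_traces hle L₁ fun x y => Prod.ext (funext fun a => by
      show Matrix.trace (P (x * y) a) = Matrix.trace (P (y * x) a)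
      rw [map_mul, map_mul, Pi.mul_apply, Pi.mul_apply, Matrix.trace_mul_comm]) (hτ x y)
    rw [LinearMap.range_eq_top.2 hL₁s, finrank_top, Module.finrank_prod, Module.finrank_self,
      Module.finrank_fintype_fun_eq_card, Fintype.card_fin] at h
    omega
  have hm1 : m = 1 := by
    rcases Nat.eq_zero_or_pos m with h | h
    · subst h
      have h1 : (1 : B) ∈ J := (hPk 1).1 (funext fun a => a.elim0)
      exfalso
      exact one_ne_zero (α := B) (by
        have := Ideal.pow_mem_pow h1 N
        rw [one_pow, hN] at this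
        exact this)
    · omega
  subst hm1
  obtain ⟨n, hn⟩ : ∃ n, d 0 = n + 1 := ⟨d 0 - 1, by have := (hd 0).out; omega⟩
  let π : B →+* Matrix (Fin (n + 1)) (Fin (n + 1)) k :=
    (Matrix.reindexAlgEquiv k k (finCongr hn)).toRingEquiv.toRingHom.comp
      ((Pi.evalRingHom _ 0).comp P.toRingHom)
  have hπs : Function.Surjective π := fun A => by
    obtain ⟨x, hx⟩ := hPs fun a => Fin.cases ((Matrix.reindexAlgEquiv k k (finCongr hn)).symm A)
      (fun a => a.elim0) a
    refine ⟨x, ?_⟩
    simp only [π, RingHom.comp_apply, AlgHom.toRingHom_eq_coe, RingHom.coe_coe, Pi.evalRingHom_apply,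
      hx]
    exact (Matrix.reindexAlgEquiv k k (finCongr hn)).apply_symm_apply A
  have hπk : ∀ x, π x = 0 ↔ x ∈ J := fun x => by
    rw [← hPk]
    show Matrix.reindexAlgEquiv k k (finCongr hn) (P x 0) = 0 ↔ _
    rw [map_eq_zero_iff _ (Matrix.reindexAlgEquiv k k (finCongr hn)).injective]
    exact ⟨fun h => funext fun a => by rw [Subsingleton.elim a 0]; exact h, fun h => by rw [h]; rfl⟩
  have hπc : ∀ c : k, π (algebraMap k B c) = algebraMap k _ c := fun c => by
    show Matrix.reindexAlgEquiv k k (finCongr hn) (P (algebraMap k B c) 0) = _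
    rw [AlgHom.commutes, Pi.algebraMap_apply, AlgEquiv.commutes]
  obtain ⟨i, u, v, hi, hπi, hvu, huv, hui, hiv⟩ := exists_matrixUnits π hπs fun x hx =>
    ⟨N, by
      have := Ideal.pow_mem_pow ((hπk x).1 hx) N
      rwa [hN] at this⟩
  have hi0 : i ≠ 0 := fun h => by
    have := congrFun (congrFun hπi 0) 0
    rw [h, map_zero, Matrix.zero_apply, Matrix.single_apply_same] at this
    exact zero_ne_one this
  -- the corner and its radical
  let A : Submodule k B :=
    { carrier := {x | i * x * i = x}
      add_mem' := fun {x y} hx hy => by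
        show i * (x + y) * i = x + y
        rw [mul_add, add_mul, hx, hy]
      zero_mem' := by simp
      smul_mem' := fun c x hx => by
        show i * (c • x) * i = c • x
        rw [mul_smul_comm, smul_mul_assoc, hx] }
  have hAm : ∀ {x : B}, x ∈ A ↔ i * x * i = x := Iff.rfl
  have hAl : ∀ {x : B}, x ∈ A → i * x = x := fun {x} hx => by
    conv_lhs => rw [← hAm.1 hx, ← mul_assoc, ← mul_assoc, hi.eq]
    exact hx
  have hAr : ∀ {x : B}, x ∈ A → x * i = x := fun {x} hx => by
    conv_lhs => rw [← hAm.1 hx, mul_assoc, hi.eq]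
    exact hx
  have hAi : i ∈ A := hAm.2 (by rw [hi.eq, hi.eq])
  have hAmul : ∀ {x y : B}, x ∈ A → y ∈ A → x * y ∈ A := fun {x y} hx hy => by
    rw [hAm, ← mul_assoc, hAl hx, mul_assoc, hAr hy]
  have hcorner : ∀ x s t, v s * x * u t ∈ A := fun x s t => by
    rw [hAm, ← mul_assoc, ← mul_assoc, hiv, mul_assoc (v s * x), hui]
  let K : Submodule k B := A ⊓ J.restrictScalars k
  have hKm : ∀ {x : B}, x ∈ K ↔ x ∈ A ∧ x ∈ J := Iff.rfl
  have hdec : ∀ x ∈ A, x - (π x 0 0) • i ∈ K := fun x hx => by
    refine hKm.2 ⟨A.sub_mem hx (A.smul_mem _ hAi), (hπk _).1 ?_⟩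
    rw [map_sub, Algebra.smul_def, map_mul, hπc, hπi, sub_eq_zero, ← Algebra.smul_def]
    conv_lhs => rw [← hAm.1 hx, map_mul, map_mul, hπi, Matrix.single_mul_mul_single]
    rw [Matrix.smul_single]
    simp
  -- traces onto quotients of the corner
  have htr : ∀ (W : Submodule k B), (∀ x ∈ A, ∀ y ∈ A, x * y - y * x ∈ W) →
      Module.finrank k (A.map W.mkQ) ≤ 2 := fun W hW => by
    have h := rank_traces hle (W.mkQ.comp (cornerTrace u v)) fun x y => by
      show W.mkQ (cornerTrace u v (x * y)) = W.mkQ (cornerTrace u v (y * x))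
      rw [cornerTrace_mul huv, cornerTrace_mul huv, Submodule.mkQ_apply, Submodule.mkQ_apply,
        Submodule.Quotient.eq, Finset.sum_comm (f := fun s t => v s * y * u t * (v t * x * u s)),
        ← Finset.sum_sub_distrib]
      refine W.sum_mem fun s _ => ?_
      rw [← Finset.sum_sub_distrib]
      exact W.sum_mem fun t _ => hW _ (hcorner x s t) _ (hcorner y t s)
    refine le_trans (Submodule.finrank_mono ?_) h
    rintro _ ⟨x, hx, rfl⟩
    refine ⟨u 0 * x * v 0, ?_⟩
    show W.mkQ (∑ s, v s * (u 0 * x * v 0) * u s) = W.mkQ x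
    rw [Finset.sum_eq_single 0]
    · rw [← mul_assoc, ← mul_assoc, hvu, if_pos rfl, mul_assoc, hvu, if_pos rfl, hAm.1 hx]
    · intro s _ hs
      rw [← mul_assoc, ← mul_assoc, hvu, if_neg hs]
      simp
    · exact fun h => absurd (Finset.mem_univ _) h
  -- the radical of the corner is generated by one element
  let W₂ : Submodule k B := Submodule.span k {w | ∃ x ∈ K, ∃ y ∈ K, w = x * y}
  have hcomm : ∀ x ∈ A, ∀ y ∈ A, x * y - y * x ∈ W₂ := fun x hx y hy => by
    have h1 := hdec x hx
    have h2 := hdec y hy
    set x' := x - (π x 0 0) • i with hx'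
    set y' := y - (π y 0 0) • i with hy'
    have hxx : x = x' + (π x 0 0) • i := by rw [hx', sub_add_cancel]
    have hyy : y = y' + (π y 0 0) • i := by rw [hy', sub_add_cancel]
    have : x * y - y * x = x' * y' - y' * x' := by
      rw [hxx, hyy]
      simp only [add_mul, mul_add, smul_mul_assoc, mul_smul_comm, hAl (hKm.1 h1).1,
        hAr (hKm.1 h1).1, hAl (hKm.1 h2).1, hAr (hKm.1 h2).1, hi.eq, smul_add, smul_smul]
      module
    rw [this]
    exact W₂.sub_mem (Submodule.subset_span ⟨x', h1, y', h2, rfl⟩)
      (Submodule.subset_span ⟨y', h2, x', h1, rfl⟩)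
  have hW₂J : ∀ w ∈ W₂, w ∈ J := fun w hw => by
    refine Submodule.span_le (p := J.restrictScalars k).2 ?_ hw
    rintro _ ⟨x, -, y, hy, rfl⟩
    exact J.mul_mem_left x (hKm.1 hy).2
  obtain ⟨g, hg, hgen⟩ : ∃ g ∈ K, ∀ x ∈ K, ∃ c : k, x - c • g ∈ W₂ := by
    set V := K.map W₂.mkQ with hV
    have hle' : Module.finrank k V ≤ 1 := by
      have h2 := htr W₂ hcomm
      by_contra hV2
      have hlt : V < A.map W₂.mkQ := by
        refine lt_of_le_of_ne (Submodule.map_mono inf_le_left) fun heq => ?_
        obtain ⟨x, hx, hxe⟩ : W₂.mkQ i ∈ K.map W₂.mkQ := by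
          rw [← hV, heq]; exact ⟨i, hAi, rfl⟩
        rw [Submodule.mkQ_apply, Submodule.mkQ_apply, Submodule.Quotient.eq] at hxe
        have hiJ : i ∈ J := by
          have := J.sub_mem (hKm.1 hx).2 (hW₂J _ hxe)
          rwa [sub_sub_cancel] at this
        have := (hπk i).2 hiJ
        rw [hπi] at this
        have := congrFun (congrFun this 0) 0
        simp at this
      have := Submodule.finrank_lt_finrank_of_lt hlt
      omega
    obtain ⟨g', hg'⟩ := finrank_le_one_iff.1 hle'
    obtain ⟨g, hg, hge⟩ := g'.2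
    refine ⟨g, hg, fun x hx => ?_⟩
    obtain ⟨c, hc⟩ := hg' ⟨W₂.mkQ x, x, hx, rfl⟩
    refine ⟨c, ?_⟩
    have hc' : c • (g' : B ⧸ W₂) = W₂.mkQ x := congrArg Subtype.val hc
    rw [← hge, ← map_smul, Submodule.mkQ_apply, Submodule.mkQ_apply, Submodule.Quotient.eq] at hc'
    simpa using W₂.neg_mem hc'
  let S : Submodule k B := Submodule.span k (Set.range fun e : ℕ => g ^ (e + 1))
  have hSmul : ∀ x ∈ S, ∀ y ∈ S, x * y ∈ S ∧ x * y = y * x := by
    intro x hx y hy
    induction hx using Submodule.span_induction with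
    | mem x hx =>
      obtain ⟨e, rfl⟩ := hx
      induction hy using Submodule.span_induction with
      | mem y hy =>
        obtain ⟨e', rfl⟩ := hy
        exact ⟨Submodule.subset_span ⟨e + e' + 1, by dsimp only; rw [← pow_add]; congr 1; omega⟩,
          (Commute.pow_pow_self g _ _).eq⟩
      | zero => simp
      | add y y' _ _ h h' => exact ⟨by rw [mul_add]; exact S.add_mem h.1 h'.1,
          by rw [mul_add, add_mul, h.2, h'.2]⟩
      | smul c y _ h => exact ⟨by rw [mul_smul_comm]; exact S.smul_mem c h.1,
          by rw [mul_smul_comm, smul_mul_assoc, h.2]⟩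
    | zero => simp
    | add x x' _ _ h h' => exact ⟨by rw [add_mul]; exact S.add_mem h.1 h'.1,
        by rw [mul_add, add_mul, h.2, h'.2]⟩
    | smul c x _ h => exact ⟨by rw [smul_mul_assoc]; exact S.smul_mem c h.1,
        by rw [mul_smul_comm, smul_mul_assoc, h.2]⟩
  have hSK : ∀ x ∈ S, x ∈ K := fun x hx => by
    refine Submodule.span_le.2 ?_ hx
    rintro _ ⟨e, rfl⟩
    induction e with
    | zero => simpa using hg
    | succ e ih =>
      have ih' : g ^ (e + 1) ∈ K := ih
      show g ^ (e + 1 + 1) ∈ K
      rw [pow_succ _ (e + 1)]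
      exact hKm.2 ⟨hAmul (hKm.1 ih').1 (hKm.1 hg).1, J.mul_mem_left _ (hKm.1 hg).2⟩
  have hfilt : ∀ e : ℕ, ∀ x ∈ K, ∃ s ∈ S, x - s ∈ J ^ (e + 1) := by
    intro e
    induction e with
    | zero => exact fun x hx => ⟨0, S.zero_mem, by
      rw [zero_add, sub_zero, Submodule.pow_one]; exact (hKm.1 hx).2⟩
    | succ e ih =>
      intro x hx
      obtain ⟨c, hc⟩ := hgen x hx
      suffices h : ∀ w ∈ W₂, ∃ s ∈ S, w - s ∈ J ^ (e + 2) by
        obtain ⟨s, hs, hs'⟩ := h _ hc
        refine ⟨c • g + s, S.add_mem (S.smul_mem c (Submodule.subset_span ⟨0, pow_one g⟩)) hs, ?_⟩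
        rwa [← sub_sub]
      intro w hw
      induction hw using Submodule.span_induction with
      | mem w hw =>
        obtain ⟨a, ha, a', ha', rfl⟩ := hw
        obtain ⟨s, hs, hs'⟩ := ih a ha
        obtain ⟨s', hs1, hs1'⟩ := ih a' ha'
        refine ⟨s * s', (hSmul s hs s' hs1).1, ?_⟩
        rw [show a * a' - s * s' = (a - s) * a' + s * (a' - s') by noncomm_ring]
        refine (J ^ (e + 2)).add_mem ?_ ?_
        · rw [Submodule.pow_succ (M := J) (n := e + 1)]
          exact Ideal.mul_mem_mul hs' (hKm.1 ha').2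
        · rw [Ideal.IsTwoSided.pow_succ (I := J) (n := e + 1)]
          exact Ideal.mul_mem_mul (hKm.1 (hSK s hs)).2 hs1'
      | zero => exact ⟨0, S.zero_mem, by simp⟩
      | add a a' _ _ h h' =>
        obtain ⟨s, hs, hs'⟩ := h
        obtain ⟨s', hs1, hs1'⟩ := h'
        exact ⟨s + s', S.add_mem hs hs1, by
          rw [show a + a' - (s + s') = (a - s) + (a' - s') by abel]
          exact (J ^ (e + 2)).add_mem hs' hs1'⟩
      | smul c a _ h =>
        obtain ⟨s, hs, hs'⟩ := h
        exact ⟨c • s, S.smul_mem c hs, by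
          rw [← smul_sub]; exact ((J ^ (e + 2)).restrictScalars k).smul_mem c hs'⟩
  have hKS : ∀ x ∈ K, x ∈ S := fun x hx => by
    obtain ⟨s, hs, hs'⟩ := hfilt N x hx
    have h0 := Ideal.pow_le_pow_right (Nat.le_succ N) hs'
    rw [hN] at h0
    rwa [sub_eq_zero.1 h0]
  -- the corner is commutative of dimension two
  have hAcomm : ∀ x ∈ A, ∀ y ∈ A, x * y - y * x ∈ (⊥ : Submodule k B) := fun x hx y hy => by
    have h1 := hdec x hx
    have h2 := hdec y hy
    set x' := x - (π x 0 0) • i with hx'
    set y' := y - (π y 0 0) • i with hy'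
    have hxx : x = x' + (π x 0 0) • i := by rw [hx', sub_add_cancel]
    have hyy : y = y' + (π y 0 0) • i := by rw [hy', sub_add_cancel]
    rw [Submodule.mem_bot, sub_eq_zero, hxx, hyy]
    simp only [add_mul, mul_add, smul_mul_assoc, mul_smul_comm, hAl (hKm.1 h1).1,
      hAr (hKm.1 h1).1, hAl (hKm.1 h2).1, hAr (hKm.1 h2).1, hi.eq,
      (hSmul _ (hKS _ h1) _ (hKS _ h2)).2, smul_add, smul_smul]
    module
  have hA2 : Module.finrank k A = 2 := by
    refine le_antisymm ?_ ?_
    · refine le_trans (le_of_eq ?_) (htr ⊥ hAcomm)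
      exact LinearEquiv.finrank_eq (A.equivMapOfInjective _ (by
        rw [← LinearMap.ker_eq_bot, Submodule.ker_mkQ]))
    · by_contra hlt
      rw [not_le] at hlt
      have hK0 : K = ⊥ := by
        have hlt' : K < A := lt_of_le_of_ne inf_le_left fun h => by
          have hiK : i ∈ K := h ▸ hAi
          have := (hπk i).2 (hKm.1 hiK).2
          rw [hπi] at this
          have := congrFun (congrFun this 0) 0
          simp at this
        have := Submodule.finrank_lt_finrank_of_lt hlt'
        exact Submodule.finrank_eq_zero.1 (by omega)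
      refine hns ((Submodule.eq_bot_iff _).2 fun x hx => ?_)
      have hz : ∀ s t, v s * x * u t = 0 := fun s t => by
        have hm : v s * x * u t ∈ K := hKm.2 ⟨hcorner x s t,
          J.mul_mem_right (u t) (J.mul_mem_left (v s) hx)⟩
        rwa [hK0, Submodule.mem_bot] at hm
      calc x = (∑ s, u s * v s) * x * ∑ t, u t * v t := by rw [huv, one_mul, mul_one]
        _ = ∑ s, ∑ t, u s * (v s * x * u t) * v t := by
          simp only [Finset.mul_sum, Finset.sum_mul, mul_assoc]
          exact Finset.sum_comm
        _ = 0 := by simp [hz]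
  refine ⟨n + 1, i, hi, ?_, ?_⟩
  · let Φ : B ≃ₗ[k] (Fin (n + 1) → Fin (n + 1) → A) :=
      { toFun := fun x s t => ⟨v s * x * u t, hcorner x s t⟩
        map_add' := fun x y => funext fun s => funext fun t => Subtype.ext (by simp [mul_add, add_mul])
        map_smul' := fun c x => funext fun s => funext fun t => Subtype.ext (by simp)
        invFun := fun f => ∑ s, ∑ t, u s * (f s t : B) * v t
        left_inv := fun x => by
          dsimp only
          conv_rhs => rw [← one_mul x, ← mul_one (1 * x), ← huv]
          simp only [Finset.mul_sum, Finset.sum_mul, mul_assoc]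
          exact Finset.sum_comm
        right_inv := fun f => funext fun s => funext fun t => Subtype.ext (by
          show v s * (∑ s', ∑ t', u s' * (f s' t' : B) * v t') * u t = _
          simp only [Finset.mul_sum, Finset.sum_mul]
          rw [Finset.sum_eq_single s, Finset.sum_eq_single t]
          · rw [← mul_assoc, ← mul_assoc, hvu, if_pos rfl, mul_assoc, hvu, if_pos rfl,
              hAm.1 (f s t).2]
          · intro t' _ ht
            rw [← mul_assoc, ← mul_assoc, mul_assoc _ (v t') (u t), hvu t' t, if_neg ht, mul_zero]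
          · exact fun h => absurd (Finset.mem_univ _) h
          · intro s' _ hs
            refine Finset.sum_eq_zero fun t' _ => ?_
            rw [← mul_assoc, ← mul_assoc, hvu, if_neg hs.symm]
            simp
          · exact fun h => absurd (Finset.mem_univ _) h) }
    rw [Φ.finrank_eq, Module.finrank_pi_fintype, Finset.sum_congr rfl fun s _ =>
      (Module.finrank_pi_fintype k).trans (Finset.sum_congr rfl fun t _ => hA2)]
    simp
  · let Ψ : LinearMap.range (LinearMap.mulRight k i) ≃ₗ[k] (Fin (n + 1) → A) :=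
      { toFun := fun x s => ⟨v s * (x : B), by
          obtain ⟨y, hy⟩ := x.2
          have hy' : y * i = (x : B) := hy
          rw [hAm, ← mul_assoc, hiv, ← hy']
          simp only [mul_assoc, hi.eq]⟩
        map_add' := fun x y => funext fun s => Subtype.ext (by simp [mul_add])
        map_smul' := fun c x => funext fun s => Subtype.ext (by simp)
        invFun := fun f => ⟨∑ s, u s * (f s : B), ∑ s, u s * (f s : B), by
          show (∑ s, u s * (f s : B)) * i = _
          rw [Finset.sum_mul]
          exact Finset.sum_congr rfl fun s _ => by rw [mul_assoc, hAr (f s).2]⟩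
        left_inv := fun x => Subtype.ext (by
          show ∑ s, u s * (v s * (x : B)) = _
          simp only [← mul_assoc]
          rw [← Finset.sum_mul, huv, one_mul])
        right_inv := fun f => funext fun s => Subtype.ext (by
          show v s * ∑ t, u t * (f t : B) = _
          rw [Finset.mul_sum, Finset.sum_eq_single s]
          · rw [← mul_assoc, hvu, if_pos rfl, hAl (f s).2]
          · intro t _ ht
            rw [← mul_assoc, hvu, if_neg ht.symm, zero_mul]
          · exact fun h => absurd (Finset.mem_univ _) h) }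
    rw [Ψ.finrank_eq, Module.finrank_pi_fintype, Finset.sum_congr rfl fun s _ => hA2]
    simp

end Main

end Cfsg.Agent.Lib.Contrib

namespace Cfsg.Agent.Lib.Contrib

variable {k : Type*} [Field k] [IsAlgClosed k] {B : Type*} [Ring B] [Algebra k B]
  [FiniteDimensional k B] [Nontrivial B]

/-- If a number divides the rank of every idempotent right multiplication, its square divides twice
the dimension, for a symmetric algebra with at most two independent traces. -/
theorem sq_dvd_two_mul_finrank (τ : B →ₗ[k] k) (hτ : ∀ x y, τ (x * y) = τ (y * x))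
    (hnd : ∀ x, (∀ y, τ (x * y) = 0) → x = 0)
    (hle : ∀ W : Submodule k B, (∀ x y, x * y - y * x ∈ W) → Module.finrank k (B ⧸ W) ≤ 2)
    {q : ℕ} (hq : ∀ i : B, IsIdempotentElem i →
      q ∣ Module.finrank k (LinearMap.range (LinearMap.mulRight k i))) :
    q ^ 2 ∣ 2 * Module.finrank k B := by
  classical
  haveI : IsArtinianRing B := IsArtinianRing.of_finite k B
  by_cases hJ : Ring.jacobson B = ⊥
  · haveI : IsSemisimpleRing B := IsArtinianRing.isSemisimpleRing_iff_jacobson.2 hJ
    obtain ⟨m, d, hd, ⟨E⟩⟩ := IsSemisimpleRing.exists_algEquiv_pi_matrix_of_isAlgClosed k B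
    have hdim : Module.finrank k B = ∑ a, d a * d a := by
      rw [E.toLinearEquiv.finrank_eq, Module.finrank_pi_fintype]
      exact Finset.sum_congr rfl fun a _ => by simp [Module.finrank_matrix]
    rw [hdim, Finset.mul_sum]
    refine Finset.dvd_sum fun a _ => dvd_mul_of_dvd_right ?_ _
    have hpos : 0 < d a := Nat.pos_of_ne_zero (hd a).out
    let z : Fin (d a) := ⟨0, hpos⟩
    let i : B := E.symm (Pi.single a (Matrix.single z z 1))
    have hi : IsIdempotentElem i := by
      show E.symm _ * E.symm _ = E.symm _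
      rw [← map_mul, ← Pi.single_mul, Matrix.single_mul_single_same, one_mul]
    let Ψ : LinearMap.range (LinearMap.mulRight k i) ≃ₗ[k] (Fin (d a) → k) :=
      { toFun := fun x r => E (x : B) a r z
        map_add' := fun x y => funext fun r => by simp
        map_smul' := fun c x => funext fun r => by simp
        invFun := fun f => ⟨E.symm (Pi.single a (Matrix.updateCol 0 z f)) * i, ⟨_, rfl⟩⟩
        left_inv := fun x => Subtype.ext (by
          obtain ⟨y, hy⟩ := x.2
          apply E.injective
          show E (E.symm (Pi.single a (Matrix.updateCol 0 z fun r => E (x : B) a r z)) * i) = E (x : B)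
          rw [← hy, LinearMap.mulRight_apply, map_mul, map_mul]
          simp only [i, AlgEquiv.apply_symm_apply]
          funext c
          by_cases hc : c = a
          · subst hc
            ext r s
            simp [Matrix.mul_apply, Matrix.single_apply, Matrix.updateCol_apply, ite_and]
          · simp [hc])
        right_inv := fun f => funext fun r => by
          simp [i, Matrix.mul_apply, Matrix.single_apply, Matrix.updateCol_apply, ite_and] }
    have h := hq i hi
    rw [Ψ.finrank_eq, Module.finrank_fintype_fun_eq_card, Fintype.card_fin] at h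
    rw [sq]
    exact mul_dvd_mul h h
  · obtain ⟨n, i, hi, hdim, hfr⟩ := exists_idempotent_of_traces_le_two τ hτ hnd hJ hle
    have h := hq i hi
    rw [hfr] at h
    rw [hdim, sq, show 2 * (n * (n * 2)) = (n * 2) * (n * 2) by ring]
    exact mul_dvd_mul h h

end Cfsg.Agent.Lib.Contrib
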