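import Mathlib
import Cfsg.Agent.Lib.Blocks.Idempotent
import Cfsg.Agent.Lib.Blocks.DefectCard
import Cfsg.Agent.Lib.Contrib.SmallAlgebra
import Cfsg.Agent.Lib.Contrib.Reduction

/-!
# The block algebra modulo `M` of a block with at most two characters
-/

set_option autoImplicit false

namespace Cfsg.Agent.Lib.Contrib

open Cfsg MonoidAlgebra
open Cfsg.Agent.Lib
open Cfsg.Agent.Lib.Blocks
open scoped ComplexConjugate

universe u

attribute [local instance] Classical.propDecidable

variable {G : Type u} [Group G] [Fintype G]

section Matrices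

variable {R : Type*} [CommRing R]

/-- The matrix of left multiplication. -/
noncomputable def regMatrix (e : MonoidAlgebra R G) : Matrix G G R :=
  fun g h => e.coeff (g * h⁻¹)

/-- The coefficients of an element as a function. -/
noncomputable def coeffEquiv (R : Type*) [CommRing R] : MonoidAlgebra R G ≃ₗ[R] (G → R) :=
  (MonoidAlgebra.coeffLinearEquiv R).trans (Finsupp.linearEquivFunOnFinite R R G)

theorem coeffEquiv_apply (z : MonoidAlgebra R G) (g : G) : coeffEquiv R z g = z.coeff g := rfl

theorem regMatrix_mulVec (e z : MonoidAlgebra R G) :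
    (regMatrix e).mulVec (coeffEquiv R z) = coeffEquiv R (e * z) := by
  induction z using MonoidAlgebra.induction_linear with
  | zero => simp
  | add x y hx hy => rw [map_add, Matrix.mulVec_add, hx, hy, mul_add, map_add]
  | single a r =>
    funext g
    simp only [Matrix.mulVec, dotProduct, regMatrix, coeffEquiv_apply, coeff_mul_single_apply,
      coeff_single, Finsupp.single_apply, mul_ite, mul_zero, Finset.sum_ite_eq, Finset.mem_univ,
      if_true]

theorem regMatrix_mul_self {e : MonoidAlgebra R G} (he : e * e = e) :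
    regMatrix e * regMatrix e = regMatrix e := by
  refine Matrix.ext_of_mulVec_single fun g => ?_
  rw [← Matrix.mulVec_mulVec, ← (coeffEquiv R).apply_symm_apply (Pi.single g 1), regMatrix_mulVec,
    regMatrix_mulVec, ← mul_assoc, he]

theorem trace_regMatrix (e : MonoidAlgebra R G) :
    (regMatrix e).trace = (Nat.card G : R) * e.coeff 1 := by
  simp [Matrix.trace, regMatrix, Nat.card_eq_fintype_card]

theorem finrank_range_mulLeft {k : Type*} [Field k] (e : MonoidAlgebra k G) :
    Module.finrank k (LinearMap.range (LinearMap.mulLeft k e)) =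
      Module.finrank k (LinearMap.range (regMatrix e).mulVecLin) := by
  refine LinearEquiv.finrank_eq (LinearEquiv.ofSubmodules (coeffEquiv k) _ _ ?_)
  ext x
  simp only [Submodule.mem_map, LinearMap.mem_range, Matrix.mulVecLin_apply]
  constructor
  · rintro ⟨_, ⟨z, rfl⟩, rfl⟩
    exact ⟨coeffEquiv k z, regMatrix_mulVec e z⟩
  · rintro ⟨v, rfl⟩
    exact ⟨e * (coeffEquiv k).symm v, ⟨_, rfl⟩, by
      rw [LinearEquiv.coe_coe, ← regMatrix_mulVec, LinearEquiv.apply_symm_apply]⟩

variable [Fintype (ConjClasses G)]

/-- Summing the coefficients over the classes. -/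
noncomputable def classProj (R : Type*) [CommRing R] :
    MonoidAlgebra R G →ₗ[R] (ConjClasses G → R) where
  toFun z c := ∑ x ∈ Finset.univ.filter (fun x => ConjClasses.mk x = c), z.coeff x
  map_add' x y := funext fun c => by simp [Finset.sum_add_distrib]
  map_smul' a x := funext fun c => by simp [Finset.mul_sum]

/-- Placing a value at each representative. -/
noncomputable def classSec (R : Type*) [CommRing R] :
    (ConjClasses G → R) →ₗ[R] MonoidAlgebra R G where
  toFun f := ∑ c, single (classRep c) (f c)
  map_add' f g := by simp [Finset.sum_add_distrib]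
  map_smul' a f := by simp [Finset.smul_sum]

/-- The matrix of a central element on the quotient by the commutators. -/
noncomputable def classMatrix (e : MonoidAlgebra R G) : Matrix (ConjClasses G) (ConjClasses G) R :=
  fun c c' => ∑ x ∈ Finset.univ.filter (fun x => ConjClasses.mk x = c),
    e.coeff (x * (classRep c')⁻¹)

theorem classMatrix_mulVec (e : MonoidAlgebra R G) (f : ConjClasses G → R) :
    (classMatrix e).mulVec f = classProj R (e * classSec R f) := by
  funext c
  simp only [Matrix.mulVec, dotProduct, classMatrix, classProj, classSec, LinearMap.coe_mk,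
    AddHom.coe_mk, Finset.mul_sum, MonoidAlgebra.coeff_sum, Finsupp.coe_finsetSum,
    Finset.sum_apply, coeff_mul_single_apply, Finset.sum_mul]
  rw [Finset.sum_comm]

theorem classProj_single (g : G) (r : R) :
    classProj R (single g r) = Pi.single (ConjClasses.mk g) r := by
  funext c
  simp only [classProj, LinearMap.coe_mk, AddHom.coe_mk, coeff_single, Finsupp.single_apply]
  rw [Finset.sum_ite_eq, Pi.single_apply]
  simp [eq_comm]

theorem classProj_mul_eq {e : MonoidAlgebra R G} (he : e ∈ Subalgebra.center R (MonoidAlgebra R G))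
    (z : MonoidAlgebra R G) :
    classProj R (e * z) = (classMatrix e).mulVec (classProj R z) := by
  induction z using MonoidAlgebra.induction_linear with
  | zero => simp
  | add x y hx hy => rw [mul_add, map_add, map_add, hx, hy, Matrix.mulVec_add]
  | single g r =>
    rw [classProj_single, classMatrix_mulVec]
    have hsec : classSec R (Pi.single (ConjClasses.mk g) r) =
        single (classRep (ConjClasses.mk g)) r := by
      simp only [classSec, LinearMap.coe_mk, AddHom.coe_mk]
      rw [Finset.sum_eq_single (ConjClasses.mk g)]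
      · simp
      · intro c _ hc; simp [hc]
      · exact fun h => absurd (Finset.mem_univ _) h
    rw [hsec]
    obtain ⟨h, hh⟩ := isConj_iff.1 (isConj_classRep_mk g)
    generalize classRep (ConjClasses.mk g) = g₀ at hh ⊢
    subst hh
    funext c
    simp only [classProj, LinearMap.coe_mk, AddHom.coe_mk, coeff_mul_single_apply]
    refine Finset.sum_equiv (MulAut.conj h⁻¹).toEquiv (fun x => ?_) fun x _ => ?_
    · simp only [Finset.mem_filter, Finset.mem_univ, true_and, MulEquiv.toEquiv_eq_coe,
        MulEquiv.coe_toEquiv, MulAut.conj_apply]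
      rw [show ConjClasses.mk (h⁻¹ * x * h⁻¹⁻¹) = ConjClasses.mk x from
        ConjClasses.mk_eq_mk_iff_isConj.2 (isConj_iff.2 ⟨h, by group⟩)]
    · simp only [MulEquiv.toEquiv_eq_coe, MulEquiv.coe_toEquiv, MulAut.conj_apply]
      rw [← (mem_center_iff.1 he) (x * (h * g₀ * h⁻¹)⁻¹) h⁻¹]
      congr 2
      group

theorem classMatrix_mul_self {e : MonoidAlgebra R G}
    (hc : e ∈ Subalgebra.center R (MonoidAlgebra R G)) (he : e * e = e) :
    classMatrix e * classMatrix e = classMatrix e := by
  refine Matrix.ext_of_mulVec_single fun c => ?_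
  rw [← Matrix.mulVec_mulVec, classMatrix_mulVec e (Pi.single c 1), ← classProj_mul_eq hc,
    ← mul_assoc, he]

end Matrices

variable {M : Ideal AlgInt} [M.IsPrime] {B : Set (IrrCharacter G)}

theorem card_mul_blockCoeff_one (B : Set (IrrCharacter G)) :
    (Nat.card G : ℂ) * blockCoeff B (1 : G) = ∑ χ ∈ B.toFinset, ((χ : G → ℂ) 1) ^ 2 := by
  rw [blockCoeff_eq_sum, ← mul_assoc, mul_inv_cancel₀ (Nat.cast_ne_zero.2 Nat.card_pos.ne'), one_mul,
    ← Finset.sum_filter]
  refine Finset.sum_congr (by ext; simp) fun χ _ => ?_
  obtain ⟨h, -, -⟩ := exists_degree_eq χ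
  rw [h, Complex.conj_natCast, sq]

theorem sum_classMatrix_blockCoeff [Fintype (ConjClasses G)] (B : Set (IrrCharacter G)) :
    ∑ c : ConjClasses G, ∑ x ∈ Finset.univ.filter (fun x => ConjClasses.mk x = c),
      blockCoeff B (x * (classRep c)⁻¹) = (B.toFinset.card : ℂ) := by
  have hG : (Nat.card G : ℂ) ≠ 0 := Nat.cast_ne_zero.2 Nat.card_pos.ne'
  have key : ∀ (χ : IrrCharacter G) (c : ConjClasses G),
      ∑ x ∈ Finset.univ.filter (fun x => ConjClasses.mk x = c),
        (χ : G → ℂ) 1 * conj ((χ : G → ℂ) (x * (classRep c)⁻¹)) =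
      ∑ x ∈ Finset.univ.filter (fun x => ConjClasses.mk x = c),
        (χ : G → ℂ) x * conj ((χ : G → ℂ) x) := by
    intro χ c
    have h1 : omega (χ : G → ℂ) (classSum ℂ (classRep c) * single (classRep c)⁻¹ 1) =
        (∑ x ∈ Finset.univ.filter (fun x => ConjClasses.mk x = c),
          (χ : G → ℂ) (x * (classRep c)⁻¹)) / (χ : G → ℂ) 1 := by
      rw [omega_eq_sum, Finset.sum_div, Finset.sum_filter, ← Equiv.sum_comp (Equiv.mulRight (classRep c)⁻¹)]
      refine Finset.sum_congr rfl fun x _ => ?_
      simp only [Equiv.coe_mulRight, coeff_mul_single_apply, coeff_classSum, mul_one, inv_inv,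
        inv_mul_cancel_right]
      by_cases hx : ConjClasses.mk x = c
      · rw [if_pos hx, if_pos ((isConj_classRep_iff c x).2 hx.symm), one_mul]
      · rw [if_neg hx, if_neg fun h => hx ((isConj_classRep_iff c x).1 h).symm, zero_mul]
    rw [omega_mul χ (classSum_mem_center _), omega_classSum (Chars.irr_isClassFunction χ),
      omega_single, one_mul] at h1
    have hne := Chars.irr_apply_one_ne_zero χ
    have hinv : (χ : G → ℂ) (classRep c)⁻¹ = conj ((χ : G → ℂ) (classRep c)) := by
      obtain ⟨n, ρ, -, hρ⟩ := χ.2
      rw [← hρ]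
      exact Chars.char_inv _ _
    have hdeg : conj ((χ : G → ℂ) 1) = (χ : G → ℂ) 1 := by
      rw [(exists_degree_eq χ).1, Complex.conj_natCast]
    rw [← Finset.mul_sum, ← map_sum]
    have hsum : ∑ x ∈ Finset.univ.filter (fun x => ConjClasses.mk x = c),
        (χ : G → ℂ) (x * (classRep c)⁻¹) =
        centralChar (χ : G → ℂ) (classRep c) * (χ : G → ℂ) (classRep c)⁻¹ := by
      field_simp at h1
      linear_combination -h1
    rw [hsum, hinv, map_mul, Complex.conj_conj, Finset.sum_congr rfl
      (g := fun _ => (χ : G → ℂ) (classRep c) * conj ((χ : G → ℂ) (classRep c))) fun x hx => by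
      rw [Chars.isClassFunction_apply_eq (Chars.irr_isClassFunction χ)
        ((isConj_classRep_iff c x).2 (Finset.mem_filter.1 hx).2.symm)], Finset.sum_const, nsmul_eq_mul,
      centralChar]
    have hcard : (Finset.univ.filter fun x => ConjClasses.mk x = c).card =
        (Subgroup.centralizer ({classRep c} : Set G)).index := by
      rw [← natCard_isConj, Nat.card_eq_fintype_card, Fintype.card_subtype]
      congr 1
      ext x
      simp only [Finset.mem_filter, Finset.mem_univ, true_and]
      exact ((isConj_classRep_iff c x).trans eq_comm).symm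
    rw [hcard, map_div₀, map_mul, map_natCast, hdeg]
    field_simp
  simp only [blockCoeff_eq_sum, Finset.mul_sum, ← Finset.sum_filter]
  rw [Finset.sum_congr rfl fun c _ => Finset.sum_comm, Finset.sum_comm,
    Finset.sum_congr rfl (g := fun _ : IrrCharacter G => (1 : ℂ)) fun χ _ => ?_]
  · rw [Finset.sum_const, nsmul_eq_mul, mul_one]
    congr 2
    ext
    simp
  · simp only [← Finset.mul_sum]
    rw [Finset.mul_sum (a := (χ : G → ℂ) 1), Finset.sum_congr rfl fun c _ => (Finset.mul_sum _ _ _).trans (key χ c),
      Finset.sum_fiberwise]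
    have h := Chars.classInner_irr_self χ
    rwa [classInner] at h

variable {p : ℕ} [Fact p.Prime]

/-- The residue field is algebraically closed. -/
theorem isAlgClosed_residue (hM : IsPModular p M) : IsAlgClosed (Residue M) := by
  haveI := hM.2.1
  refine IsAlgClosed.of_exists_root _ fun q hq hirr => ?_
  let f : AlgInt →+* Residue M := (residue M).comp (ofAlgInt M)
  obtain ⟨q', hq', hdeg, hmon⟩ := Polynomial.lifts_and_degree_eq_and_monic
    (show q ∈ Polynomial.lifts f from
      (Polynomial.lifts_iff_coeff_lifts q).2 fun n => residue_ofAlgInt_surjective (q.coeff n)) hq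
  have hpos : 0 < q'.degree := by rw [hdeg]; exact hirr.degree_pos
  obtain ⟨z, hz⟩ := IsAlgClosed.exists_root (k := ℂ) (q'.map AlgInt.subtype) (by
    rw [Polynomial.degree_map_eq_of_injective Subtype.val_injective]; exact hpos.ne')
  rw [Polynomial.IsRoot, Polynomial.eval_map] at hz
  have hzI : z ∈ AlgInt :=
    isIntegral_trans (R := ℤ) (A := AlgInt) (x := z) ⟨q', hmon, hz⟩
  refine ⟨f ⟨z, hzI⟩, ?_⟩
  rw [← hq', Polynomial.eval_map, Polynomial.eval₂_at_apply]
  convert map_zero f
  exact Subtype.ext ((Polynomial.eval₂_at_apply AlgInt.subtype (⟨z, hzI⟩ : AlgInt)).symm.trans hz)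

/-- Twice the sum of the squared degrees of a block with at most two characters is divisible by
the square of the order of every `p`-subgroup. -/
theorem sq_card_dvd_two_mul_sum (hM : IsPModular p M) (hB : IsPBlock M B)
    (hcard : B.toFinset.card ≤ 2) {H : Subgroup G} (hH : IsPGroup p H) :
    Nat.card H ^ 2 ∣ 2 * ∑ χ ∈ B.toFinset, charDegree (χ : G → ℂ) ^ 2 := by
  haveI := charP_residue hM
  haveI := isAlgClosed_residue hM
  haveI : Fintype (ConjClasses G) := Fintype.ofFinite _
  set k := Residue M
  set eR : MonoidAlgebra (localRing M) G := ((blockIdem M hB : RCenter M G) : MonoidAlgebra (localRing M) G)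
    with heR
  have heRc : eR ∈ Subalgebra.center (localRing M) (MonoidAlgebra (localRing M) G) :=
    (blockIdem M hB).2
  have heR2 : eR * eR = eR := congrArg Subtype.val (blockIdem_mul_self hB)
  set e : MonoidAlgebra k G := toF M G eR with he
  have hec : e ∈ Subalgebra.center k (MonoidAlgebra k G) := map_mem_center (residue M) heRc
  have he2 : e * e = e := by rw [he, ← map_mul, heR2]
  have hecomm : ∀ z, e * z = z * e := fun z => (Subalgebra.mem_center_iff.1 hec z).symm
  have hcoe : ∀ g : G, ((eR.coeff g : localRing M) : ℂ) = blockCoeff B g :=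
    coe_coeff_blockIdem hB
  haveI : CharZero (localRing M) := ⟨fun m n h => by exact_mod_cast congrArg (fun x : localRing M => (x : ℂ)) h⟩
  -- the dimension of `e k G`
  set S := LinearMap.range (LinearMap.mulLeft k e) with hS
  set N := ∑ χ ∈ B.toFinset, charDegree (χ : G → ℂ) ^ 2
  have hdimS : Module.finrank k S = N := by
    have h := congrArg (fun x : localRing M => (x : ℂ))
      (trace_eq_rank_reduction (residue M) (regMatrix_mul_self heR2))
    have hmap : (regMatrix eR).map (residue M) = regMatrix e := by
      ext g g'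
      simp [regMatrix, he]
    rw [hmap, ← finrank_range_mulLeft, trace_regMatrix] at h
    simp only [Subring.coe_mul, Subring.coe_natCast] at h
    rw [hcoe, card_mul_blockCoeff_one] at h
    have h2 : (N : ℂ) = (Module.finrank k S : ℂ) := by
      rw [← h]
      push_cast [N]
      exact Finset.sum_congr rfl fun χ _ => by rw [(exists_degree_eq χ).1]
    exact_mod_cast h2.symm
  -- the block algebra
  let π : Submodule k (MonoidAlgebra k G) := LinearMap.ker (LinearMap.mulLeft k e)
  let I : Ideal (MonoidAlgebra k G) :=
    { carrier := {x | e * x = 0}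
      add_mem' := fun {x y} hx hy => by
        show e * (x + y) = 0
        rw [mul_add, hx, hy, add_zero]
      zero_mem' := mul_zero _
      smul_mem' := fun c x hx => by
        show e * (c * x) = 0
        rw [← mul_assoc, hecomm, mul_assoc, hx, mul_zero] }
  have hImem : ∀ {x}, x ∈ I ↔ e * x = 0 := Iff.rfl
  haveI : I.IsTwoSided := ⟨fun c hx => by rw [hImem, ← mul_assoc, hImem.1 hx, zero_mul]⟩
  let A := MonoidAlgebra k G ⧸ I
  let q : MonoidAlgebra k G →ₐ[k] A := Ideal.Quotient.mkₐ k I
  have hq : Function.Surjective q := Ideal.Quotient.mk_surjective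
  have hq0 : ∀ x, q x = 0 ↔ e * x = 0 := fun x => Ideal.Quotient.eq_zero_iff_mem
  have hqe : ∀ x, q (e * x) = q x := fun x => by
    rw [← sub_eq_zero, ← map_sub, hq0, mul_sub, ← mul_assoc, he2, sub_self]
  haveI : FiniteDimensional k A := Module.Finite.of_surjective q.toLinearMap hq
  let Φ : S →ₗ[k] A := q.toLinearMap.comp S.subtype
  have hΦ : Function.Bijective Φ := by
    refine ⟨fun x y hxy => Subtype.ext ?_, fun a => ?_⟩
    · have hxy' : q (x : MonoidAlgebra k G) = q (y : MonoidAlgebra k G) := hxy
      rw [← sub_eq_zero, ← map_sub, hq0] at hxy'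
      obtain ⟨u, hu⟩ := x.2
      obtain ⟨v, hv⟩ := y.2
      have ex : e * (x : MonoidAlgebra k G) = x := by
        rw [← hu, LinearMap.mulLeft_apply, ← mul_assoc, he2]
      have ey : e * (y : MonoidAlgebra k G) = y := by
        rw [← hv, LinearMap.mulLeft_apply, ← mul_assoc, he2]
      rwa [mul_sub, ex, ey, sub_eq_zero] at hxy'
    · obtain ⟨x, rfl⟩ := hq a
      exact ⟨⟨e * x, x, rfl⟩, hqe x⟩
  let Ψ : S ≃ₗ[k] A := LinearEquiv.ofBijective Φ hΦ
  have hdimA : Module.finrank k A = N := by rw [← Ψ.finrank_eq, hdimS]
  rcases Nat.eq_zero_or_pos N with h0 | h0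
  · rw [h0, mul_zero]; exact dvd_zero _
  haveI : Nontrivial A := Module.nontrivial_of_finrank_pos (R := k) (by omega)
  let c1 : MonoidAlgebra k G →ₗ[k] k :=
    { toFun := fun z => z.coeff 1, map_add' := fun x y => by simp, map_smul' := fun c x => by simp }
  let τ : A →ₗ[k] k := c1.comp (S.subtype.comp Ψ.symm.toLinearMap)
  have hτq : ∀ x, τ (q x) = (e * x).coeff 1 := fun x => by
    show ((Ψ.symm (q x) : S) : MonoidAlgebra k G).coeff 1 = _
    have : Ψ.symm (q x) = ⟨e * x, x, rfl⟩ := by
      rw [LinearEquiv.symm_apply_eq]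
      exact (hqe x).symm
    rw [this]
  have hcomm1 : ∀ x y : MonoidAlgebra k G, (x * y).coeff 1 = (y * x).coeff 1 := fun x y => by
    induction x using MonoidAlgebra.induction_linear with
    | zero => simp
    | add a c ha hc => rw [add_mul, mul_add]; simp [ha, hc]
    | single g r =>
      rw [coeff_single_mul_apply, coeff_mul_single_apply, mul_one, one_mul, mul_comm]
  have hτ : ∀ x y, τ (x * y) = τ (y * x) := fun x y => by
    obtain ⟨x, rfl⟩ := hq x
    obtain ⟨y, rfl⟩ := hq y
    rw [← map_mul, ← map_mul, hτq, hτq, ← mul_assoc, hcomm1 (e * x) y, ← mul_assoc, ← hecomm y,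
      mul_assoc]
  have hnd : ∀ x, (∀ y, τ (x * y) = 0) → x = 0 := fun x hx => by
    obtain ⟨x, rfl⟩ := hq x
    rw [hq0]
    ext g
    have h := hx (q (single g⁻¹ 1))
    rw [← map_mul, hτq, ← mul_assoc, coeff_mul_single_apply, mul_one, inv_inv, one_mul] at h
    simpa using h
  have hle : ∀ W : Submodule k A, (∀ x y, x * y - y * x ∈ W) →
      Module.finrank k (A ⧸ W) ≤ 2 := by
    intro W hW
    set L : MonoidAlgebra k G →ₗ[k] A ⧸ W := W.mkQ.comp q.toLinearMap with hL
    have hLs : Function.Surjective L := (Submodule.mkQ_surjective W).comp hq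
    have hLconj : ∀ (g h : G) (r : k), L (single (h * g * h⁻¹) r) = L (single g r) := fun g h r => by
      rw [hL, LinearMap.comp_apply, LinearMap.comp_apply, Submodule.mkQ_apply, Submodule.mkQ_apply,
        Submodule.Quotient.eq, AlgHom.toLinearMap_apply, AlgHom.toLinearMap_apply,
        show single (h * g * h⁻¹) r = single (h * g) r * single h⁻¹ 1 by
          rw [single_mul_single, mul_one],
        show single g r = single h⁻¹ 1 * single (h * g) r by
          rw [single_mul_single, one_mul, inv_mul_cancel_left], map_mul, map_mul]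
      exact hW _ _
    have hfac : ∀ z, L (classSec k (classProj k z)) = L z := fun z => by
      induction z using MonoidAlgebra.induction_linear with
      | zero => simp
      | add x y hx hy => simp only [map_add, hx, hy]
      | single g r =>
        rw [classProj_single]
        have : classSec k (Pi.single (ConjClasses.mk g) r) =
            single (classRep (ConjClasses.mk g)) r := by
          simp only [classSec, LinearMap.coe_mk, AddHom.coe_mk]
          rw [Finset.sum_eq_single (ConjClasses.mk g)]
          · simp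
          · intro c _ hc; simp [hc]
          · exact fun h => absurd (Finset.mem_univ _) h
        rw [this]
        obtain ⟨h, hh⟩ := isConj_iff.1 (isConj_classRep_mk g)
        conv_rhs => rw [← hh]
        rw [hLconj]
    have hLe : ∀ z, L (e * z) = L z := fun z => by
      show W.mkQ (q (e * z)) = W.mkQ (q z)
      rw [hqe]
    let T : (ConjClasses G → k) →ₗ[k] A ⧸ W := L.comp (classSec k)
    have hsurj : Submodule.map T (LinearMap.range (classMatrix e).mulVecLin) = ⊤ := by
      rw [eq_top_iff]
      intro a _
      obtain ⟨z, rfl⟩ := hLs a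
      refine ⟨(classMatrix e).mulVec (classProj k z), ⟨_, rfl⟩, ?_⟩
      show L (classSec k _) = L z
      rw [← classProj_mul_eq hec, hfac, hLe]
    have h1 : Module.finrank k (A ⧸ W) ≤
        Module.finrank k (LinearMap.range (classMatrix e).mulVecLin) := by
      rw [← finrank_top k (A ⧸ W), ← hsurj]
      exact Submodule.finrank_map_le _ _
    have hmap : (classMatrix eR).map (residue M) = classMatrix e := by
      ext c c'
      simp [classMatrix, he]
    have h := congrArg (fun x : localRing M => (x : ℂ))
      (trace_eq_rank_reduction (residue M) (classMatrix_mul_self heRc heR2))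
    rw [hmap] at h
    have htr : ((classMatrix eR).trace : ℂ) = (B.toFinset.card : ℂ) := by
      rw [← sum_classMatrix_blockCoeff B]
      simp only [Matrix.trace, Matrix.diag, classMatrix, AddSubmonoidClass.coe_finset_sum, hcoe]
    simp only [Subring.coe_natCast] at h
    rw [htr] at h
    have h2 : B.toFinset.card = Module.finrank k (LinearMap.range (classMatrix e).mulVecLin) := by
      exact_mod_cast h
    omega
  have key := sq_dvd_two_mul_finrank (q := Nat.card H) τ hτ hnd hle fun i hi => by
    obtain ⟨x, hx⟩ := hq i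
    set y := e * x with hy
    have hyI : IsIdempotentElem y := by
      have h0 : q (x * x - x) = 0 := by rw [map_sub, map_mul, hx, hi.eq, sub_self]
      rw [hq0, mul_sub, sub_eq_zero] at h0
      show e * x * (e * x) = e * x
      rw [mul_assoc, ← mul_assoc x, ← hecomm x, ← mul_assoc, ← mul_assoc, he2, mul_assoc, h0]
    have hye : e * y = y := by rw [hy, ← mul_assoc, he2]
    have hqy : q y = i := by rw [hy, hqe, hx]
    have hdvd := card_dvd_finrank_mulRight H hH hyI
    suffices hfr : Module.finrank k (LinearMap.range (LinearMap.mulRight k y)) =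
        Module.finrank k (LinearMap.range (LinearMap.mulRight k i)) by rwa [hfr] at hdvd
    let Θ : LinearMap.range (LinearMap.mulRight k y) →ₗ[k] LinearMap.range (LinearMap.mulRight k i) :=
      LinearMap.codRestrict _ (q.toLinearMap.comp (Submodule.subtype _)) (by
        rintro ⟨_, u, rfl⟩
        exact ⟨q u, by
          show q u * i = q (u * y)
          rw [map_mul, hqy]⟩)
    refine (LinearEquiv.ofBijective Θ ⟨fun a c hac => Subtype.ext ?_, fun a => ?_⟩).finrank_eq
    · have h' : q (a : MonoidAlgebra k G) = q (c : MonoidAlgebra k G) := congrArg Subtype.val hac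
      rw [← sub_eq_zero, ← map_sub, hq0] at h'
      obtain ⟨u, hu⟩ := a.2
      obtain ⟨v, hv⟩ := c.2
      have ea : e * (a : MonoidAlgebra k G) = a := by
        rw [← hu, LinearMap.mulRight_apply, ← mul_assoc, hecomm u, mul_assoc, hye]
      have ec : e * (c : MonoidAlgebra k G) = c := by
        rw [← hv, LinearMap.mulRight_apply, ← mul_assoc, hecomm v, mul_assoc, hye]
      rwa [mul_sub, ea, ec, sub_eq_zero] at h'
    · obtain ⟨b, hb⟩ := a.2
      obtain ⟨u, rfl⟩ := hq b
      refine ⟨⟨u * y, u, rfl⟩, Subtype.ext ?_⟩
      show q (u * y) = (a : A)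
      rw [← hb, LinearMap.mulRight_apply, map_mul, hqy]
  rwa [hdimA] at key

end Cfsg.Agent.Lib.Contrib
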