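import Mathlib
import Cfsg.Agent.Lib.Contrib.Cyclotomic

/-!
# Counting the rows of two columns of cyclotomic numbers

The rows of two columns `x`, `y` are counted from the sums `∑ |x|² = A`, `∑ x ȳ = B`, `∑ |y|² = C`,
where `!![A, B; B, C]` times the integral form `!![a, b; b, c]` is the scalar `q`.  The form is
reduced by shears and by exchanging the columns.
-/

set_option autoImplicit false

namespace Cfsg.Agent.Lib.Contrib

open Cfsg
open Cfsg.Agent.Lib.Blocks
open scoped ComplexConjugate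

variable {ι : Type*}

/-- Two columns with the conditions used in the count. -/
structure TwoColumns (p k : ℕ) (ζ : ℂ) (M : Ideal AlgInt) (S : Finset ι) (H : ι → Prop) (q : ℤ)
    (a b c : ℤ) where
  A : ℤ
  B : ℤ
  C : ℤ
  x : ι → ℕ → ℂ
  y : ι → ℕ → ℂ
  hx : ∀ i, IsCyc ζ (x i)
  hy : ∀ i, IsCyc ζ (y i)
  e11 : a * A + b * B = q
  e12 : a * B + b * C = 0
  e21 : b * A + c * B = 0
  e22 : b * B + c * C = q
  ha : 0 < a
  hc : 0 < c
  hdet : 0 < a * c - b ^ 2
  hdvd : (p : ℤ) ∣ a * c - b ^ 2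
  hne : ∀ i ∈ S, x i 1 ≠ 0 ∨ y i 1 ≠ 0
  hA : ∀ t, ¬ p ∣ t → ∑ i ∈ S, x i t * conj (x i t) = (A : ℂ)
  hB : ∀ t, ¬ p ∣ t → ∑ i ∈ S, x i t * conj (y i t) = (B : ℂ)
  hC : ∀ t, ¬ p ∣ t → ∑ i ∈ S, y i t * conj (y i t) = (C : ℂ)
  hmix : ∀ i ∈ S, ∀ i' ∈ S, H i' → (a : ℂ) * (x i 1 * conj (x i' 1)) +
    b * (x i 1 * conj (y i' 1) + y i 1 * conj (x i' 1)) + c * (y i 1 * conj (y i' 1)) ≠ 0
  hunit : ∀ i ∈ S, H i → ¬ MemLocalIdeal M ((a : ℂ) * (x i 1 * conj (x i 1)) +
    b * (x i 1 * conj (y i 1) + y i 1 * conj (x i 1)) + c * (y i 1 * conj (y i 1)))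
  hideal : ∀ i ∈ S, ¬ H i → MemLocalIdeal M ((a : ℂ) * (x i 1 * conj (x i 1)) +
    b * (x i 1 * conj (y i 1) + y i 1 * conj (x i 1)) + c * (y i 1 * conj (y i 1)))

variable {p k : ℕ} {ζ : ℂ} {M : Ideal AlgInt} {S : Finset ι} {H : ι → Prop} {q a b c : ℤ}

namespace TwoColumns

/-- Exchanging the columns. -/
def swap (T : TwoColumns p k ζ M S H q a b c) : TwoColumns p k ζ M S H q c b a where
  A := T.C
  B := T.B
  C := T.A
  x := T.y
  y := T.x
  hx := T.hy
  hy := T.hx
  e11 := by linarith [T.e22]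
  e12 := by linarith [T.e21]
  e21 := by linarith [T.e12]
  e22 := by linarith [T.e11]
  ha := T.hc
  hc := T.ha
  hdet := by linarith [T.hdet]
  hdvd := by rw [mul_comm]; exact T.hdvd
  hne i hi := (T.hne i hi).symm
  hA := T.hC
  hB t ht := by
    have h := congrArg (starRingEnd ℂ) (T.hB t ht)
    rw [map_sum, map_intCast] at h
    rw [← h]
    exact Finset.sum_congr rfl fun i _ => by rw [map_mul, Complex.conj_conj, mul_comm]
  hC := T.hA
  hmix i hi i' hi' h := by
    intro h0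
    exact T.hmix i hi i' hi' h (by rw [← h0]; ring)
  hunit i hi h := by
    intro h0
    exact T.hunit i hi h (by convert h0 using 1; ring)
  hideal i hi h := by
    have h0 := T.hideal i hi h
    convert h0 using 1
    ring

/-- A shear of the columns. -/
def shear (T : TwoColumns p k ζ M S H q a b c) (n : ℤ) :
    TwoColumns p k ζ M S H q a (b - n * a) (c - 2 * n * b + n ^ 2 * a) where
  A := T.A + 2 * n * T.B + n ^ 2 * T.C
  B := T.B + n * T.C
  C := T.C
  x i t := T.x i t + (n : ℂ) * T.y i t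
  y := T.y
  hx i := (T.hx i).add ((IsCyc.intCast n).mul (T.hy i))
  hy := T.hy
  e11 := by linear_combination T.e11 + n * T.e12
  e12 := by linear_combination T.e12
  e21 := by
    linear_combination T.e21 + n * T.e22 - n * T.e11 - n ^ 2 * T.e12
  e22 := by linear_combination T.e22 - n * T.e12
  ha := T.ha
  hc := by nlinarith [T.hdet, T.ha, sq_nonneg (b - n * a)]
  hdet := by linarith [T.hdet]
  hdvd := by
    rw [show a * (c - 2 * n * b + n ^ 2 * a) - (b - n * a) ^ 2 = a * c - b ^ 2 by ring]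
    exact T.hdvd
  hne i hi := by
    by_cases h : T.y i 1 = 0
    · exact Or.inl (by simpa [h] using (T.hne i hi))
    · exact Or.inr h
  hA t ht := by
    have hB' : ∑ i ∈ S, T.y i t * conj (T.x i t) = (T.B : ℂ) := by
      have h := congrArg (starRingEnd ℂ) (T.hB t ht)
      rw [map_sum, map_intCast] at h
      rw [← h]
      exact Finset.sum_congr rfl fun i _ => by rw [map_mul, Complex.conj_conj, mul_comm]
    rw [Finset.sum_congr rfl (g := fun i => T.x i t * conj (T.x i t) +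
      (n : ℂ) * (T.x i t * conj (T.y i t)) + (n : ℂ) * (T.y i t * conj (T.x i t)) +
      (n : ℂ) ^ 2 * (T.y i t * conj (T.y i t))) fun i _ => by
        rw [map_add, map_mul, map_intCast]; ring]
    rw [Finset.sum_add_distrib, Finset.sum_add_distrib, Finset.sum_add_distrib, ← Finset.mul_sum,
      ← Finset.mul_sum, ← Finset.mul_sum, T.hA t ht, T.hB t ht, T.hC t ht, hB']
    push_cast
    ring
  hB t ht := by
    rw [Finset.sum_congr rfl (g := fun i => T.x i t * conj (T.y i t) +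
      (n : ℂ) * (T.y i t * conj (T.y i t))) fun i _ => by ring]
    rw [Finset.sum_add_distrib, ← Finset.mul_sum, T.hB t ht, T.hC t ht]
    push_cast
    ring
  hC := T.hC
  hmix i hi i' hi' h := by
    intro h0
    refine T.hmix i hi i' hi' h ?_
    rw [← h0]
    simp only [map_add, map_mul, map_intCast]
    push_cast
    ring
  hunit i hi h := by
    intro h0
    refine T.hunit i hi h ?_
    convert h0 using 1
    simp only [map_add, map_mul, map_intCast]
    push_cast
    ring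
  hideal i hi h := by
    have h0 := T.hideal i hi h
    convert h0 using 1
    simp only [map_add, map_mul, map_intCast]
    push_cast
    ring

variable (T : TwoColumns p k ζ M S H q a b c)

theorem sum_sq_x {t : ℕ} (ht : ¬ p ∣ t) : ∑ i ∈ S, ‖T.x i t‖ ^ 2 = (T.A : ℝ) := by
  have h := congrArg Complex.re (T.hA t ht)
  rw [Complex.re_sum, Complex.intCast_re] at h
  rw [← h]
  exact Finset.sum_congr rfl fun i _ => by
    rw [Complex.mul_conj, Complex.ofReal_re, Complex.normSq_eq_norm_sq]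

theorem sum_sq_y {t : ℕ} (ht : ¬ p ∣ t) : ∑ i ∈ S, ‖T.y i t‖ ^ 2 = (T.C : ℝ) :=
  T.swap.sum_sq_x ht

include T in
/-- The count for a reduced form without a one in the corner. -/
theorem card_le_of_two_le (hp : p.Prime) (hk : 0 < k) (hζ : IsPrimitiveRoot ζ (p ^ k))
    (hq : 0 ≤ q) (h2 : 2 * |b| ≤ a) (hac : a ≤ c) (ha2 : 2 ≤ a) : (S.card : ℤ) ≤ q := by
  set U := primResidues p k
  set φ : ℝ := (U.card : ℝ) with hφ
  have hφ0 : 0 < φ := by
    rw [hφ, Nat.cast_pos, Finset.card_pos]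
    exact ⟨1, one_mem_primResidues hp hk⟩
  have hrow : ∀ i ∈ S, φ ≤ ∑ t ∈ U, (‖T.x i t‖ ^ 2 + ‖T.y i t‖ ^ 2 - ‖T.x i t‖ * ‖T.y i t‖) :=
    fun i hi => (T.hx i).card_le_sum_sq_pair hp hk hζ (T.hy i) (T.hne i hi)
  have hcol : ∀ t ∈ U, ∑ i ∈ S, (‖T.x i t‖ ^ 2 + ‖T.y i t‖ ^ 2 - ‖T.x i t‖ * ‖T.y i t‖) ≤
      ((T.A + T.C - |T.B| : ℤ) : ℝ) := fun t ht => by
    have ht' : ¬ p ∣ t := (Finset.mem_filter.1 ht).2
    rw [Finset.sum_sub_distrib, Finset.sum_add_distrib, T.sum_sq_x ht', T.sum_sq_y ht']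
    have hb : |(T.B : ℝ)| ≤ ∑ i ∈ S, ‖T.x i t‖ * ‖T.y i t‖ := by
      rw [← Complex.norm_intCast, ← T.hB t ht']
      refine (norm_sum_le _ _).trans (le_of_eq (Finset.sum_congr rfl fun i _ => ?_))
      rw [norm_mul, Complex.norm_conj]
    push_cast
    linarith
  have hmain : (S.card : ℝ) * φ ≤ φ * ((T.A + T.C - |T.B| : ℤ) : ℝ) :=
    calc (S.card : ℝ) * φ = ∑ _i ∈ S, φ := by simp
      _ ≤ ∑ i ∈ S, ∑ t ∈ U, (‖T.x i t‖ ^ 2 + ‖T.y i t‖ ^ 2 - ‖T.x i t‖ * ‖T.y i t‖) :=
          Finset.sum_le_sum hrow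
      _ = ∑ t ∈ U, ∑ i ∈ S, (‖T.x i t‖ ^ 2 + ‖T.y i t‖ ^ 2 - ‖T.x i t‖ * ‖T.y i t‖) :=
          Finset.sum_comm
      _ ≤ ∑ _t ∈ U, ((T.A + T.C - |T.B| : ℤ) : ℝ) := Finset.sum_le_sum hcol
      _ = φ * _ := by rw [Finset.sum_const, nsmul_eq_mul]
  rw [mul_comm] at hmain
  have hS : (S.card : ℤ) ≤ T.A + T.C - |T.B| := by
    exact_mod_cast le_of_mul_le_mul_left hmain hφ0
  have dA : (a * c - b ^ 2) * T.A = c * q := by linear_combination c * T.e11 - b * T.e21
  have dC : (a * c - b ^ 2) * T.C = a * q := by linear_combination a * T.e22 - b * T.e12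
  have dB : (a * c - b ^ 2) * T.B = -(b * q) := by linear_combination a * T.e21 - b * T.e11
  have dB' : (a * c - b ^ 2) * |T.B| = |b| * q := by
    rw [← abs_of_pos T.hdet, ← abs_mul, dB, abs_neg, abs_mul, abs_of_nonneg hq]
  have hkey : a + c - |b| ≤ a * c - b ^ 2 := by
    rw [← sq_abs b]
    have hb0 := abs_nonneg b
    rcases eq_or_lt_of_le hb0 with h | h
    · rw [← h]
      nlinarith [mul_le_mul_of_nonneg_right ha2 (show (0 : ℤ) ≤ c by linarith)]
    · nlinarith [mul_le_mul_of_nonneg_left h2 (show (0 : ℤ) ≤ a - 2 by linarith),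
        mul_le_mul_of_nonneg_left hac (show (0 : ℤ) ≤ a - 1 by linarith)]
  refine le_of_mul_le_mul_left ?_ T.hdet
  calc (a * c - b ^ 2) * (S.card : ℤ) ≤ (a * c - b ^ 2) * (T.A + T.C - |T.B|) :=
        mul_le_mul_of_nonneg_left hS T.hdet.le
    _ = (a + c - |b|) * q := by linear_combination dA + dC - dB'
    _ ≤ (a * c - b ^ 2) * q := mul_le_mul_of_nonneg_right hkey hq

include T in
/-- The count for a reduced form with a one in the corner. -/
theorem card_le_of_eq_one [M.IsPrime] (hM : IsPModular p M) (hk : 0 < k)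
    (hζ : IsPrimitiveRoot ζ (p ^ k)) (h2 : 2 * |b| ≤ a) (ha1 : a = 1) : (S.card : ℤ) ≤ q := by
  classical
  have hp := hM.1
  have hb : b = 0 := by
    have := abs_nonneg b
    exact abs_eq_zero.1 (by omega)
  subst hb ha1
  have hA : T.A = q := by linarith [T.e11]
  have hcdvd : (p : ℤ) ∣ c := by simpa using T.hdvd
  have hcp : (p : ℤ) ≤ c := Int.le_of_dvd T.hc hcdvd
  set U := primResidues p k
  set φ : ℝ := (U.card : ℝ) with hφ
  have hφ0 : 0 < φ := by
    rw [hφ, Nat.cast_pos, Finset.card_pos]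
    exact ⟨1, one_mem_primResidues hp hk⟩
  have hUt : ∀ t ∈ U, ¬ p ∣ t := fun t ht => (Finset.mem_filter.1 ht).2
  have sX : ∑ i ∈ S, ∑ t ∈ U, ‖T.x i t‖ ^ 2 = φ * q := by
    rw [Finset.sum_comm, Finset.sum_congr rfl fun t ht => T.sum_sq_x (hUt t ht), hA]
    simp [hφ]
  have sY : ∑ i ∈ S, ∑ t ∈ U, ‖T.y i t‖ ^ 2 = φ * T.C := by
    rw [Finset.sum_comm, Finset.sum_congr rfl fun t ht => T.sum_sq_y (hUt t ht)]
    simp [hφ]
  by_cases hE : ∀ i ∈ S, T.x i 1 ≠ 0
  · have hmain : φ * (S.card : ℝ) ≤ φ * q := by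
      rw [← sX, mul_comm]
      calc (S.card : ℝ) * φ = ∑ _i ∈ S, φ := by simp
        _ ≤ _ := Finset.sum_le_sum fun i hi => (T.hx i).card_le_sum_norm_sq hp hk hζ (hE i hi)
    exact_mod_cast le_of_mul_le_mul_left hmain hφ0
  push Not at hE
  obtain ⟨e, heS, he0⟩ := hE
  have hyR : ∀ i, MemLocalRing M (T.y i 1) ∧ MemLocalRing M (conj (T.y i 1)) := fun i =>
    (T.hy i).memLocalRing hM hζ 1
  have hcI : ∀ i i', MemLocalIdeal M ((c : ℂ) * (T.y i 1 * conj (T.y i' 1))) := fun i i' =>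
    memLocalIdeal_mul_right ((memLocalIdeal_intCast_iff hM c).2 hcdvd)
      (mem_localRing.1 (mul_mem (mem_localRing.2 (hyR i).1) (mem_localRing.2 (hyR i').2)))
  have hH : ∀ i ∈ S, H i → T.x i 1 ≠ 0 ∧ T.y i 1 ≠ 0 := fun i hi h => by
    refine ⟨fun h0 => T.hunit i hi h ?_, fun h0 => T.hmix e heS i hi h ?_⟩
    · simpa [h0] using hcI i i
    · simp [he0, h0]
  have hPos : ∀ i ∈ S, ¬ H i → MemLocalIdeal M (T.x i 1) := fun i hi h => by
    obtain ⟨z, hz⟩ := (T.hx i).exists_int_congr_conj hM hζ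
    have h1 := memLocalIdeal_sub (T.hideal i hi h) (hcI i i)
    have hx1 : MemLocalIdeal M (T.x i 1 * conj (T.x i 1)) := by
      convert h1 using 1
      simp
    have hz2 : MemLocalIdeal M ((z : ℂ) * z) := by
      have := memLocalIdeal_sub hx1 (memLocalIdeal_add
        (memLocalIdeal_mul_right (hz 1).1 ((T.hx i).memLocalRing hM hζ 1).2)
        (memLocalIdeal_mul_left (mem_localRing.1 (intCast_mem_localRing (M := M) z)) (hz 1).2))
      convert this using 1
      ring
    have hzI : MemLocalIdeal M (z : ℂ) :=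
      memLocalIdeal_of_pow (mem_localRing.1 (intCast_mem_localRing (M := M) z)) (n := 2)
        (by rwa [sq])
    simpa using memLocalIdeal_add (hz 1).1 hzI
  let n0 := (S.filter fun i => H i).card
  let nE := (S.filter fun i => T.x i 1 = 0).card
  let nP := (S.filter fun i => ¬ H i ∧ T.x i 1 ≠ 0).card
  have hsplit : (S.card : ℝ) ≤ (n0 : ℝ) + nE + nP := by
    have hsub : S ⊆ (S.filter fun i => H i) ∪ (S.filter fun i => T.x i 1 = 0) ∪
        (S.filter fun i => ¬ H i ∧ T.x i 1 ≠ 0) := by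
      intro i hi
      simp only [Finset.mem_union, Finset.mem_filter]
      tauto
    exact_mod_cast (Finset.card_le_card hsub).trans
      ((Finset.card_union_le _ _).trans (Nat.add_le_add_right (Finset.card_union_le _ _) _))
  have hdisj1 : Disjoint (S.filter fun i => H i) (S.filter fun i => T.x i 1 = 0) := by
    rw [Finset.disjoint_filter]
    exact fun i hi h h0 => (hH i hi h).1 h0
  have hdisj2 : Disjoint (S.filter fun i => H i) (S.filter fun i => ¬ H i ∧ T.x i 1 ≠ 0) := by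
    rw [Finset.disjoint_filter]
    exact fun i _ h h0 => h0.1 h
  have hX : φ * n0 + (p : ℝ) ^ k * nP ≤ φ * q := by
    rw [← sX]
    refine le_trans ?_ (Finset.sum_le_sum_of_subset_of_nonneg
      (s := (S.filter fun i => H i) ∪ (S.filter fun i => ¬ H i ∧ T.x i 1 ≠ 0))
      (Finset.union_subset (Finset.filter_subset _ _) (Finset.filter_subset _ _))
      fun i _ _ => Finset.sum_nonneg fun t _ => sq_nonneg _)
    rw [Finset.sum_union hdisj2]
    refine add_le_add ?_ ?_
    · calc φ * n0 = ∑ _i ∈ S.filter (fun i => H i), φ := by simp [n0, mul_comm]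
        _ ≤ _ := Finset.sum_le_sum fun i hi => by
          rw [Finset.mem_filter] at hi
          exact (T.hx i).card_le_sum_norm_sq hp hk hζ (hH i hi.1 hi.2).1
    · calc (p : ℝ) ^ k * nP = ∑ _i ∈ S.filter (fun i => ¬ H i ∧ T.x i 1 ≠ 0), (p : ℝ) ^ k := by
            simp [nP, mul_comm]
        _ ≤ _ := Finset.sum_le_sum fun i hi => by
          rw [Finset.mem_filter] at hi
          exact (T.hx i).pow_le_sum_norm_sq hM hk hζ hi.2.2 (hPos i hi.1 hi.2.1)
  have hY : φ * (n0 + nE) ≤ φ * T.C := by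
    rw [← sY]
    refine le_trans ?_ (Finset.sum_le_sum_of_subset_of_nonneg
      (s := (S.filter fun i => H i) ∪ (S.filter fun i => T.x i 1 = 0))
      (Finset.union_subset (Finset.filter_subset _ _) (Finset.filter_subset _ _))
      fun i _ _ => Finset.sum_nonneg fun t _ => sq_nonneg _)
    rw [Finset.sum_union hdisj1, mul_add]
    refine add_le_add ?_ ?_
    · calc φ * n0 = ∑ _i ∈ S.filter (fun i => H i), φ := by simp [n0, mul_comm]
        _ ≤ _ := Finset.sum_le_sum fun i hi => by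
          rw [Finset.mem_filter] at hi
          exact (T.hy i).card_le_sum_norm_sq hp hk hζ (hH i hi.1 hi.2).2
    · calc φ * nE = ∑ _i ∈ S.filter (fun i => T.x i 1 = 0), φ := by simp [nE, mul_comm]
        _ ≤ _ := Finset.sum_le_sum fun i hi => by
          rw [Finset.mem_filter] at hi
          exact (T.hy i).card_le_sum_norm_sq hp hk hζ ((T.hne i hi.1).resolve_left (by simp [hi.2]))
  have hφv : φ = (p : ℝ) ^ (k - 1) * ((p : ℝ) - 1) := by
    rw [hφ, card_primResidues hp hk]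
    push_cast [hp.one_le]
    ring
  have hpk : (p : ℝ) ^ k = (p : ℝ) ^ (k - 1) * p := by rw [← pow_succ, Nat.sub_add_cancel hk]
  have hp0 : (0 : ℝ) < (p : ℝ) ^ (k - 1) := by
    have := hp.pos
    positivity
  have hX' : ((p : ℝ) - 1) * n0 + p * nP ≤ ((p : ℝ) - 1) * q := by
    rw [hφv, hpk] at hX
    refine le_of_mul_le_mul_left ?_ hp0
    linarith
  have hY' : (n0 : ℝ) + nE ≤ T.C := le_of_mul_le_mul_left hY hφ0
  have hcC : (c : ℝ) * T.C = q := by
    have : c * T.C = q := by linarith [T.e22]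
    exact_mod_cast this
  have hC0 : (0 : ℝ) ≤ T.C := le_trans (by positivity) hY'
  have hY'' : (p : ℝ) * (n0 + nE) ≤ q := by
    rw [← hcC]
    exact mul_le_mul (by exact_mod_cast hcp) hY' (by positivity) (by exact_mod_cast T.hc.le)
  have hfin : (p : ℝ) * S.card ≤ p * q := by
    have h1 : (p : ℝ) * S.card ≤ p * ((n0 : ℝ) + nE + nP) :=
      mul_le_mul_of_nonneg_left hsplit (Nat.cast_nonneg _)
    have h2 : (0 : ℝ) ≤ ((p : ℝ) - 1) * n0 :=
      mul_nonneg (sub_nonneg.2 (by exact_mod_cast hp.one_le)) (Nat.cast_nonneg _)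
    linarith
  exact_mod_cast le_of_mul_le_mul_left hfin (by exact_mod_cast hp.pos)

end TwoColumns

/-- Two such columns have at most `q` rows. -/
theorem TwoColumns.card_le [M.IsPrime] (hM : IsPModular p M) (hk : 0 < k)
    (hζ : IsPrimitiveRoot ζ (p ^ k)) (hq : 0 ≤ q) (T : TwoColumns p k ζ M S H q a b c) :
    (S.card : ℤ) ≤ q := by
  suffices key : ∀ (m : ℕ) (a b c : ℤ), (a + c).toNat ≤ m → TwoColumns p k ζ M S H q a b c →
      (S.card : ℤ) ≤ q from key _ a b c le_rfl T
  intro m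
  induction m with
  | zero => intro a b c hm T; have := T.ha; have := T.hc; omega
  | succ m ih =>
    suffices main : ∀ a b c : ℤ, (a + c).toNat ≤ m + 1 → a ≤ c →
        TwoColumns p k ζ M S H q a b c → (S.card : ℤ) ≤ q by
      intro a b c hm T
      rcases le_total a c with h | h
      · exact main a b c hm h T
      · exact main c b a (by omega) h T.swap
    intro a b c hm hac T
    have := T.ha
    by_cases h2 : 2 * |b| ≤ a
    · rcases (show a = 1 ∨ 2 ≤ a by omega) with h | h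
      · exact T.card_le_of_eq_one hM hk hζ h2 h
      · exact T.card_le_of_two_le hM.1 hk hζ hq h2 hac h
    · have hc' := (T.shear b.sign).hc
      refine ih _ _ _ ?_ (T.shear b.sign)
      have hb : b ≠ 0 := fun h => h2 (by subst h; simp; omega)
      have h1 : b.sign ^ 2 = 1 := by
        rcases lt_or_gt_of_ne hb with h | h
        · simp [Int.sign_eq_neg_one_of_neg h]
        · simp [Int.sign_eq_one_of_pos h]
      rw [h1, mul_assoc, Int.sign_mul_self_eq_abs] at *
      omega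

end Cfsg.Agent.Lib.Contrib
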