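import Mathlib
import Cfsg.Agent.Lib.Contrib.Family
import Cfsg.Agent.Lib.Contrib.TwoColumns

/-!
# The number of characters of a block with a major subsection of rank at most two
-/

set_option autoImplicit false

namespace Cfsg.Agent.Lib.Contrib

open Cfsg
open Cfsg.Agent.Lib
open Cfsg.Agent.Lib.Blocks
open scoped ComplexConjugate

attribute [local instance] Classical.propDecidable

universe u

variable {G : Type u} [Group G] [Fintype G] {p : ℕ} {M : Ideal AlgInt} [Fact p.Prime] [M.IsPrime]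
  {C : Subgroup G} [Fintype C] {z : G} {j : ℕ} {b : Set (IrrCharacter C)} {B : Set (IrrCharacter G)}

theorem card_le_of_major_rank_le_two (hM : IsPModular p M) (hz : orderOf z = p ^ j)
    (hC : C = Subgroup.centralizer ({z} : Set G)) (hb : IsInducedBlock M C b B)
    (hmaj : blockDefect p b = blockDefect p B) (hl : blockRank p b ≤ 2) :
    Nat.card B ≤ p ^ blockDefect p B := by
  haveI : NeZero (p ^ (j + 1)) := ⟨pow_ne_zero _ hM.1.ne_zero⟩
  obtain ⟨l, Q, A, X, σ, mu, hlb, hQ, hA, hQA, hpos, ⟨hmuR, hσR⟩, hσ, hX, hsum, hne, hunit, hideal⟩ :=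
    exists_major_columns hM hz hC hb hmaj
  have hζ := isPrimitiveRoot_theRoot p j
  obtain ⟨ψ₀, hψ₀, h00⟩ := Blocks.exists_height_zero (p := p) hb.2.1
  have hrow : ∀ χ ∈ B, ∃ a, X χ a 1 ≠ 0 := fun χ hχ => by
    by_contra hno
    push Not at hno
    exact hne χ hχ ψ₀ hψ₀ h00 (Finset.sum_eq_zero fun a _ => Finset.sum_eq_zero fun c _ => by
      rw [hno a, zero_mul, zero_mul])
  rw [← hlb] at hl
  rw [← hmaj, Nat.card_eq_card_toFinset]
  suffices h : (B.toFinset.card : ℤ) ≤ (p : ℤ) ^ blockDefect p b by exact_mod_cast h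
  set q : ℤ := (p : ℤ) ^ blockDefect p b with hq
  have hq0 : 0 < q := pow_pos (by exact_mod_cast hM.1.pos) _
  interval_cases l
  · exact absurd (hrow ψ₀ hψ₀) (by simp)
  · set φ : ℝ := ((primResidues p (j + 1)).card : ℝ) with hφ
    have hφ0 : 0 < φ := by
      rw [hφ, Nat.cast_pos, Finset.card_pos]
      exact ⟨1, one_mem_primResidues hM.1 j.succ_pos⟩
    have hQA0 : Q 0 0 * A 0 0 = q := by simpa using hQA 0 0
    have hA0 : 0 ≤ A 0 0 := by simpa using hpos fun _ => 1
    have hAle : A 0 0 ≤ q := by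
      have : 0 < Q 0 0 := by
        by_contra h
        have := mul_nonpos_of_nonpos_of_nonneg (not_lt.1 h) hA0
        linarith
      calc A 0 0 = 1 * A 0 0 := (one_mul _).symm
        _ ≤ Q 0 0 * A 0 0 := mul_le_mul_of_nonneg_right this hA0
        _ = q := hQA0
    refine le_trans ?_ hAle
    have hmain : φ * (B.toFinset.card : ℝ) ≤ φ * (A 0 0 : ℝ) := by
      calc φ * (B.toFinset.card : ℝ) = ∑ _χ ∈ B.toFinset, φ := by simp [mul_comm]
        _ ≤ ∑ χ ∈ B.toFinset, ∑ t ∈ primResidues p (j + 1), ‖X χ 0 t‖ ^ 2 := by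
            refine Finset.sum_le_sum fun χ hχ => (hX χ 0).card_le_sum_norm_sq hM.1 j.succ_pos hζ ?_
            obtain ⟨a, ha⟩ := hrow χ (Set.mem_toFinset.1 hχ)
            rwa [Subsingleton.elim a 0] at ha
        _ = φ * (A 0 0 : ℝ) := by
            rw [Finset.sum_comm, Finset.sum_congr rfl (g := fun _ => (A 0 0 : ℝ)) fun t ht => ?_,
              Finset.sum_const, nsmul_eq_mul]
            have h := congrArg Complex.re (hsum t (Finset.mem_filter.1 ht).2 0 0)
            rw [Complex.re_sum, Complex.intCast_re] at h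
            rw [← h]
            exact Finset.sum_congr rfl fun i _ => by
              rw [Complex.mul_conj, Complex.ofReal_re, Complex.normSq_eq_norm_sq]
    exact_mod_cast le_of_mul_le_mul_left hmain hφ0
  · have e : ∀ a c : Fin 2, Q a 0 * A 0 c + Q a 1 * A 1 c = if a = c then q else 0 :=
      fun a c => by simpa [Fin.sum_univ_two] using hQA a c
    have e11 : Q 0 0 * A 0 0 + Q 0 1 * A 0 1 = q := by simpa [hA 1 0] using e 0 0
    have e12 : Q 0 0 * A 0 1 + Q 0 1 * A 1 1 = 0 := by simpa using e 0 1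
    have e21 : Q 0 1 * A 0 0 + Q 1 1 * A 0 1 = 0 := by simpa [hA 1 0, hQ 1 0] using e 1 0
    have e22 : Q 0 1 * A 0 1 + Q 1 1 * A 1 1 = q := by simpa [hQ 1 0] using e 1 1
    have hPSD : ∀ v w : ℤ, 0 ≤ v * v * A 0 0 + 2 * (v * w) * A 0 1 + w * w * A 1 1 := fun v w => by
      have h := hpos ![v, w]
      simp [Fin.sum_univ_two, hA 1 0] at h
      linarith
    have hQ00 : 0 ≤ Q 0 0 := by
      have h := hPSD (Q 0 0) (Q 0 1)
      have : 0 ≤ q * Q 0 0 := by
        calc 0 ≤ _ := h
          _ = q * Q 0 0 := by linear_combination Q 0 0 * e11 + Q 0 1 * e12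
      nlinarith
    have hQ11 : 0 ≤ Q 1 1 := by
      have h := hPSD (Q 0 1) (Q 1 1)
      have : 0 ≤ q * Q 1 1 := by
        calc 0 ≤ _ := h
          _ = q * Q 1 1 := by linear_combination Q 1 1 * e22 + Q 0 1 * e21
      nlinarith
    have hdd : (Q 0 0 * Q 1 1 - Q 0 1 ^ 2) * (A 0 0 * A 1 1 - A 0 1 ^ 2) = q ^ 2 := by
      linear_combination (Q 0 1 * A 0 1 + Q 1 1 * A 1 1) * e11 + q * e22 -
        (Q 0 1 * A 0 0 + Q 1 1 * A 0 1) * e12
    have hAd : 0 ≤ A 0 0 * A 1 1 - A 0 1 ^ 2 := by
      by_contra hcon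
      rw [not_le] at hcon
      rcases eq_or_lt_of_le (show 0 ≤ A 0 0 by simpa using hPSD 1 0) with h | h
      · have h1 := hPSD 1 0
        have h2 := hPSD (A 1 1 + 1) (-(A 0 1))
        have h3 : 0 ≤ A 1 1 := by simpa using hPSD 0 1
        rw [← h] at h2 hcon
        have h4 : 0 < A 0 1 ^ 2 := by linarith
        nlinarith
      · have h2 := hPSD (-(A 0 1)) (A 0 0)
        nlinarith
    have hdet : 0 < Q 0 0 * Q 1 1 - Q 0 1 ^ 2 := by
      by_contra hcon
      rw [not_lt] at hcon
      have := mul_nonpos_of_nonpos_of_nonneg hcon hAd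
      nlinarith [pow_pos hq0 2]
    have ha : 0 < Q 0 0 := by
      rcases eq_or_lt_of_le hQ00 with h | h
      · rw [← h] at hdet
        nlinarith [sq_nonneg (Q 0 1)]
      · exact h
    have hc : 0 < Q 1 1 := by
      rcases eq_or_lt_of_le hQ11 with h | h
      · rw [← h] at hdet
        nlinarith [sq_nonneg (Q 0 1)]
      · exact h
    have hdvd : (p : ℤ) ∣ Q 0 0 * Q 1 1 - Q 0 1 ^ 2 := by
      rw [← memLocalIdeal_intCast_iff hM]
      have hm : ∀ i k, MemLocalRing M (mu * σ i * σ k) := fun i k => mem_localRing.1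
        (mul_mem (mul_mem (mem_localRing.2 hmuR) (mem_localRing.2 (hσR i))) (mem_localRing.2 (hσR k)))
      have hQR : ∀ i k, MemLocalRing M ((Q i k : ℂ)) := fun i k =>
        mem_localRing.1 (intCast_mem_localRing _)
      have h := memLocalIdeal_sub (memLocalIdeal_add (memLocalIdeal_mul_right (hσ 0 0) (hQR 1 1))
        (memLocalIdeal_mul_left (hm 0 0) (hσ 1 1))) (memLocalIdeal_mul_right (hσ 0 1)
        (mem_localRing.1 (add_mem (mem_localRing.2 (hQR 0 1)) (mem_localRing.2 (hm 0 1)))))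
      convert h using 1
      push_cast
      ring
    have hf : ∀ χ ψ : IrrCharacter G, (Q 0 0 : ℂ) * (X χ 0 1 * conj (X ψ 0 1)) +
        (Q 0 1 : ℂ) * (X χ 0 1 * conj (X ψ 1 1) + X χ 1 1 * conj (X ψ 0 1)) +
        (Q 1 1 : ℂ) * (X χ 1 1 * conj (X ψ 1 1)) = formAtOne Q X χ ψ := fun χ ψ => by
      simp only [formAtOne, Fin.sum_univ_two, hQ 1 0]
      ring
    let T : TwoColumns p (j + 1) (theRoot p j) M B.toFinset
        (fun χ => blockHeight p B (χ : G → ℂ) = 0) q (Q 0 0) (Q 0 1) (Q 1 1) :=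
      { A := A 0 0
        B := A 0 1
        C := A 1 1
        x := fun χ => X χ 0
        y := fun χ => X χ 1
        hx := fun χ => hX χ 0
        hy := fun χ => hX χ 1
        e11 := e11
        e12 := e12
        e21 := e21
        e22 := e22
        ha := ha
        hc := hc
        hdet := hdet
        hdvd := hdvd
        hne := fun χ hχ => by
          obtain ⟨a, ha'⟩ := hrow χ (Set.mem_toFinset.1 hχ)
          fin_cases a
          · exact Or.inl ha'
          · exact Or.inr ha'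
        hA := fun t ht => hsum t ht 0 0
        hB := fun t ht => hsum t ht 0 1
        hC := fun t ht => hsum t ht 1 1
        hmix := fun χ hχ ψ hψ h => by
          rw [hf]
          exact hne χ (Set.mem_toFinset.1 hχ) ψ (Set.mem_toFinset.1 hψ) h
        hunit := fun ψ hψ h => by
          rw [hf]
          exact hunit ψ (Set.mem_toFinset.1 hψ) h
        hideal := fun χ hχ h => by
          rw [hf]
          exact hideal χ (Set.mem_toFinset.1 hχ) h }
    exact T.card_le hM j.succ_pos hζ hq0.le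

end Cfsg.Agent.Lib.Contrib
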