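import Mathlib

/-!
# Blocks of a normal subgroup of index prime to `p` supplemented by inner-acting elements

Let `N` be normal of index prime to `p`, `e` a primitive central idempotent of `k N` with
augmentation one, and suppose that every coset contains an element whose orbit under `N` has size
prime to `p`.  Then the augmentation block of `k G` is spanned by the image of `e k N`.
-/

set_option autoImplicit false

namespace Cfsg.Agent.Lib.Contrib.Supplement

open MonoidAlgebra

variable {p : ℕ} [Fact p.Prime] {k : Type*} [Field k] [CharP k p] {G : Type*} [Group G] [Fintype G]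
  (N : Subgroup G) [N.Normal]

/-- The inclusion of the group algebra of `N`. -/
noncomputable abbrev incl (k : Type*) [Field k] {G : Type*} [Group G] (N : Subgroup G) :
    MonoidAlgebra k N →ₐ[k] MonoidAlgebra k G :=
  mapDomainAlgHom k k N.subtype

/-- The augmentation. -/
noncomputable abbrev aug (k : Type*) [Field k] (H : Type*) [Group H] :
    MonoidAlgebra k H →ₐ[k] k :=
  MonoidAlgebra.lift k k H 1

theorem aug_single {H : Type*} [Group H] (h : H) (r : k) : aug k H (single h r) = r := by simp

theorem aug_incl (a : MonoidAlgebra k N) : aug k G (incl k N a) = aug k N a := by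
  induction a using MonoidAlgebra.induction_linear with
  | zero => simp
  | add x y hx hy => simp only [map_add, hx, hy]
  | single n r => simp

theorem incl_injective : Function.Injective (incl k N) :=
  MonoidAlgebra.mapDomain_injective N.subtype_injective

/-- Conjugation by an element of `G` on the group algebra of `N`. -/
noncomputable abbrev twist (k : Type*) [Field k] {G : Type*} [Group G] (N : Subgroup G) [N.Normal]
    (g : G) : MonoidAlgebra k N →ₐ[k] MonoidAlgebra k N :=
  mapDomainAlgHom k k (MulAut.conjNormal g : N ≃* N).toMonoidHom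

theorem single_mul_incl (g : G) (a : MonoidAlgebra k N) :
    single g 1 * incl k N a = incl k N (twist k N g a) * single g 1 := by
  induction a using MonoidAlgebra.induction_linear with
  | zero => simp
  | add x y hx hy => simp only [map_add, mul_add, add_mul, hx, hy]
  | single n r => simp [MulAut.conjNormal_apply]

theorem aug_twist (g : G) (a : MonoidAlgebra k N) : aug k N (twist k N g a) = aug k N a := by
  induction a using MonoidAlgebra.induction_linear with
  | zero => simp
  | add x y hx hy => simp only [map_add, hx, hy]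
  | single n r => simp

theorem twist_twist (g h : G) (a : MonoidAlgebra k N) :
    twist k N g (twist k N h a) = twist k N (g * h) a := by
  induction a using MonoidAlgebra.induction_linear with
  | zero => simp
  | add x y hx hy => simp only [map_add, hx, hy]
  | single n r =>
    simp only [mapDomainAlgHom_apply, mapDomain_single, MulEquiv.coe_toMonoidHom, map_mul,
      MulAut.mul_apply]

theorem twist_mem_center (g : G) {a : MonoidAlgebra k N}
    (ha : a ∈ Subalgebra.center k (MonoidAlgebra k N)) :
    twist k N g a ∈ Subalgebra.center k (MonoidAlgebra k N) := by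
  rw [Subalgebra.mem_center_iff] at ha ⊢
  intro b
  have h := congrArg (twist k N g) (ha (twist k N g⁻¹ b))
  rw [map_mul, map_mul, twist_twist, mul_inv_cancel] at h
  have h1 : ∀ c : MonoidAlgebra k N, twist k N 1 c = c := fun c => by
    induction c using MonoidAlgebra.induction_linear with
    | zero => simp
    | add x y hx hy => simp only [map_add, hx, hy]
    | single n r => simp
  rwa [h1] at h

/-- A commuting pair of idempotents congruent modulo nilpotents are equal, in the form used for
primitive central idempotents. -/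
theorem mul_eq_left_of_nilpotent {A : Type*} [Ring A] {e f : A} (he : IsIdempotentElem e)
    (hf : IsIdempotentElem f) (hc : Commute e f) (h : IsNilpotent (e * (f - 1))) : e * f = e := by
  refine eq_of_isNilpotent_sub_of_isIdempotentElem_of_commute (he.mul_of_commute hc hf) he ?_ ?_
  · rwa [mul_sub, mul_one] at h
  · exact (Commute.refl e).mul_left hc.symm

variable {e : MonoidAlgebra k N} (hec : e ∈ Subalgebra.center k (MonoidAlgebra k N))
  (he : IsIdempotentElem e) (he1 : aug k N e = 1)
  (hloc : ∀ z ∈ Subalgebra.center k (MonoidAlgebra k N), aug k N z = 1 → IsNilpotent (e * (z - 1)))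

include hec he he1 hloc

theorem twist_eq (g : G) : twist k N g e = e := by
  have key : ∀ h : G, e * twist k N h e = e := fun h => by
    refine mul_eq_left_of_nilpotent he (he.map (twist k N h))
      ((Subalgebra.mem_center_iff.1 (twist_mem_center N h hec)) e)
      (hloc _ (twist_mem_center N h hec) ?_)
    rw [aug_twist, he1]
  have h1 := congrArg (twist k N g) (key g⁻¹)
  rw [map_mul, twist_twist, mul_inv_cancel] at h1
  have h2 : twist k N 1 e = e := by
    have : ∀ b : MonoidAlgebra k N, twist k N 1 b = b := fun b => by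
      induction b using MonoidAlgebra.induction_linear with
      | zero => simp
      | add x y hx hy => simp only [map_add, hx, hy]
      | single n r => simp
    exact this e
  rw [h2] at h1
  rw [← h1, ← Subalgebra.mem_center_iff.1 (twist_mem_center N g hec) e, key g]

theorem incl_mem_center : incl k N e ∈ Subalgebra.center k (MonoidAlgebra k G) := by
  rw [Subalgebra.mem_center_iff]
  intro b
  induction b using MonoidAlgebra.induction_linear with
  | zero => simp
  | add x y hx hy => rw [add_mul, mul_add, hx, hy]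
  | single g r =>
    rw [show single g r = r • single g (1 : k) by rw [MonoidAlgebra.smul_single', mul_one],
      smul_mul_assoc, mul_smul_comm, single_mul_incl, twist_eq N hec he he1 hloc g]

omit hec he he1 hloc in
/-- An element of the coset `x` times an element of `k N`. -/
def Deg (k : Type*) [Field k] {G : Type*} [Group G] (N : Subgroup G) [N.Normal] (x : G ⧸ N)
    (z : MonoidAlgebra k G) : Prop :=
  ∃ g : G, (g : G ⧸ N) = x ∧ ∃ a, z = incl k N a * single g 1

omit hec he he1 hloc in
theorem Deg.mul {x y : G ⧸ N} {z w : MonoidAlgebra k G} (hz : Deg k N x z) (hw : Deg k N y w) :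
    Deg k N (x * y) (z * w) := by
  obtain ⟨g, rfl, a, rfl⟩ := hz
  obtain ⟨h, rfl, b, rfl⟩ := hw
  refine ⟨g * h, rfl, a * twist k N g b, ?_⟩
  rw [map_mul, mul_assoc (incl k N a), ← mul_assoc (single g (1 : k)), single_mul_incl,
    mul_assoc (incl k N _), single_mul_single, mul_one, ← mul_assoc]

omit hec he he1 hloc in
theorem Deg.exists_incl {z : MonoidAlgebra k G} (hz : Deg k N (1 : G ⧸ N) z) :
    ∃ a, incl k N a = z := by
  obtain ⟨g, hg, a, rfl⟩ := hz
  refine ⟨a * single (⟨g, (QuotientGroup.eq_one_iff g).1 hg⟩ : N) 1, ?_⟩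
  rw [map_mul]
  congr 1
  simp

variable (hrep : ∀ x : G ⧸ N, ∃ c : G, (c : G ⧸ N) = x ∧ ∃ S : Finset G, ¬ p ∣ S.card ∧
    (∀ s ∈ S, (s : G ⧸ N) = x) ∧ ∀ (n : N), ∀ s ∈ S, (n : G) * s * (n : G)⁻¹ ∈ S)

include hrep

/-- Normalised orbit sums in every coset. -/
theorem exists_orbitSums : ∃ V : G ⧸ N → MonoidAlgebra k G, ∀ x,
    incl k N e * V x = V x ∧ aug k G (V x) = 1 ∧ Deg k N x (V x) ∧
      ∀ b, V x * incl k N b = incl k N b * V x := by
  classical
  refine ⟨fun x => ?_, ?_⟩
  · exact incl k N e * ((((hrep x).choose_spec.2.choose).card : k)⁻¹ •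
      ∑ s ∈ (hrep x).choose_spec.2.choose, single s (1 : k))
  intro x
  obtain ⟨hS, hSx, hSinv⟩ := (hrep x).choose_spec.2.choose_spec
  have hc := (hrep x).choose_spec.1
  dsimp only
  generalize (hrep x).choose_spec.2.choose = S at hS hSx hSinv ⊢
  generalize (hrep x).choose = c at hc
  have hS0 : (S.card : k) ≠ 0 := fun h => hS ((CharP.cast_eq_zero_iff k p _).1 h)
  have hEc := Subalgebra.mem_center_iff.1 (incl_mem_center N hec he he1 hloc)
  refine ⟨by rw [← mul_assoc, ← map_mul, he.eq], ?_, ?_, fun b => ?_⟩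
  · rw [map_mul, aug_incl, he1, one_mul, map_smul, map_sum]
    simp [inv_mul_cancel₀ hS0]
  · have hmem : ∀ s ∈ S, s * c⁻¹ ∈ N := fun s hs => by
      rw [← QuotientGroup.eq_one_iff, QuotientGroup.mk_mul, QuotientGroup.mk_inv, hSx s hs, hc,
        mul_inv_cancel]
    refine ⟨c, hc, e * ((S.card : k)⁻¹ • ∑ s : S, single (⟨(s : G) * c⁻¹, hmem s s.2⟩ : N) (1 : k)),
      ?_⟩
    rw [map_mul, map_smul, map_sum, mul_assoc, smul_mul_assoc, Finset.sum_mul,
      ← Finset.sum_coe_sort S]
    congr 2
    refine Finset.sum_congr rfl fun s _ => ?_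
    simp
  · have hK : (∑ s ∈ S, single s (1 : k)) * incl k N b = incl k N b * ∑ s ∈ S, single s (1 : k) := by
      induction b using MonoidAlgebra.induction_linear with
      | zero => simp
      | add u v hu hv => rw [map_add, mul_add, add_mul, hu, hv]
      | single n r =>
        simp only [mapDomainAlgHom_apply, mapDomain_single, Subgroup.coe_subtype,
          Finset.sum_mul, Finset.mul_sum, single_mul_single, one_mul, mul_one]
        refine Finset.sum_bij' (fun s _ => (n : G)⁻¹ * s * n) (fun s _ => (n : G) * s * (n : G)⁻¹)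
          (fun s hs => by simpa using hSinv n⁻¹ s hs) (fun s hs => hSinv n s hs)
          (fun s _ => by group) (fun s _ => by group) fun s _ => by
            congr 1
            group
    rw [mul_smul_comm, smul_mul_assoc, mul_smul_comm, mul_assoc, hK, ← mul_assoc (incl k N e),
      ← mul_assoc, hEc (incl k N b)]

omit hrep in
/-- An element of the corner in the trivial coset commuting with `k N`, of augmentation one, comes
from a unipotent central unit. -/
theorem exists_unit {z : MonoidAlgebra k G} (hd : Deg k N (1 : G ⧸ N) z)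
    (hez : incl k N e * z = z) (hcomm : ∀ b, z * incl k N b = incl k N b * z)
    (haug : aug k G z = 1) :
    ∃ u : (Subalgebra.center k (MonoidAlgebra k N))ˣ,
      IsNilpotent ((u : Subalgebra.center k (MonoidAlgebra k N)) - 1) ∧
      incl k N ((u : Subalgebra.center k (MonoidAlgebra k N)) : MonoidAlgebra k N) * incl k N e = z ∧
      (1 - e) * ((u : Subalgebra.center k (MonoidAlgebra k N)) : MonoidAlgebra k N) = 1 - e := by
  obtain ⟨a, ha⟩ := hd.exists_incl
  have hi := incl_injective (k := k) N
  have hea : e * a = a := hi (by rw [map_mul, ha, hez])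
  have haZ : a ∈ Subalgebra.center k (MonoidAlgebra k N) :=
    Subalgebra.mem_center_iff.2 fun b => hi (by rw [map_mul, map_mul, ha, hcomm])
  have hae : a * e = a := by rw [Subalgebra.mem_center_iff.1 hec a]; exact hea
  have huZ : a + (1 - e) ∈ Subalgebra.center k (MonoidAlgebra k N) :=
    add_mem haZ (sub_mem (one_mem _) hec)
  have hfix : (1 - e) * (a + (1 - e)) = 1 - e := by
    rw [mul_add, sub_mul 1 e a, one_mul, hea, sub_self, zero_add, he.one_sub.eq]
  have hn : IsNilpotent ((⟨_, huZ⟩ : Subalgebra.center k (MonoidAlgebra k N)) - 1) := by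
    obtain ⟨L, hL⟩ := hloc a haZ (by rw [← aug_incl, ha, haug])
    refine ⟨L, Subtype.ext ?_⟩
    rw [SubmonoidClass.coe_pow, AddSubgroupClass.coe_sub, OneMemClass.coe_one,
      show a + (1 - e) - 1 = e * (a - 1) by rw [mul_sub, hea, mul_one]; abel, hL]
    rfl
  obtain ⟨u, hu⟩ : IsUnit (⟨_, huZ⟩ : Subalgebra.center k (MonoidAlgebra k N)) := by
    have := hn.isUnit_one_add
    rwa [add_sub_cancel] at this
  refine ⟨u, hu ▸ hn, ?_, by rw [hu]; exact hfix⟩
  rw [hu, ← map_mul, add_mul, hae, sub_mul, one_mul, he.eq, sub_self, add_zero, ha]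

variable (hidx : ¬ p ∣ Nat.card (G ⧸ N))

include hidx

/-- Averaging the normalised orbit sums gives a central idempotent. -/
theorem exists_central_idempotent :
    ∃ (f : MonoidAlgebra k G), IsIdempotentElem f ∧ aug k G f = 1 ∧
      f ∈ Subalgebra.center k (MonoidAlgebra k G) ∧
      ∀ g : G, ∃ b, single g 1 * f = incl k N (e * b) * f := by
  classical
  set φ := incl k N
  set E := φ e with hE
  let Z := Subalgebra.center k (MonoidAlgebra k N)
  have hEc := Subalgebra.mem_center_iff.1 (incl_mem_center N hec he he1 hloc)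
  obtain ⟨V, hV⟩ := exists_orbitSums N hec he he1 hloc hrep
  choose hVE hVaug hVdeg hVφ using hV
  have hVE' : ∀ x, V x * E = V x := fun x => by rw [hEc, hVE]
  let ψ : Zˣ →* MonoidAlgebra k G :=
    φ.toRingHom.toMonoidHom.comp (Z.val.toRingHom.toMonoidHom.comp (Units.coeHom Z))
  have hψ : ∀ u : Zˣ, ψ u = φ ((u : Z) : MonoidAlgebra k N) := fun _ => rfl
  have hψV : ∀ u x, V x * ψ u = ψ u * V x := fun u x => hVφ x _
  have hψ1 : ∀ u : Zˣ, ψ u * ψ u⁻¹ = 1 := fun u => by rw [← map_mul, mul_inv_cancel, map_one]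
  have hwrap : ∀ z, Deg k N (1 : G ⧸ N) z → E * z = z → (∀ b, z * φ b = φ b * z) →
      aug k G z = 1 → ∃ u : Zˣ, IsNilpotent ((u : Z) - 1) ∧ ψ u * E = z ∧
        (1 - e) * ((u : Z) : MonoidAlgebra k N) = 1 - e :=
    fun z h1 h2 h3 h4 => exists_unit N hec he he1 hloc h1 h2 h3 h4
  have hUex : ∀ x, ∃ U : Zˣ, IsNilpotent ((U : Z) - 1) ∧ ψ U * E = V x * V x⁻¹ ∧
      (1 - e) * ((U : Z) : MonoidAlgebra k N) = 1 - e := fun x => by
    refine hwrap _ ?_ (by rw [← mul_assoc, hVE]) (fun b => ?_) (by rw [map_mul, hVaug, hVaug, mul_one])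
    · have := (hVdeg x).mul N (hVdeg x⁻¹)
      rwa [mul_inv_cancel] at this
    · rw [mul_assoc, hVφ, ← mul_assoc, hVφ, mul_assoc]
  choose U hUnil hU hUfix using hUex
  have hαex : ∀ x y, ∃ a : Zˣ, IsNilpotent ((a : Z) - 1) ∧ ψ a * V (x * y) = V x * V y ∧
      (1 - e) * ((a : Z) : MonoidAlgebra k N) = 1 - e := fun x y => by
    obtain ⟨A, hAn, hA, hAf⟩ := hwrap (V x * V y * V (x * y)⁻¹) (by
        have := ((hVdeg x).mul N (hVdeg y)).mul N (hVdeg (x * y)⁻¹)
        rwa [mul_inv_cancel] at this)
      (by rw [← mul_assoc, ← mul_assoc, hVE])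
      (fun b => by rw [mul_assoc, hVφ, ← mul_assoc, mul_assoc (V x), hVφ, ← mul_assoc, hVφ,
        mul_assoc, mul_assoc, ← mul_assoc (V x)])
      (by rw [map_mul, map_mul, hVaug, hVaug, hVaug, mul_one, mul_one])
    set U' := U (x * y)⁻¹
    have hU' : V (x * y)⁻¹ * V (x * y) = ψ U' * E := by rw [hU, inv_inv]
    refine ⟨A * U'⁻¹, ?_, ?_, ?_⟩
    · rw [Units.val_mul]
      have h1 : IsNilpotent (((U'⁻¹ : Zˣ) : Z) - 1) := by
        rw [show ((U'⁻¹ : Zˣ) : Z) - 1 = -(((U'⁻¹ : Zˣ) : Z) * ((U' : Z) - 1)) from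
          Subtype.ext (by
            push_cast
            rw [mul_sub, mul_one, ← MulMemClass.coe_mul, Units.inv_mul, OneMemClass.coe_one, neg_sub])]
        exact ((Commute.all _ _).isNilpotent_mul_left (hUnil _)).neg
      rw [show (A : Z) * ((U'⁻¹ : Zˣ) : Z) - 1 =
        ((A : Z) - 1) * ((U'⁻¹ : Zˣ) : Z) + (((U'⁻¹ : Zˣ) : Z) - 1) from
          Subtype.ext (by push_cast; rw [sub_mul, one_mul]; abel)]
      exact (Commute.all _ _).isNilpotent_add ((Commute.all _ _).isNilpotent_mul_right hAn) h1
    · calc ψ (A * U'⁻¹) * V (x * y) = ψ U'⁻¹ * (ψ A * E * V (x * y)) := by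
            rw [mul_comm A, map_mul, mul_assoc, mul_assoc (ψ A), hVE]
        _ = ψ U'⁻¹ * (V x * V y * (ψ U' * E)) := by rw [hA, ← hU', mul_assoc]
        _ = ψ U'⁻¹ * ψ U' * (V x * V y * E) := by
            rw [← mul_assoc (V x * V y), mul_assoc (V x), hψV, ← mul_assoc (V x), hψV]
            simp only [mul_assoc]
        _ = V x * V y := by
            rw [← map_mul, inv_mul_cancel, map_one, one_mul, mul_assoc, hVE']
    · have hf : (1 - e) * ((U'⁻¹ : Zˣ) : Z) = 1 - e := by
        conv_lhs => rw [← hUfix (x * y)⁻¹, mul_assoc, ← MulMemClass.coe_mul, Units.mul_inv,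
          OneMemClass.coe_one, mul_one]
      rw [Units.val_mul, MulMemClass.coe_mul, ← mul_assoc, hAf, hf]
  choose α hαnil hαrel hαfix using hαex
  -- unipotent units form a group of exponent a power of `p`
  haveI : CharP Z p := charP_of_injective_algebraMap (algebraMap k Z).injective p
  obtain ⟨L, hL⟩ : ∃ L : ℕ, ∀ x y, α x y ^ p ^ L = 1 := by
    choose n hn using hαnil
    refine ⟨∑ x, ∑ y, n x y, fun x y => Units.ext ?_⟩
    rw [Units.val_pow_eq_pow_val, Units.val_one]
    have hle : n x y ≤ p ^ ∑ x', ∑ y', n x' y' :=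
      le_trans (le_trans (Finset.single_le_sum (f := fun y' => n x y') (fun _ _ => Nat.zero_le _)
        (Finset.mem_univ y)) (Finset.single_le_sum (f := fun x' => ∑ y', n x' y')
          (fun _ _ => Nat.zero_le _) (Finset.mem_univ x))) (Nat.lt_pow_self (Fact.out : p.Prime).one_lt).le
    have h := congrArg Subtype.val (pow_eq_zero_of_le hle (hn x y))
    push_cast at h
    haveI : CharP (MonoidAlgebra k N) p :=
      charP_of_injective_algebraMap (algebraMap k (MonoidAlgebra k N)).injective p
    rw [sub_pow_char_pow_of_commute p _ (Commute.one_right _), one_pow, sub_eq_zero] at h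
    exact Subtype.ext (by push_cast; exact h)
  set n := Nat.card (G ⧸ N) with hn
  obtain ⟨m, hm⟩ : ∃ m, n * m ≡ 1 [MOD p ^ L] := by
    rcases Nat.eq_zero_or_pos L with h | h
    · exact ⟨0, by subst h; simp [Nat.ModEq, Nat.mod_one]⟩
    · obtain ⟨m, hm⟩ := Nat.exists_mul_mod_eq_one_of_coprime
        (Nat.Coprime.pow_right L ((Fact.out : p.Prime).coprime_iff_not_dvd.2 hidx).symm)
        (Nat.one_lt_pow h.ne' (Fact.out : p.Prime).one_lt)
      exact ⟨m, by rw [Nat.ModEq, hn, hm.2, Nat.mod_eq_of_lt (Nat.one_lt_pow h.ne' (Fact.out : p.Prime).one_lt)]⟩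
  -- cancellation on the right of `V x`
  have hcancel : ∀ (a b : Zˣ) x, (1 - e) * ((a : Z) : MonoidAlgebra k N) = 1 - e →
      (1 - e) * ((b : Z) : MonoidAlgebra k N) = 1 - e → ψ a * V x = ψ b * V x → a = b := by
    intro a b x ha hb h
    have h' := congrArg (· * V x⁻¹) h
    simp only [mul_assoc, ← hU] at h'
    simp only [← mul_assoc, ← map_mul] at h'
    have h'' : ((a * U x : Zˣ) : Z).1 * e = ((b * U x : Zˣ) : Z).1 * e :=
      incl_injective (k := k) N (by rw [map_mul, map_mul]; exact h')
    simp only [Units.val_mul, MulMemClass.coe_mul] at h''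
    rw [mul_assoc, mul_assoc, ← Subalgebra.mem_center_iff.1 (U x : Z).2 e, ← mul_assoc,
      ← mul_assoc] at h''
    have hu : IsUnit (((U x : Z)) : MonoidAlgebra k N) := (U x).isUnit.map Z.val
    have h3 := hu.mul_left_injective h''
    refine Units.ext (Subtype.ext ?_)
    calc ((a : Z) : MonoidAlgebra k N)
        = ((a : Z) : MonoidAlgebra k N) * e + (1 - e) * ((a : Z) : MonoidAlgebra k N) := by
          rw [sub_mul, one_mul, Subalgebra.mem_center_iff.1 hec, add_sub_cancel]
      _ = ((b : Z) : MonoidAlgebra k N) * e + (1 - e) * ((b : Z) : MonoidAlgebra k N) := by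
          rw [h3, ha, hb]
      _ = _ := by rw [sub_mul, one_mul, Subalgebra.mem_center_iff.1 hec, add_sub_cancel]
  have hcoc : ∀ x y z, α x y * α (x * y) z = α y z * α x (y * z) := fun x y z => by
    refine hcancel _ _ (x * y * z) ?_ ?_ ?_
    · rw [Units.val_mul, MulMemClass.coe_mul, ← mul_assoc, hαfix, hαfix]
    · rw [Units.val_mul, MulMemClass.coe_mul, ← mul_assoc, hαfix, hαfix]
    · calc ψ (α x y * α (x * y) z) * V (x * y * z) = ψ (α x y) * (V (x * y) * V z) := by
            rw [map_mul, mul_assoc, show ψ (α (x * y) z) * V (x * y * z) = _ from hαrel (x * y) z]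
        _ = V x * V y * V z := by rw [← mul_assoc, show ψ (α x y) * V (x * y) = _ from hαrel x y]
        _ = V x * (ψ (α y z) * V (y * z)) := by
            rw [mul_assoc, show ψ (α y z) * V (y * z) = _ from hαrel y z]
        _ = ψ (α y z) * (ψ (α x (y * z)) * V (x * (y * z))) := by
            rw [← mul_assoc, hψV, mul_assoc,
              show ψ (α x (y * z)) * V (x * (y * z)) = _ from hαrel x (y * z)]
        _ = _ := by rw [← mul_assoc, ← map_mul, mul_assoc x]
  let w : (G ⧸ N) → Zˣ := fun x => (∏ y, α x y) ^ m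
  have hw : ∀ x y, w x * w y = w (x * y) * α x y := fun x y => by
    have h : ∏ z, (α x y * α (x * y) z) = ∏ z, (α y z * α x (y * z)) :=
      Finset.prod_congr rfl fun z _ => hcoc x y z
    rw [Finset.prod_mul_distrib, Finset.prod_mul_distrib, Finset.prod_const, Finset.card_univ,
      ← Nat.card_eq_fintype_card, show ∏ z, α x (y * z) = ∏ z, α x z from Equiv.prod_comp (Equiv.mulLeft y) (α x)] at h
    have h2 := congrArg (· ^ m) h
    simp only [mul_pow, ← pow_mul] at h2
    rw [← hn, pow_eq_pow_mod (n * m) (hL x y), hm, ← pow_eq_pow_mod 1 (hL x y), pow_one] at h2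
    show (∏ z, α x z) ^ m * (∏ z, α y z) ^ m = _
    rw [mul_comm, ← h2, mul_comm]
  have hwaug : ∀ x, aug k G (ψ (w x)⁻¹) = 1 := fun x => by
    let χ : Zˣ →* k := (aug k G).toRingHom.toMonoidHom.comp ψ
    have h1 : χ (w x) = 1 := by
      show χ ((∏ y, α x y) ^ m) = 1
      rw [map_pow, map_prod, Finset.prod_eq_one (fun y _ => ?_), one_pow]
      have h := (hαnil x y).map ((aug k N).comp Z.val)
      rw [map_sub, map_one] at h
      have h0 := h.eq_zero
      rw [sub_eq_zero] at h0
      show aug k G (φ _) = 1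
      rw [aug_incl]
      exact h0
    have h2 := map_mul χ (w x) (w x)⁻¹
    rw [mul_inv_cancel, map_one, h1, one_mul] at h2
    exact h2.symm
  let V' : (G ⧸ N) → MonoidAlgebra k G := fun x => ψ (w x)⁻¹ * V x
  have hV' : ∀ x y, V' x * V' y = V' (x * y) := fun x y => by
    simp only [V']
    rw [mul_assoc, ← mul_assoc (V x), hψV, mul_assoc, ← hαrel, ← mul_assoc, ← mul_assoc,
      ← map_mul, ← map_mul,
      show (w x)⁻¹ * (w y)⁻¹ * α x y = (w (x * y))⁻¹ by
        rw [← mul_inv, hw, mul_inv, mul_assoc, inv_mul_cancel, mul_one]]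
  have hV'φ : ∀ x b, V' x * φ b = φ b * V' x := fun x b => by
    simp only [V', hψ]
    rw [mul_assoc, hVφ, ← mul_assoc, ← map_mul, ← mul_assoc, ← map_mul,
      (Subalgebra.mem_center_iff.1 (((w x)⁻¹ : Zˣ) : Z).2 b)]
  have hV'E : ∀ x, V' x * E = V' x := fun x => by simp only [V']; rw [mul_assoc, hVE']
  have hV'1 : V' 1 = E := by
    obtain ⟨u, -, hu, -⟩ := hwrap (V 1) (hVdeg 1) (hVE 1) (hVφ 1) (hVaug 1)
    have hs : V' 1 = ψ ((w 1)⁻¹ * u) * E := by
      show ψ (w 1)⁻¹ * V 1 = _
      rw [map_mul, mul_assoc, hu]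
    have h := hV' 1 1
    rw [mul_one] at h
    have h2 : ψ ((w 1)⁻¹ * u) * (ψ ((w 1)⁻¹ * u) * E) = ψ ((w 1)⁻¹ * u) * E := by
      conv_rhs => rw [← hs, ← h, hs]
      rw [← mul_assoc _ _ E, ← mul_assoc _ (ψ _) E, mul_assoc (ψ _) E (ψ _), ← hEc (ψ _),
        ← mul_assoc, mul_assoc _ E E, show E * E = E by rw [hE, ← map_mul, he.eq]]
    rw [hs]
    exact ((Group.isUnit ((w 1)⁻¹ * u)).map ψ).mul_right_injective h2
  have hn0 : (n : k) ≠ 0 := fun h => hidx ((CharP.cast_eq_zero_iff k p _).1 h)
  let f : MonoidAlgebra k G := (n : k)⁻¹ • ∑ x, V' x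
  have hfV : ∀ y, f * V' y = f ∧ V' y * f = f := fun y => by
    simp only [f, smul_mul_assoc, mul_smul_comm, Finset.sum_mul, Finset.mul_sum, hV']
    exact ⟨congrArg _ (Equiv.sum_comp (Equiv.mulRight y) V'),
      congrArg _ (Equiv.sum_comp (Equiv.mulLeft y) V')⟩
  have hff : f * f = f := by
    nth_rw 2 [show f = (n : k)⁻¹ • ∑ x, V' x from rfl]
    rw [mul_smul_comm, Finset.mul_sum, Finset.sum_congr rfl fun x _ => (hfV x).1, Finset.sum_const,
      Finset.card_univ, ← Nat.card_eq_fintype_card, ← hn, ← Nat.cast_smul_eq_nsmul k, smul_smul,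
      inv_mul_cancel₀ hn0, one_smul]
  have hfφ : ∀ b, f * φ b = φ b * f := fun b => by
    simp only [f, smul_mul_assoc, mul_smul_comm, Finset.sum_mul, Finset.mul_sum, hV'φ]
  have hfE : f * E = f ∧ E * f = f := by
    have : f * E = f := by simp only [f, smul_mul_assoc, Finset.sum_mul, hV'E]
    exact ⟨this, by rw [← hEc, this]⟩
  have hdec : ∀ g : G, ∃ b, E * single g 1 = φ b * V' (g : (G ⧸ N)) := fun g => by
    set x : (G ⧸ N) := (g : G ⧸ N)
    have hd : Deg k N 1 (single g (1 : k) * V x⁻¹) := by
      have := (show Deg k N x (single g (1 : k)) from ⟨g, rfl, 1, by rw [map_one, one_mul]⟩).mul N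
        (hVdeg x⁻¹)
      rwa [mul_inv_cancel] at this
    obtain ⟨q, hq⟩ := hd.exists_incl
    refine ⟨e * (twist k N g (((w x⁻¹)⁻¹ : Zˣ) : Z) * q), ?_⟩
    calc E * single g 1 = E * single g 1 * (V' x⁻¹ * V' x) := by
          rw [hV', inv_mul_cancel, hV'1, mul_assoc, hEc (single g 1), ← mul_assoc,
            show E * E = E by rw [hE, ← map_mul, he.eq]]
      _ = E * (φ (twist k N g (((w x⁻¹)⁻¹ : Zˣ) : Z)) * (single g 1 * V x⁻¹)) * V' x := by
          rw [← mul_assoc (φ _) (single g 1), ← single_mul_incl]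
          simp only [V', hψ, mul_assoc]
          rfl
      _ = _ := by
          rw [show single g 1 * V x⁻¹ = φ q from hq.symm, hE, ← map_mul, ← map_mul]
  refine ⟨f, hff, ?_, Subalgebra.mem_center_iff.2 fun b => ?_, fun g => ?_⟩
  · simp only [f, map_smul, map_sum, V', map_mul, hwaug, hVaug, one_mul, Finset.sum_const,
      Finset.card_univ]
    rw [nsmul_eq_mul, mul_one, ← Nat.card_eq_fintype_card, smul_eq_mul, inv_mul_cancel₀ hn0]
  · induction b using MonoidAlgebra.induction_linear with
    | zero => simp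
    | add u v hu hv => rw [add_mul, mul_add, hu, hv]
    | single g s =>
      obtain ⟨b, hb⟩ := hdec g
      rw [show single g s = s • single g (1 : k) by rw [MonoidAlgebra.smul_single', mul_one],
        smul_mul_assoc s, mul_smul_comm s]
      congr 1
      calc single g 1 * f = E * single g 1 * f := by rw [← hEc, mul_assoc, hfE.2]
        _ = φ b * f := by rw [hb, mul_assoc, (hfV _).2]
        _ = f * (φ b * V' (g : (G ⧸ N))) := by rw [← mul_assoc, hfφ, mul_assoc, (hfV _).1]
        _ = f * single g 1 := by rw [← hb, ← mul_assoc, hfE.1]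
  · obtain ⟨b, hb⟩ := hdec g
    refine ⟨b, ?_⟩
    calc single g 1 * f = E * single g 1 * f := by rw [← hEc, mul_assoc, hfE.2]
      _ = φ b * f := by rw [hb, mul_assoc, (hfV _).2]
      _ = φ (e * b) * f := by rw [map_mul, ← hE, ← hEc, mul_assoc, hfE.2]

variable {eG : MonoidAlgebra k G} (hGc : eG ∈ Subalgebra.center k (MonoidAlgebra k G))
  (hG : IsIdempotentElem eG)
  (hGloc : ∀ z ∈ Subalgebra.center k (MonoidAlgebra k G), aug k G z = 1 →
    IsNilpotent (eG * (z - 1)))

include hGc hG hGloc

/-- The augmentation block of `k G` is spanned by the image of `e k N`. -/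
theorem exists_eq_mul_incl (y : MonoidAlgebra k G) :
    ∃ a : MonoidAlgebra k N, eG * y = eG * incl k N (e * a) := by
  obtain ⟨f, hff, hf1, hfc, hdec⟩ := exists_central_idempotent N hec he he1 hloc hrep hidx
  have hcomm := Subalgebra.mem_center_iff.1 hfc
  have hGf : eG * f = eG := mul_eq_left_of_nilpotent hG hff (hcomm eG) (hGloc _ hfc hf1)
  induction y using MonoidAlgebra.induction_linear with
  | zero => exact ⟨0, by simp⟩
  | add u v hu hv =>
    obtain ⟨a, ha⟩ := hu
    obtain ⟨a', ha'⟩ := hv
    exact ⟨a + a', by rw [mul_add, ha, ha', mul_add e, map_add, mul_add]⟩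
  | single g s =>
    obtain ⟨b, hb⟩ := hdec g
    refine ⟨s • b, ?_⟩
    rw [show single g s = s • single g (1 : k) by rw [MonoidAlgebra.smul_single', mul_one],
      mul_smul_comm s eG, mul_smul_comm s e, map_smul, mul_smul_comm s eG]
    congr 1
    calc eG * single g 1 = eG * f * single g 1 := by rw [hGf]
      _ = eG * (incl k N (e * b) * f) := by rw [mul_assoc, ← hcomm, hb]
      _ = eG * incl k N (e * b) := by rw [hcomm, ← mul_assoc, hGf]

/-- The rank of the augmentation block of `k G` is at most that of `k N`. -/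
theorem finrank_le :
    Module.finrank k (LinearMap.range (LinearMap.mulLeft k eG)) ≤
      Module.finrank k (LinearMap.range (LinearMap.mulLeft k e)) := by
  haveI : Module.Finite k (MonoidAlgebra k N) :=
    Module.Finite.equiv (MonoidAlgebra.coeffLinearEquiv k).symm
  refine le_trans (Submodule.finrank_mono (t := Submodule.map
    ((LinearMap.mulLeft k eG).comp (incl k N).toLinearMap)
    (LinearMap.range (LinearMap.mulLeft k e))) ?_) (Submodule.finrank_map_le _ _)
  rintro _ ⟨y, rfl⟩
  obtain ⟨a, ha⟩ := exists_eq_mul_incl N hec he he1 hloc hrep hidx hGc hG hGloc y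
  exact ⟨e * a, ⟨a, rfl⟩, ha.symm⟩

end Cfsg.Agent.Lib.Contrib.Supplement
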