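import Mathlib
import Cfsg.Agent.Lib.Blocks.CoverDegreeSums
import Cfsg.Agent.Lib.Blocks.ResidueAlgebra
import Cfsg.Agent.Lib.Contrib.BlockTwo
import Cfsg.Agent.Lib.Contrib.Supplement

/-!
# The principal block of a normal subgroup supplemented by a centralizer of a Sylow subgroup
-/

set_option autoImplicit false
set_option linter.unusedSectionVars false

namespace Cfsg.Agent.Lib.Contrib

open Cfsg MonoidAlgebra
open Cfsg.Agent.Lib
open Cfsg.Agent.Lib.Blocks
open Cfsg.Agent.Lib.Clifford (resFun)
open scoped ComplexConjugate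

universe u

attribute [local instance] Classical.propDecidable

variable {p : ℕ} [Fact p.Prime] {M : Ideal AlgInt} [M.IsPrime]

section General

variable {G : Type u} [Group G] [Fintype G]

/-- The principal block is a block. -/
theorem isPBlock_principal : IsPBlock M (principalBlock M G) :=
  isPBlock_blockOf (Chars.trivialIrr G)

theorem trivialIrr_mem : Chars.trivialIrr G ∈ principalBlock M G :=
  mem_blockOf_self (Chars.trivialIrr G)

/-- The augmentation of a reduced central element is the reduced trivial central character. -/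
theorem aug_toF_eq (z : RCenter M G) :
    Supplement.aug (Residue M) G (toF M G (z : MonoidAlgebra (localRing M) G)) =
      omegaBar M (Chars.trivialIrr G) z := by
  have h : omegaR M (Chars.trivialIrr G) z = ∑ g, (z : MonoidAlgebra (localRing M) G).coeff g := by
    refine Subtype.ext ?_
    rw [coe_omegaR, omega_eq_sum]
    simp
  rw [omegaBar_apply, h, map_sum]
  generalize (z : MonoidAlgebra (localRing M) G) = w
  induction w using MonoidAlgebra.induction_linear with
  | zero => simp
  | add x y hx hy => simp [map_add, hx, hy, Finset.sum_add_distrib]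
  | single g r => simp [Finsupp.single_apply, apply_ite (residue M)]

theorem aug_blockIdem :
    Supplement.aug (Residue M) G (toF M G ((blockIdem M
      (isPBlock_principal (M := M) (G := G)) : RCenter M G) : MonoidAlgebra (localRing M) G)) = 1 := by
  rw [aug_toF_eq, omegaBar_blockIdem, if_pos]
  exact trivialIrr_mem

/-- The block algebra modulo `M` has dimension the sum of the squared degrees. -/
theorem finrank_block {B : Set (IrrCharacter G)} (hB : IsPBlock M B) :
    Module.finrank (Residue M) (LinearMap.range (LinearMap.mulLeft (Residue M)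
      (toF M G ((blockIdem M hB : RCenter M G) : MonoidAlgebra (localRing M) G)))) =
      ∑ χ ∈ B.toFinset, charDegree (χ : G → ℂ) ^ 2 := by
  set eR := ((blockIdem M hB : RCenter M G) : MonoidAlgebra (localRing M) G) with heR
  have heR2 : eR * eR = eR := congrArg Subtype.val (blockIdem_mul_self hB)
  haveI : CharZero (localRing M) :=
    ⟨fun m n h => by exact_mod_cast congrArg (fun x : localRing M => (x : ℂ)) h⟩
  have h := congrArg (fun x : localRing M => (x : ℂ))
    (trace_eq_rank_reduction (residue M) (regMatrix_mul_self heR2))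
  have hmap : (regMatrix eR).map (residue M) = regMatrix (toF M G eR) := by
    ext g g'
    simp [regMatrix]
  rw [hmap, ← finrank_range_mulLeft, trace_regMatrix] at h
  simp only [Subring.coe_mul, Subring.coe_natCast] at h
  rw [coe_coeff_blockIdem hB, card_mul_blockCoeff_one] at h
  have h2 : ((∑ χ ∈ B.toFinset, charDegree (χ : G → ℂ) ^ 2 : ℕ) : ℂ) =
      (Module.finrank (Residue M) (LinearMap.range (LinearMap.mulLeft (Residue M)
        (toF M G eR))) : ℂ) := by
    rw [← h]
    push_cast
    exact Finset.sum_congr rfl fun χ _ => by rw [(exists_degree_eq χ).1]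
  exact_mod_cast h2.symm

/-- Central elements of augmentation one are unipotent on the principal block. -/
theorem isNilpotent_principal_mul_sub (z : MonoidAlgebra (Residue M) G)
    (hz : z ∈ Subalgebra.center (Residue M) (MonoidAlgebra (Residue M) G))
    (h1 : Supplement.aug (Residue M) G z = 1) :
    IsNilpotent (toF M G ((blockIdem M
      (isPBlock_principal (M := M) (G := G)) : RCenter M G) : MonoidAlgebra (localRing M) G) *
      (z - 1)) := by
  have ha : z ∈ ResidueAlgebra.fixedF M (MonoidHom.id G).range :=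
    ResidueAlgebra.mem_fixedF_iff.2 fun s _ g => mem_center_iff.1 hz g s
  have hs : ResidueAlgebra.SuppIn (MonoidHom.id G).range z := fun x _ => ⟨x, rfl⟩
  have hinj : Function.Injective (MonoidHom.id G) := fun _ _ h => h
  have h := ResidueAlgebra.isNilpotent_block_mul_sub (M := M) hinj
    isPBlock_principal trivialIrr_mem ha hs
  have hlift : toF M G (ResidueAlgebra.liftR (MonoidHom.id G) z ha : MonoidAlgebra (localRing M) G)
      = z := by
    ext x
    rw [coeff_mapRingHom, ResidueAlgebra.residue_coeff_liftR]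
    rfl
  rw [← aug_toF_eq (M := M), hlift, h1, one_smul] at h
  convert h using 3
  ext x
  exact congrArg Subtype.val (BrauerMap.coeff_emb_apply (M := M) hinj _ x).symm

end General

section Restrict

variable {G : Type u} [Group G] [Fintype G] {N : Subgroup G} [hN : N.Normal] [Fintype N]

/-- When the two principal blocks have equal sums of squared degrees, restriction is a bijection. -/
theorem restriction_bijective_of_le (hM : IsPModular p M)
    (hle : (∑ χ ∈ (principalBlock M G).toFinset, charDegree (χ : G → ℂ) ^ 2) ≤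
      ∑ θ ∈ (principalBlock M N).toFinset, charDegree (θ : N → ℂ) ^ 2) :
    (∀ χ ∈ principalBlock M G, ∃ θ ∈ principalBlock M N,
        ∀ n : N, (χ : G → ℂ) n = (θ : N → ℂ) n) ∧
      ∀ θ ∈ principalBlock M N, ∃! χ : IrrCharacter G, χ ∈ principalBlock M G ∧
        ∀ n : N, (χ : G → ℂ) n = (θ : N → ℂ) n := by
  have hB : IsPBlock M (principalBlock M G) := isPBlock_blockOf (Chars.trivialIrr G)
  have hb : IsPBlock M (principalBlock M N) := isPBlock_blockOf (Chars.trivialIrr N)
  choose m hm using fun (χ : IrrCharacter G) (θ : IrrCharacter N) => Clifford.classInner_irr_nat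
    (Chars.isCharacter_restrict N (Chars.irr_isCharacter χ)) θ.2
  have hm' : ∀ χ θ, classInner (resFun N ((χ : IrrCharacter G) : G → ℂ))
      ((θ : IrrCharacter N) : N → ℂ) = (m χ θ : ℂ) := hm
  have htriv : classInner (resFun N (Chars.trivialIrr G : G → ℂ))
      (Chars.trivialIrr N : N → ℂ) ≠ 0 := by
    have h : resFun N (Chars.trivialIrr G : G → ℂ) = fun _ => 1 := funext fun n => rfl
    rw [h]
    simp [classInner, Nat.card_eq_fintype_card, Fintype.card_ne_zero]
  have hout : ∀ χ ∈ principalBlock M G, ∀ θ, θ ∉ principalBlock M N → m χ θ = 0 := by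
    intro χ hχ θ hθ
    by_contra h0
    refine hθ ?_
    have h1 : classInner (resFun N (χ : G → ℂ)) (θ : N → ℂ) ≠ 0 := by
      rw [hm']; exact_mod_cast h0
    obtain ⟨g, θ', hθ', hg⟩ := Blocks.Covering.constituent_mem_conjClosure hb
      (sameBlock_of_mem hB (mem_blockOf_self (Chars.trivialIrr G)) hχ)
      (mem_blockOf_self (Chars.trivialIrr N)) htriv h1
    have h2 := Blocks.Covering.sameBlock_conjFun g
      (sameBlock_of_mem hb (mem_blockOf_self (Chars.trivialIrr N)) hθ')
    have h3 : Clifford.conjFun g (Chars.trivialIrr N : N → ℂ) = (Chars.trivialIrr N : N → ℂ) :=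
      funext fun n => rfl
    rw [hg, h3] at h2
    exact mem_of_sameBlock hb (mem_blockOf_self (Chars.trivialIrr N)) h2
  set B := (principalBlock M G).toFinset with hBdef
  set b := (principalBlock M N).toFinset with hbdef
  have hdec : ∀ χ : IrrCharacter G, ∀ n : N, (χ : G → ℂ) n =
      ∑ θ : IrrCharacter N, (m χ θ : ℂ) * (θ : N → ℂ) n := fun χ n => by
    have h1 := congrFun (Chars.isCharacter_eq_sum_classInner
      (φ := resFun N (χ : G → ℂ)) (Chars.isCharacter_restrict N (Chars.irr_isCharacter χ))) n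
    simpa only [Clifford.resFun_apply, Finset.sum_apply, Pi.smul_apply, smul_eq_mul, hm'] using h1
  have hA : ∀ χ ∈ B, charDegree (χ : G → ℂ) = ∑ θ ∈ b, m χ θ * charDegree (θ : N → ℂ) := by
    intro χ hχ
    have h1 := hdec χ 1
    simp only [OneMemClass.coe_one, (Chars.charDegree_spec _).2] at h1
    have h2 : charDegree (χ : G → ℂ) = ∑ θ : IrrCharacter N, m χ θ * charDegree (θ : N → ℂ) := by
      exact_mod_cast h1
    rw [h2]
    refine (Finset.sum_subset (Finset.subset_univ b) fun θ _ hθ => ?_).symm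
    rw [hout χ (Set.mem_toFinset.1 hχ) θ (fun h => hθ (Set.mem_toFinset.2 h)), zero_mul]
  have hposN : ∀ θ : IrrCharacter N, 0 < charDegree (θ : N → ℂ) := fun θ => by
    refine Nat.pos_of_ne_zero fun h => Chars.irr_apply_one_ne_zero θ ?_
    rw [(Chars.charDegree_spec θ).2, h, Nat.cast_zero]
  set S : IrrCharacter N → ℕ := fun θ => ∑ χ ∈ B, m χ θ * charDegree (χ : G → ℂ) with hS
  have hge : ∀ χ ∈ B, ∀ θ ∈ b, m χ θ * charDegree (θ : N → ℂ) ≤ charDegree (χ : G → ℂ) :=
    fun χ hχ θ hθ => by
      rw [hA χ hχ]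
      exact Finset.single_le_sum (f := fun θ => m χ θ * charDegree (θ : N → ℂ))
        (fun _ _ => Nat.zero_le _) hθ
  have hex : ∀ θ ∈ b, ∃ χ ∈ B, 1 ≤ m χ θ := by
    intro θ hθ
    obtain ⟨χ, hχ, hne⟩ := BlockUnion.below_of_covers hM hB hb
      (mem_blockOf_self (Chars.trivialIrr N))
      ⟨Chars.trivialIrr G, mem_blockOf_self (Chars.trivialIrr G), htriv⟩ (Set.mem_toFinset.1 hθ)
    exact ⟨χ, Set.mem_toFinset.2 hχ,
      Nat.one_le_iff_ne_zero.2 fun h => hne (by rw [hm', h, Nat.cast_zero])⟩
  have hlo : ∀ θ ∈ b, charDegree (θ : N → ℂ) ≤ S θ := by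
    intro θ hθ
    obtain ⟨χ, hχB, hpos⟩ := hex θ hθ
    exact le_trans (((Nat.le_mul_of_pos_left _ hpos).trans (hge χ hχB θ hθ)).trans
      (Nat.le_mul_of_pos_left _ hpos))
      (Finset.single_le_sum (f := fun χ => m χ θ * charDegree (χ : G → ℂ))
        (fun _ _ => Nat.zero_le _) hχB)
  have hkey : ∑ χ ∈ B, charDegree (χ : G → ℂ) ^ 2 = ∑ θ ∈ b, S θ * charDegree (θ : N → ℂ) := by
    rw [Finset.sum_congr rfl (g := fun χ => ∑ θ ∈ b,
      m χ θ * charDegree (χ : G → ℂ) * charDegree (θ : N → ℂ)) fun χ hχ => ?_, Finset.sum_comm]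
    · exact Finset.sum_congr rfl fun θ _ => (Finset.sum_mul _ _ _).symm
    · rw [sq]
      nth_rw 2 [hA χ hχ]
      rw [Finset.mul_sum]
      exact Finset.sum_congr rfl fun θ _ => by ring
  have hterm : ∀ θ ∈ b, charDegree (θ : N → ℂ) ^ 2 ≤ S θ * charDegree (θ : N → ℂ) := fun θ hθ => by
    rw [sq]
    exact Nat.mul_le_mul_right _ (hlo θ hθ)
  rw [hkey] at hle
  have hSeq : ∀ θ ∈ b, S θ = charDegree (θ : N → ℂ) := fun θ hθ => by
    have h := (Finset.sum_eq_sum_iff_of_le hterm).1 (le_antisymm (Finset.sum_le_sum hterm) hle) θ hθ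
    rw [sq] at h
    exact (Nat.eq_of_mul_eq_mul_right (hposN θ) h).symm
  -- a constituent in the block is the whole restriction, and comes from one character only
  have hres : ∀ χ ∈ B, ∀ θ ∈ b, 1 ≤ m χ θ →
      (∀ n : N, (χ : G → ℂ) n = (θ : N → ℂ) n) ∧ ∀ χ' ∈ B, 1 ≤ m χ' θ → χ' = χ := by
    intro χ hχ θ hθ hpos
    have h1 : m χ θ * charDegree (χ : G → ℂ) ≤ charDegree (θ : N → ℂ) := hSeq θ hθ ▸
      Finset.single_le_sum (f := fun χ => m χ θ * charDegree (χ : G → ℂ))
        (fun _ _ => Nat.zero_le _) hχ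
    have h2 := hge χ hχ θ hθ
    have hd : charDegree (θ : N → ℂ) ≤ charDegree (χ : G → ℂ) :=
      (Nat.le_mul_of_pos_left _ hpos).trans h2
    have hm1 : m χ θ = 1 := by
      refine le_antisymm (Nat.le_of_mul_le_mul_right ?_ (hposN θ)) hpos
      rw [one_mul]
      exact (Nat.mul_le_mul_left _ hd).trans h1
    rw [hm1, one_mul] at h1
    have hdeg : charDegree (χ : G → ℂ) = charDegree (θ : N → ℂ) := le_antisymm h1 hd
    refine ⟨fun n => ?_, fun χ' hχ' hpos' => ?_⟩
    · have hother : ∀ θ', θ' ≠ θ → m χ θ' = 0 := fun θ' hne => by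
        by_cases hθ' : θ' ∈ b
        · have h := hA χ hχ
          rw [← Finset.add_sum_erase b _ hθ, hm1, one_mul, hdeg] at h
          have h0 : ∑ θ'' ∈ b.erase θ, m χ θ'' * charDegree (θ'' : N → ℂ) = 0 := by omega
          rcases Nat.mul_eq_zero.1
            (Finset.sum_eq_zero_iff.1 h0 θ' (Finset.mem_erase.2 ⟨hne, hθ'⟩)) with h' | h'
          · exact h'
          · exact absurd h' (hposN θ').ne'
        · exact hout χ (Set.mem_toFinset.1 hχ) θ' fun h => hθ' (Set.mem_toFinset.2 h)
      rw [hdec χ n, Finset.sum_eq_single θ (fun θ' _ hne => by rw [hother θ' hne]; simp)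
        (fun h => absurd (Finset.mem_univ _) h), hm1, Nat.cast_one, one_mul]
    · by_contra hne
      have h3 : m χ θ * charDegree (χ : G → ℂ) + m χ' θ * charDegree (χ' : G → ℂ) ≤ S θ := by
        rw [← Finset.sum_pair (f := fun χ => m χ θ * charDegree (χ : G → ℂ)) (Ne.symm hne)]
        exact Finset.sum_le_sum_of_subset fun x hx => by
          rcases Finset.mem_insert.1 hx with rfl | hx
          · exact hχ
          · rw [Finset.mem_singleton.1 hx]; exact hχ'
      have h4 := (Nat.le_mul_of_pos_left (charDegree (θ : N → ℂ)) hpos').trans (hge χ' hχ' θ hθ)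
      have h5 := Nat.le_mul_of_pos_left (charDegree (χ' : G → ℂ)) hpos'
      have h6 := hposN θ
      rw [hSeq θ hθ, hm1, one_mul, hdeg] at h3
      omega
  refine ⟨fun χ hχ => ?_, fun θ hθ => ?_⟩
  · have hχB : χ ∈ B := Set.mem_toFinset.2 hχ
    obtain ⟨θ, hθ, hne⟩ : ∃ θ ∈ b, m χ θ ≠ 0 := by
      by_contra! h
      have := hA χ hχB
      rw [Finset.sum_eq_zero fun θ hθ => by rw [h θ hθ, zero_mul]] at this
      exact Chars.irr_apply_one_ne_zero χ (by rw [(Chars.charDegree_spec χ).2, this, Nat.cast_zero])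
    exact ⟨θ, Set.mem_toFinset.1 hθ, (hres χ hχB θ hθ (Nat.one_le_iff_ne_zero.2 hne)).1⟩
  · obtain ⟨χ, hχ, hpos⟩ := hex θ (Set.mem_toFinset.2 hθ)
    have h := hres χ hχ θ (Set.mem_toFinset.2 hθ) hpos
    refine ⟨χ, ⟨Set.mem_toFinset.1 hχ, h.1⟩, fun χ' hχ' => h.2 χ' (Set.mem_toFinset.2 hχ'.1) ?_⟩
    have h1 : classInner (resFun N (χ' : G → ℂ)) (θ : N → ℂ) = 1 := by
      rw [show resFun N (χ' : G → ℂ) = (θ : N → ℂ) from funext hχ'.2, Chars.classInner_irr_self]
    rw [hm'] at h1
    exact le_of_eq (by exact_mod_cast h1.symm)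

end Restrict

end Cfsg.Agent.Lib.Contrib
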