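import Mathlib
import Cfsg.Agent.Lib.Contrib.Cyclotomic

/-!
# Cyclic functions for the prime two

At the odd exponents a cyclic function is `∑ a r * (ζ ^ r) ^ t` over `r < 2 ^ (k - 1)` with unique
coefficients; the mean is `a 0`, and for a real function this is also the sum of the coefficients.
-/

set_option autoImplicit false

namespace Cfsg.Agent.Lib.Contrib

open Cfsg Polynomial
open Cfsg.Agent.Lib.Blocks
open scoped ComplexConjugate

variable {k : ℕ} {ζ : ℂ}

theorem two_pow_pred_add (hk : 0 < k) : 2 ^ (k - 1) + 2 ^ (k - 1) = 2 ^ k := by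
  rw [← two_mul, ← pow_succ', Nat.sub_add_cancel hk]

theorem root_pow_half (hk : 0 < k) (hζ : IsPrimitiveRoot ζ (2 ^ k)) : ζ ^ 2 ^ (k - 1) = -1 := by
  refine (IsPrimitiveRoot.eq_neg_one_of_two_right ?_)
  exact hζ.pow (pow_pos two_pos k) (by rw [← pow_succ, Nat.sub_add_cancel hk])

theorem root_pow_half_odd (hk : 0 < k) (hζ : IsPrimitiveRoot ζ (2 ^ k)) {t : ℕ} (ht : ¬ 2 ∣ t) :
    (ζ ^ 2 ^ (k - 1)) ^ t = -1 := by
  rw [root_pow_half hk hζ, Odd.neg_one_pow (Nat.odd_iff.2 (by omega))]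

/-- The coefficients at the odd exponents. -/
theorem IsCyc.exists_coeff_two {F : ℕ → ℂ} (hk : 0 < k) (hζ : IsPrimitiveRoot ζ (2 ^ k))
    (h : IsCyc ζ F) : ∃ a : ℕ → ℤ, ∀ t, ¬ 2 ∣ t →
      F t = ∑ r ∈ Finset.range (2 ^ (k - 1)), (a r : ℂ) * (ζ ^ r) ^ t := by
  obtain ⟨c, hc⟩ := h.exists_coeff Nat.prime_two hk hζ
  refine ⟨fun r => c r 0 - c r 1, fun t ht => ?_⟩
  rw [hc t]
  refine Finset.sum_congr rfl fun r _ => ?_
  rw [Finset.sum_range_succ, Finset.sum_range_one, mul_zero, add_zero, mul_one, pow_add ζ r,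
    mul_pow, root_pow_half_odd hk hζ ht]
  push_cast
  ring

/-- Uniqueness of the coefficients at the odd exponents. -/
theorem coeff_two_eq_zero (hk : 0 < k) (hζ : IsPrimitiveRoot ζ (2 ^ k)) (d : ℕ → ℤ)
    (h : ∀ t, ¬ 2 ∣ t → ∑ r ∈ Finset.range (2 ^ (k - 1)), (d r : ℂ) * (ζ ^ r) ^ t = 0) :
    ∀ r < 2 ^ (k - 1), d r = 0 := by
  intro r hr
  let c : ℕ → ℕ → ℤ := fun s j => if j = 0 then d s else 0
  have hF : ∀ t, ∑ s ∈ Finset.range (2 ^ (k - 1)), (d s : ℂ) * (ζ ^ s) ^ t =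
      ∑ s ∈ Finset.range (2 ^ (k - 1)), ∑ j ∈ Finset.range 2,
        (c s j : ℂ) * (ζ ^ (s + 2 ^ (k - 1) * j)) ^ t := fun t =>
    Finset.sum_congr rfl fun s _ => by simp [c, Finset.sum_range_succ]
  have hs := sum_norm_sq (F := fun t => ∑ s ∈ Finset.range (2 ^ (k - 1)), (d s : ℂ) * (ζ ^ s) ^ t)
    (c := c) hF Nat.prime_two hk hζ
  rw [Finset.sum_eq_zero fun t ht => by rw [h t (Finset.mem_filter.1 ht).2]; simp] at hs
  have hsum : ∑ s ∈ Finset.range (2 ^ (k - 1)), spread 2 (c s) = 0 := by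
    rcases mul_eq_zero.1 hs.symm with h0 | h0
    · exact absurd h0 (pow_ne_zero _ (by norm_num))
    · exact_mod_cast h0
  have := (Finset.sum_eq_zero_iff_of_nonneg fun s _ => spread_nonneg 2 (c s)).1 hsum r
    (Finset.mem_range.2 hr)
  simp [spread, c, Finset.sum_range_succ] at this
  nlinarith [sq_nonneg (d r)]

/-- The mean is the constant coefficient. -/
theorem sum_coeff_two (hk : 0 < k) (hζ : IsPrimitiveRoot ζ (2 ^ k)) (a : ℕ → ℤ) :
    ∑ t ∈ primResidues 2 k, ∑ r ∈ Finset.range (2 ^ (k - 1)), (a r : ℂ) * (ζ ^ r) ^ t =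
      (2 : ℂ) ^ (k - 1) * (a 0 : ℂ) := by
  rw [Finset.sum_comm, Finset.sum_eq_single 0]
  · rw [← Finset.mul_sum, pow_zero, sum_root_pow Nat.prime_two hk (one_pow _)]
    simp only [one_pow, if_true, Nat.cast_ofNat]
    rw [show (2 : ℂ) ^ k = 2 ^ (k - 1) * 2 by rw [← pow_succ, Nat.sub_add_cancel hk]]
    ring
  · intro r hr hr0
    rw [Finset.mem_range] at hr
    rw [← Finset.mul_sum, sum_root_pow Nat.prime_two hk
      (by rw [← pow_mul, mul_comm, pow_mul, hζ.pow_eq_one, one_pow]), if_neg, if_neg,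
      sub_zero, mul_zero]
    · rw [← pow_mul]
      intro hbad
      have := Nat.le_of_dvd (by omega) ((hζ.pow_eq_one_iff_dvd _).1 hbad)
      have := two_pow_pred_add hk
      omega
    · intro hbad
      have := Nat.le_of_dvd (by omega) ((hζ.pow_eq_one_iff_dvd _).1 hbad)
      have := two_pow_pred_add hk
      omega
  · exact fun h => absurd (Finset.mem_range.2 (pow_pos two_pos _)) h

/-- For a real function the sum of the coefficients is the constant one. -/
theorem sum_coeff_two_of_real (hk : 0 < k) (hζ : IsPrimitiveRoot ζ (2 ^ k)) (a : ℕ → ℤ)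
    (hreal : ∀ t, ¬ 2 ∣ t →
      conj (∑ r ∈ Finset.range (2 ^ (k - 1)), (a r : ℂ) * (ζ ^ r) ^ t) =
        ∑ r ∈ Finset.range (2 ^ (k - 1)), (a r : ℂ) * (ζ ^ r) ^ t) :
    ∑ r ∈ Finset.range (2 ^ (k - 1)), a r = a 0 := by
  set q := 2 ^ (k - 1) with hq
  obtain ⟨q', hq'⟩ : ∃ q', q = q' + 1 := ⟨q - 1, by have : 0 < q := hq ▸ pow_pos two_pos _; omega⟩
  have hconj : ∀ t, ¬ 2 ∣ t → ∀ i < q',
      conj ((ζ ^ (i + 1)) ^ t) = -(ζ ^ (q' - 1 - i + 1)) ^ t := fun t ht i hi => by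
    have h1 : (ζ ^ (i + 1)) ^ t * (ζ ^ (q' - 1 - i + 1)) ^ t = -1 := by
      rw [← mul_pow, ← pow_add, show i + 1 + (q' - 1 - i + 1) = q by omega, hq,
        root_pow_half_odd hk hζ ht]
    have hn : ‖(ζ ^ (i + 1)) ^ t‖ = 1 := by
      rw [norm_pow, norm_pow, hζ.norm'_eq_one (pow_ne_zero _ two_ne_zero), one_pow, one_pow]
    rw [← Complex.inv_eq_conj hn]
    exact inv_eq_of_mul_eq_one_right (by rw [mul_neg, h1, neg_neg])
  let d : ℕ → ℤ := fun r => if r = 0 then 0 else a r + a (q - r)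
  have hd := coeff_two_eq_zero hk hζ d fun t ht => by
    have h := hreal t ht
    rw [hq', Finset.sum_range_succ'] at h
    rw [← hq, hq', Finset.sum_range_succ']
    simp only [map_add, map_sum, map_mul, map_intCast, pow_zero, one_pow, map_one, mul_one] at h
    have h2 := add_right_cancel h
    rw [Finset.sum_congr rfl (g := fun i => -((a (i + 1) : ℂ) * (ζ ^ (q' - 1 - i + 1)) ^ t))
      fun i hi => by rw [hconj t ht i (Finset.mem_range.1 hi)]; ring,
      Finset.sum_neg_distrib, neg_eq_iff_add_eq_zero] at h2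
    rw [show ((d 0 : ℤ) : ℂ) * (ζ ^ 0) ^ t = 0 by simp [d], add_zero, ← h2, add_comm,
      ← Finset.sum_range_reflect (fun i => (a (i + 1) : ℂ) * (ζ ^ (q' - 1 - i + 1)) ^ t),
      ← Finset.sum_add_distrib]
    refine Finset.sum_congr rfl fun i hi => ?_
    rw [Finset.mem_range] at hi
    simp only [d, Nat.add_one_ne_zero, if_false]
    rw [show q - (i + 1) = q' - 1 - i + 1 by omega, show q' - 1 - (q' - 1 - i) = i by omega]
    push_cast
    ring
  rw [hq', Finset.sum_range_succ', add_eq_right]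
  have hS : ∑ i ∈ Finset.range q', a (i + 1) = ∑ i ∈ Finset.range q', -a (i + 1) := by
    conv_lhs => rw [← Finset.sum_range_reflect]
    refine Finset.sum_congr rfl fun i hi => ?_
    rw [Finset.mem_range] at hi
    have h := hd (i + 1) (by omega)
    simp only [d, Nat.add_one_ne_zero, if_false] at h
    rw [show q - (i + 1) = q' - 1 - i + 1 by omega] at h
    linarith
  rw [Finset.sum_neg_distrib] at hS
  linarith

variable {M : Ideal AlgInt} [M.IsPrime]

/-- Modulo `M` a combination of roots of unity is the sum of its coefficients. -/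
theorem sum_coeff_congr {p : ℕ} (hM : IsPModular p M) (hζ : IsPrimitiveRoot ζ (p ^ k)) (q : ℕ)
    (a : ℕ → ℤ) (t : ℕ) :
    MemLocalIdeal M ((∑ r ∈ Finset.range q, (a r : ℂ) * (ζ ^ r) ^ t) -
      ((∑ r ∈ Finset.range q, a r : ℤ) : ℂ)) := by
  push_cast
  rw [← Finset.sum_sub_distrib]
  refine memLocalIdeal_sum _ _ fun r _ => ?_
  rw [← mul_sub_one]
  exact memLocalIdeal_mul_left (mem_localRing.1 (intCast_mem_localRing _))
    (memLocalIdeal_sub_one_of_pow_eq_one hM (k := k) (by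
      rw [← pow_mul, ← pow_mul, show r * (t * p ^ k) = p ^ k * (r * t) by ring, pow_mul,
        hζ.pow_eq_one, one_pow]))

/-- A real cyclic function has an integral mean, congruent to its value at `1`. -/
theorem IsCyc.exists_mean_two {F : ℕ → ℂ} (hM : IsPModular 2 M) (hk : 0 < k)
    (hζ : IsPrimitiveRoot ζ (2 ^ k)) (h : IsCyc ζ F) (hreal : ∀ t, ¬ 2 ∣ t → conj (F t) = F t) :
    ∃ n : ℤ, ∑ t ∈ primResidues 2 k, F t = (2 : ℂ) ^ (k - 1) * (n : ℂ) ∧
      MemLocalIdeal M (F 1 - (n : ℂ)) := by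
  obtain ⟨a, ha⟩ := h.exists_coeff_two hk hζ
  refine ⟨a 0, ?_, ?_⟩
  · rw [Finset.sum_congr (s₁ := primResidues 2 k) rfl (g := fun t => ∑ r ∈ Finset.range (2 ^ (k - 1)), (a r : ℂ) * (ζ ^ r) ^ t)
      fun t ht => ha t (Finset.mem_filter.1 ht).2, sum_coeff_two hk hζ a]
  · rw [← sum_coeff_two_of_real hk hζ a fun t ht => by rw [← ha t ht]; exact hreal t ht,
      ha 1 (by norm_num)]
    exact sum_coeff_congr hM hζ _ a 1

end Cfsg.Agent.Lib.Contrib

namespace Cfsg.Agent.Lib.Contrib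

open Cfsg Polynomial
open Cfsg.Agent.Lib.Blocks

/-- A root of `X ^ 2 ^ n + 1` has `(1 - ζ) ^ 2 ^ n` dividing `2`. -/
theorem one_sub_pow_dvd_two {R : Type*} [CommRing R] (n : ℕ) :
    ∀ ζ : R, ζ ^ 2 ^ n = -1 → (1 - ζ) ^ 2 ^ n ∣ (2 : R) := by
  induction n with
  | zero =>
    intro ζ h
    rw [pow_zero, pow_one] at h ⊢
    subst h
    norm_num
  | succ n ih =>
    intro ζ h
    have h2 : (ζ ^ 2) ^ 2 ^ n = -1 := by rw [← pow_mul, ← pow_succ', h]
    refine dvd_trans ?_ (ih (ζ ^ 2) h2)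
    rw [pow_succ', pow_mul]
    refine pow_dvd_pow_of_dvd ?_ _
    have h1 : (1 - ζ) ∣ 1 + ζ := by
      have := sub_dvd_pow_sub_pow (1 : R) ζ (2 ^ (n + 1) + 1)
      rwa [one_pow, pow_succ ζ, h, neg_one_mul, sub_neg_eq_add] at this
    rw [sq, show (1 : R) - ζ ^ 2 = (1 - ζ) * (1 + ζ) by ring]
    exact mul_dvd_mul_left _ h1

variable {k : ℕ} {ζ : ℂ} {M : Ideal AlgInt} [M.IsPrime]

/-- If `∑ b r * ζ ^ r` is twice a local integer then all coefficients are even. -/
theorem two_dvd_coeff (hM : IsPModular 2 M) (hk : 0 < k) (hζ : IsPrimitiveRoot ζ (2 ^ k))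
    (b : ℕ → ℤ) {y : ℂ} (hy : MemLocalRing M y)
    (hsum : ∑ r ∈ Finset.range (2 ^ (k - 1)), (b r : ℂ) * ζ ^ r = 2 * y) :
    ∀ r < 2 ^ (k - 1), 2 ∣ b r := by
  set q := 2 ^ (k - 1) with hq
  let P : ℤ[X] := ∑ r ∈ Finset.range q, C (b r) * X ^ r
  have hPc : ∀ r < q, P.coeff r = b r := fun r hr => by
    simp only [P, finset_sum_coeff, coeff_C_mul_X_pow, Finset.sum_ite_eq, Finset.mem_range]
    rw [if_pos hr]
  have hPd : P.natDegree < q := by
    have hq0 : 0 < q := hq ▸ pow_pos two_pos _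
    refine lt_of_le_of_lt (natDegree_sum_le_of_forall_le _ _ (n := q - 1) fun r hr => ?_) (by omega)
    refine (natDegree_C_mul_X_pow_le _ _).trans ?_
    rw [Finset.mem_range] at hr
    omega
  let W : ℤ[X] := P.comp (X + 1)
  have hWd : W.natDegree < q := lt_of_le_of_lt (natDegree_comp_le.trans (by
    rw [show natDegree (X + 1 : ℤ[X]) = 1 from natDegree_X_add_C (1 : ℤ), mul_one])) hPd
  let R := localRing M
  let z : R := ⟨ζ, isIntegral_mem_localRing (hζ.isIntegral (pow_pos two_pos k))⟩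
  let π : R := 1 - z
  have hz : z ^ q = -1 := Subtype.ext (by simpa [hq] using root_pow_half hk hζ)
  obtain ⟨v, hv⟩ := one_sub_pow_dvd_two (k - 1) z (hq ▸ hz)
  have hπI : MemLocalIdeal M (π : ℂ) := by
    have h := memLocalIdeal_neg (memLocalIdeal_sub_one_of_pow_eq_one hM (k := k) hζ.pow_eq_one)
    simpa [π, z] using h
  have hπ0 : π ≠ 0 := fun h => by
    have : (π : ℂ) = 0 := by rw [h]; rfl
    rw [show (π : ℂ) = 1 - ζ from rfl, sub_eq_zero] at this
    have := hζ.eq_orderOf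
    rw [← ‹(1 : ℂ) = ζ›, orderOf_one] at this
    exact absurd this (Nat.one_lt_pow hk.ne' one_lt_two).ne'
  have hW : ∑ i ∈ Finset.range q, ((-1) ^ i * (W.coeff i : R)) * π ^ i = 2 * ⟨y, hy⟩ := by
    refine Subtype.ext ?_
    have he : aeval (ζ - 1) W = 2 * y := by
      simp only [W, aeval_comp, map_add, aeval_X, map_one, sub_add_cancel, P, map_sum, map_mul,
        map_pow, aeval_C, algebraMap_int_eq, eq_intCast, map_intCast]
      exact hsum
    rw [aeval_eq_sum_range' hWd] at he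
    push_cast
    rw [show ((2 : R) : ℂ) = 2 from rfl, ← he]
    refine Finset.sum_congr rfl fun i _ => ?_
    rw [zsmul_eq_mul, show (π : ℂ) = 1 - ζ from rfl, mul_comm ((-1 : ℂ) ^ i), mul_assoc, ← mul_pow]
    congr 2
    ring
  have hev : ∀ i < q, (2 : ℤ) ∣ W.coeff i := by
    intro i
    induction i using Nat.strong_induction_on with
    | _ i ih =>
    intro hi
    have hdiv : π ^ (i + 1) ∣ ((-1) ^ i * (W.coeff i : R)) * π ^ i := by
      have h2 : π ^ (i + 1) ∣ (2 : R) := ⟨π ^ (q - (i + 1)) * v, by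
        rw [← mul_assoc, ← pow_add, Nat.add_sub_cancel' hi, hv]⟩
      rw [← Finset.add_sum_erase _ _ (Finset.mem_range.2 hi)] at hW
      rw [eq_sub_of_add_eq hW]
      refine dvd_sub (dvd_mul_of_dvd_left h2 _) (Finset.dvd_sum fun j hj => ?_)
      obtain ⟨hne, hj'⟩ := Finset.mem_erase.1 hj
      rcases lt_or_gt_of_ne hne with hlt | hgt
      · obtain ⟨w, hw⟩ := ih j hlt (Finset.mem_range.1 hj')
        refine dvd_mul_of_dvd_left (dvd_mul_of_dvd_right ?_ _) _
        rw [hw, Int.cast_mul]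
        exact dvd_mul_of_dvd_left (by exact_mod_cast h2) _
      · exact dvd_mul_of_dvd_right (pow_dvd_pow _ hgt) _
    obtain ⟨w, hw⟩ := hdiv
    rw [mul_comm ((-1) ^ i * (W.coeff i : R)), pow_succ, mul_assoc (π ^ i)] at hw
    have hw' := congrArg (fun x : R => (x : ℂ)) (mul_left_cancel₀ (pow_ne_zero i hπ0) hw)
    simp only [Subring.coe_mul, Subring.coe_intCast, SubmonoidClass.coe_pow] at hw'
    have hI : MemLocalIdeal M ((-1 : ℂ) ^ i * (W.coeff i : ℂ)) := by
      have h := memLocalIdeal_mul_right hπI (mem_localRing.1 w.2)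
      rw [← hw'] at h
      simpa using h
    have h' := memLocalIdeal_mul_left
      (mem_localRing.1 (pow_mem (neg_mem (one_mem (localRing M))) i)) hI
    rw [← mul_assoc, ← pow_add, ← two_mul, pow_mul, neg_one_sq, one_pow, one_mul] at h'
    exact_mod_cast (memLocalIdeal_intCast_iff hM _).1 h'
  intro r hr
  obtain ⟨D, hD⟩ : C (2 : ℤ) ∣ W := C_dvd_iff_dvd_coeff _ _ |>.2 fun i => by
    by_cases hi : i < q
    · exact hev i hi
    · rw [coeff_eq_zero_of_natDegree_lt (lt_of_lt_of_le hWd (not_lt.1 hi))]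
      exact dvd_zero _
  have hP : P = C (2 : ℤ) * D.comp (X - 1) := by
    rw [← C_comp (a := (2 : ℤ)) (p := X - 1), ← mul_comp, ← hD]
    simp [W, comp_assoc]
  rw [← hPc r hr, hP, coeff_C_mul]
  exact dvd_mul_right _ _

/-- If `∑ b r * ζ ^ r` is `2 ^ h` times a local integer then so are all coefficients. -/
theorem two_pow_dvd_coeff (hM : IsPModular 2 M) (hk : 0 < k) (hζ : IsPrimitiveRoot ζ (2 ^ k))
    (h : ℕ) : ∀ (b : ℕ → ℤ) (y : ℂ), MemLocalRing M y →
      ∑ r ∈ Finset.range (2 ^ (k - 1)), (b r : ℂ) * ζ ^ r = 2 ^ h * y →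
      ∀ r < 2 ^ (k - 1), 2 ^ h ∣ b r := by
  induction h with
  | zero => intro b y _ _ r _; simp
  | succ h ih =>
    intro b y hy hsum r hr
    have h2 := two_dvd_coeff hM hk hζ b (y := 2 ^ h * y) (mem_localRing.1 (mul_mem
      (pow_mem (natCast_mem_localRing 2) h) (mem_localRing.2 hy))) (by rw [hsum]; ring)
    have h' := ih (fun s => b s / 2) y hy (mul_left_cancel₀ (two_ne_zero (α := ℂ)) (by
      rw [Finset.mul_sum, ← mul_assoc, ← pow_succ', ← hsum]
      refine Finset.sum_congr rfl fun s hs => ?_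
      obtain ⟨w, hw⟩ := h2 s (Finset.mem_range.1 hs)
      rw [hw, Int.mul_ediv_cancel_left _ two_ne_zero]
      push_cast
      ring)) r hr
    obtain ⟨w, hw⟩ := h2 r hr
    simp only [hw, Int.mul_ediv_cancel_left _ (two_ne_zero (α := ℤ))] at h'
    rw [hw, pow_succ']
    exact mul_dvd_mul_left 2 h'

/-- Coefficients of a cyclic function whose value at `1` is `2 ^ h` times a local integer. -/
theorem IsCyc.exists_coeff_two_pow {F : ℕ → ℂ} (hM : IsPModular 2 M) (hk : 0 < k)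
    (hζ : IsPrimitiveRoot ζ (2 ^ k)) (hF : IsCyc ζ F) {h : ℕ} {y : ℂ} (hy : MemLocalRing M y)
    (h1 : F 1 = 2 ^ h * y) :
    ∃ a : ℕ → ℤ, ∀ t, ¬ 2 ∣ t →
      F t = 2 ^ h * ∑ r ∈ Finset.range (2 ^ (k - 1)), (a r : ℂ) * (ζ ^ r) ^ t := by
  obtain ⟨b, hb⟩ := hF.exists_coeff_two hk hζ
  have hd := two_pow_dvd_coeff hM hk hζ h b y hy (by
    rw [← h1, hb 1 (by norm_num)]
    simp)
  refine ⟨fun r => b r / 2 ^ h, fun t ht => ?_⟩
  rw [hb t ht, Finset.mul_sum]
  refine Finset.sum_congr rfl fun r hr => ?_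
  obtain ⟨w, hw⟩ := hd r (Finset.mem_range.1 hr)
  dsimp only
  rw [hw, Int.mul_ediv_cancel_left _ (pow_ne_zero h two_ne_zero)]
  push_cast
  ring

end Cfsg.Agent.Lib.Contrib
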