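import Mathlib
import Cfsg.Agent.Lib.Contrib.Family
import Cfsg.Agent.Lib.Contrib.Dyadic

/-!
# Height zero characters of a `2`-block and a subsection
-/

set_option autoImplicit false

namespace Cfsg.Agent.Lib.Contrib

open Cfsg
open Cfsg.Agent.Lib
open Cfsg.Agent.Lib.Blocks
open scoped ComplexConjugate

attribute [local instance] Classical.propDecidable

universe u

variable {G : Type u} [Group G] [Fintype G] {M : Ideal AlgInt} [M.IsPrime]
  {C : Subgroup G} [Fintype C] {z : G} {j : ℕ} {b : Set (IrrCharacter C)} {B : Set (IrrCharacter G)}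

/-- The integral means of the scaled contributions of a subsection of a `2`-block. -/
theorem exists_means (hM : IsPModular 2 M) (hz : orderOf z = 2 ^ j)
    (hC : C = Subgroup.centralizer ({z} : Set G)) (hb : IsInducedBlock M C b B) :
    ∃ n : IrrCharacter G → ℤ,
      (∀ χ ∈ B, 0 ≤ n χ) ∧
      (∀ χ ∈ B, blockHeight 2 B (χ : G → ℂ) = 0 → Odd (n χ) ∧
        (Nat.card {φ : IrrCharacter G // φ ∈ B ∧ blockHeight 2 B (φ : G → ℂ) = 0} : ℤ) ≤
          2 ^ blockDefect 2 b * n χ) ∧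
      ∑ χ ∈ B.toFinset, n χ = 2 ^ blockDefect 2 b * (blockRank 2 b : ℤ) := by
  obtain ⟨F, lam, hF, -, hherm, hidem, htr, hlR, hlU, hl⟩ := exists_family (p := 2) hM hz hC hb
  have hζ := isPrimitiveRoot_theRoot 2 j
  set U := primResidues 2 (j + 1) with hU
  set Φ : ℕ := 2 ^ j with hΦ
  have hφU : U.card = Φ := by
    rw [hU, card_primResidues Nat.prime_two j.succ_pos]
    simp [hΦ]
  have hUt : ∀ t ∈ U, ¬ 2 ∣ t := fun t ht => (Finset.mem_filter.1 ht).2
  have hmean : ∀ χ : IrrCharacter G, ∃ n : ℤ, ∑ t ∈ U, F χ χ t = (2 : ℂ) ^ j * (n : ℂ) ∧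
      MemLocalIdeal M (F χ χ 1 - (n : ℂ)) := fun χ => by
    simpa using (hF χ χ).exists_mean_two hM j.succ_pos hζ fun t ht => hherm χ χ t ht
  choose n hn hnI using hmean
  have hsq : ∀ χ ∈ B, ((∑ φ ∈ B.toFinset, ∑ t ∈ U, ‖F χ φ t‖ ^ 2 : ℝ)) =
      (2 : ℝ) ^ j * (2 ^ blockDefect 2 b * (n χ : ℝ)) := fun χ _ => by
    rw [Finset.sum_comm]
    have h1 : ∀ t ∈ U, ((∑ φ ∈ B.toFinset, ‖F χ φ t‖ ^ 2 : ℝ) : ℂ) =
        (2 : ℂ) ^ blockDefect 2 b * F χ χ t := fun t ht => by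
      rw [← Nat.cast_ofNat (R := ℂ), ← hidem χ χ t (hUt t ht), Complex.ofReal_sum]
      refine Finset.sum_congr rfl fun φ _ => ?_
      rw [← hherm χ φ t (hUt t ht), Complex.mul_conj, Complex.normSq_eq_norm_sq]
    have h2 := Finset.sum_congr (s₁ := U) rfl h1
    rw [← Finset.mul_sum, hn χ, ← Complex.ofReal_sum] at h2
    apply Complex.ofReal_injective
    rw [h2]
    push_cast
    ring
  have hV : ∀ ψ ∈ B, blockHeight 2 B (ψ : G → ℂ) = 0 →
      ¬ MemLocalIdeal M (blockVal 2 b fun c : C => (ψ : G → ℂ) c) := by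
    subst hC
    exact fun ψ hψ h0 => blockVal_subsection hM ⟨j, hz⟩ hb hψ h0
  have hVR : ∀ χ : IrrCharacter G, MemLocalRing M (blockVal 2 b fun c : C => (χ : G → ℂ) c) :=
    fun χ => memLocalRing_blockVal hM b (Chars.isCharacter_restrict _ (Chars.irr_isCharacter χ))
  have hunit : ∀ χ ∈ B, blockHeight 2 B (χ : G → ℂ) = 0 → ∀ ψ ∈ B,
      blockHeight 2 B (ψ : G → ℂ) = 0 → ¬ MemLocalIdeal M (F χ ψ 1) := by
    intro χ hχ h0 ψ hψ h0' h
    refine not_memLocalIdeal_mul (mem_localRing.1 (mul_mem (mem_localRing.2 hlR)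
      (mem_localRing.2 (hVR χ)))) (hVR ψ) (not_memLocalIdeal_mul hlR (hVR χ) hlU (hV χ hχ h0))
      (hV ψ hψ h0') ?_
    simpa using memLocalIdeal_sub h (hl χ ψ)
  have hnn : ∀ χ ∈ B, 0 ≤ n χ := fun χ hχ => by
    have h : (0 : ℝ) ≤ (2 : ℝ) ^ j * (2 ^ blockDefect 2 b * (n χ : ℝ)) :=
      hsq χ hχ ▸ Finset.sum_nonneg fun φ _ => Finset.sum_nonneg fun t _ => sq_nonneg _
    have : (0 : ℝ) ≤ (n χ : ℝ) := nonneg_of_mul_nonneg_right
      (nonneg_of_mul_nonneg_right h (by positivity)) (by positivity)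
    exact_mod_cast this
  refine ⟨n, hnn, fun χ hχ h0 => ⟨?_, ?_⟩, ?_⟩
  · rw [← Int.not_even_iff_odd, even_iff_two_dvd]
    intro hdvd
    refine hunit χ hχ h0 χ hχ h0 ?_
    have h2 : MemLocalIdeal M ((n χ : ℤ) : ℂ) := (memLocalIdeal_intCast_iff hM _).2 (by simpa using hdvd)
    simpa using memLocalIdeal_add (hnI χ) h2
  · set S := B.toFinset.filter fun φ : IrrCharacter G => blockHeight 2 B (φ : G → ℂ) = 0
    have hcard : Nat.card {φ : IrrCharacter G // φ ∈ B ∧ blockHeight 2 B (φ : G → ℂ) = 0} =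
        S.card := by
      rw [Nat.card_eq_fintype_card]
      refine Fintype.card_of_subtype S fun φ => ?_
      simp [S]
    have h : ((2 : ℝ) ^ j) * (S.card : ℝ) ≤ (2 : ℝ) ^ j * (2 ^ blockDefect 2 b * (n χ : ℝ)) := by
      rw [← hsq χ hχ]
      refine le_trans ?_ (Finset.sum_le_sum_of_subset_of_nonneg (s := S) (Finset.filter_subset _ _)
        fun φ _ _ => Finset.sum_nonneg fun t _ => sq_nonneg _)
      calc (2 : ℝ) ^ j * (S.card : ℝ) = ∑ _φ ∈ S, ((2 : ℝ) ^ j) := by simp [mul_comm]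
        _ ≤ _ := Finset.sum_le_sum fun φ hφ => by
          rw [Finset.mem_filter, Set.mem_toFinset] at hφ
          have := (hF χ φ).card_le_sum_norm_sq Nat.prime_two j.succ_pos hζ (fun h0' =>
            hunit χ hχ h0 φ hφ.1 hφ.2 (h0' ▸ memLocalIdeal_zero))
          rw [← hU, hφU] at this
          simpa [hΦ] using this
    rw [hcard]
    exact_mod_cast le_of_mul_le_mul_left h (by positivity)
  · have h : ∑ t ∈ U, ∑ χ ∈ B.toFinset, F χ χ t =
        (Φ : ℂ) * ((2 : ℂ) ^ blockDefect 2 b * (blockRank 2 b : ℂ)) := by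
      rw [Finset.sum_congr rfl fun t ht => htr t (hUt t ht), Finset.sum_const, hφU, nsmul_eq_mul,
        Nat.cast_ofNat]
    rw [Finset.sum_comm, Finset.sum_congr rfl fun χ _ => hn χ, ← Finset.mul_sum, hΦ, Nat.cast_pow,
      Nat.cast_ofNat] at h
    exact_mod_cast mul_left_cancel₀ (pow_ne_zero j two_ne_zero) h

/-- The bound on the number of height zero characters. -/
theorem height_zero_count (hM : IsPModular 2 M) (hz : orderOf z = 2 ^ j)
    (hC : C = Subgroup.centralizer ({z} : Set G)) (hb : IsInducedBlock M C b B) :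
    let k₀ := Nat.card {φ : IrrCharacter G // φ ∈ B ∧ blockHeight 2 B (φ : G → ℂ) = 0}
    let l := blockRank 2 b
    let s := Nat.sqrt l
    (Odd s → k₀ ≤ s * 2 ^ blockDefect 2 b) ∧
      (¬ Odd s → (s + 1) * k₀ ≤ l * 2 ^ blockDefect 2 b) := by
  intro k₀ l s
  obtain ⟨n, hnn, hn0, hsum⟩ := exists_means hM hz hC hb
  set P : ℕ := 2 ^ blockDefect 2 b with hP
  set S := B.toFinset.filter fun φ : IrrCharacter G => blockHeight 2 B (φ : G → ℂ) = 0
  have hcard : k₀ = S.card := by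
    refine (Nat.card_eq_fintype_card).trans (Fintype.card_of_subtype S fun φ => ?_)
    simp [S]
  have hlow : s ^ 2 ≤ l := Nat.sqrt_le' l
  have hhigh : l < (s + 1) ^ 2 := Nat.lt_succ_sqrt' l
  have big : ∀ m : ℕ, (∀ χ ∈ S, (m : ℤ) ≤ n χ) → m * k₀ ≤ l * P := fun m hm => by
    have : ((m * k₀ : ℕ) : ℤ) ≤ ((l * P : ℕ) : ℤ) := by
      push_cast
      calc (m : ℤ) * k₀ = ∑ _χ ∈ S, (m : ℤ) := by simp [hcard, mul_comm]
        _ ≤ ∑ χ ∈ S, n χ := Finset.sum_le_sum hm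
        _ ≤ ∑ χ ∈ B.toFinset, n χ := Finset.sum_le_sum_of_subset_of_nonneg
            (Finset.filter_subset _ _) fun χ hχ _ => hnn χ (Set.mem_toFinset.1 hχ)
        _ = _ := by rw [hsum, hP]; push_cast; ring
    exact_mod_cast this
  have low : ∀ m : ℤ, (k₀ : ℤ) > m * P → ∀ χ ∈ S, m < n χ ∧ Odd (n χ) := fun m hm χ hχ => by
    rw [Finset.mem_filter, Set.mem_toFinset] at hχ
    obtain ⟨hodd, hle⟩ := hn0 χ hχ.1 hχ.2
    refine ⟨?_, hodd⟩
    by_contra hcon
    have h1 : (2 : ℤ) ^ blockDefect 2 b * n χ ≤ 2 ^ blockDefect 2 b * m :=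
      mul_le_mul_of_nonneg_left (not_lt.1 hcon) (by positivity)
    rw [hP] at hm
    push_cast at hm
    linarith
  refine ⟨fun hs => ?_, fun hs => ?_⟩
  · by_contra hcon
    rw [not_le] at hcon
    have hcz : (k₀ : ℤ) > (s : ℤ) * P := by exact_mod_cast hcon
    have h1 := big (s + 2) fun χ hχ => by
      obtain ⟨h1, h2⟩ := low s hcz χ hχ
      obtain ⟨u, hu⟩ := h2
      obtain ⟨v, hv⟩ := hs
      omega
    have h2 : (s + 2) * (s * P + 1) ≤ (s + 2) * k₀ := Nat.mul_le_mul_left _ hcon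
    have h3 : l * P ≤ (s + 2) * s * P := Nat.mul_le_mul_right _ (by
      have : (s + 1) ^ 2 = (s + 2) * s + 1 := by ring
      omega)
    have h4 : (s + 2) * (s * P + 1) = (s + 2) * s * P + (s + 2) := by ring
    omega
  · by_cases hcz : (k₀ : ℤ) > ((s : ℤ) - 1) * P
    · exact big (s + 1) fun χ hχ => by
        obtain ⟨h1, h2⟩ := low _ hcz χ hχ
        obtain ⟨u, hu⟩ := h2
        obtain ⟨v, hv⟩ := Nat.not_odd_iff_even.1 hs
        omega
    · rw [not_lt] at hcz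
      have : (((s + 1) * k₀ : ℕ) : ℤ) ≤ ((l * P : ℕ) : ℤ) := by
        push_cast
        calc ((s : ℤ) + 1) * k₀ ≤ ((s : ℤ) + 1) * (((s : ℤ) - 1) * P) :=
              mul_le_mul_of_nonneg_left hcz (by positivity)
          _ = ((s : ℤ) ^ 2 - 1) * P := by ring
          _ ≤ (l : ℤ) * P := mul_le_mul_of_nonneg_right (by
              have : (s : ℤ) ^ 2 ≤ l := by exact_mod_cast hlow
              linarith) (Nat.cast_nonneg _)
      exact_mod_cast this

end Cfsg.Agent.Lib.Contrib
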