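import Mathlib
import Cfsg.Agent.Lib.Contrib.Family
import Cfsg.Agent.Lib.Contrib.HeightZeroCount

/-!
# Heights in a `2`-block with a major subsection of rank at most three
-/

set_option autoImplicit false

namespace Cfsg.Agent.Lib.Contrib

open Cfsg
open Cfsg.Agent.Lib
open Cfsg.Agent.Lib.Blocks
open scoped ComplexConjugate

attribute [local instance] Classical.propDecidable

universe u

variable {G : Type u} [Group G] [Fintype G] {M : Ideal AlgInt} [M.IsPrime]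
  {C : Subgroup G} [Fintype C] {z : G} {j : ℕ} {b : Set (IrrCharacter C)} {B : Set (IrrCharacter G)}

theorem minExp_add_blockHeight_le {p : ℕ} {χ : IrrCharacter G} (hχ : χ ∈ B) :
    minExp p B + blockHeight p B (χ : G → ℂ) ≤ (charDegree (χ : G → ℂ)).factorization p := by
  have h : sInf ((fun ψ : IrrCharacter G => (charDegree (ψ : G → ℂ)).factorization p) '' B) ≤
      (charDegree (χ : G → ℂ)).factorization p := Nat.sInf_le ⟨χ, hχ, rfl⟩
  simp only [minExp, blockDefect, blockHeight]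
  omega

/-- The weighted count of the characters of a `2`-block with a major subsection. -/
theorem major_height_bound (hM : IsPModular 2 M) (hz : orderOf z = 2 ^ j)
    (hC : C = Subgroup.centralizer ({z} : Set G)) (hb : IsInducedBlock M C b B)
    (hmaj : blockDefect 2 b = blockDefect 2 B) (hl : blockRank 2 b ≤ 3) :
    3 * (B.toFinset.filter fun χ : IrrCharacter G => blockHeight 2 B (χ : G → ℂ) = 0).card +
      2 * ∑ χ ∈ B.toFinset.filter (fun χ : IrrCharacter G => ¬ blockHeight 2 B (χ : G → ℂ) = 0),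
        2 ^ blockHeight 2 B (χ : G → ℂ) ≤ 3 * 2 ^ blockDefect 2 B := by
  obtain ⟨F, lam, hF, hFc, hherm, hidem, htr, hlR, hlU, hl'⟩ :=
    exists_family (p := 2) hM hz hC hb
  obtain ⟨hVI, hne⟩ := major_facts hM hz hC hb hmaj hFc hlR hlU hl'
  have hζ := isPrimitiveRoot_theRoot 2 j
  set U := primResidues 2 (j + 1) with hU
  have hφU : (U.card : ℝ) = 2 ^ j := by
    rw [hU, card_primResidues Nat.prime_two j.succ_pos]
    simp
  have hUt : ∀ t ∈ U, ¬ 2 ∣ t := fun t ht => (Finset.mem_filter.1 ht).2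
  have hVR : ∀ χ : IrrCharacter G, MemLocalRing M (blockVal 2 b fun c : C => (χ : G → ℂ) c) :=
    fun χ => memLocalRing_blockVal hM b (Chars.isCharacter_restrict _ (Chars.irr_isCharacter χ))
  have hV : ∀ ψ ∈ B, blockHeight 2 B (ψ : G → ℂ) = 0 →
      ¬ MemLocalIdeal M (blockVal 2 b fun c : C => (ψ : G → ℂ) c) := by
    subst hC
    exact fun ψ hψ h0 => blockVal_subsection hM ⟨j, hz⟩ hb hψ h0
  obtain ⟨ψ₀, hψ₀, h00⟩ := Blocks.exists_height_zero (p := 2) hb.2.1
  have hsc : ∀ χ ∈ B, ∀ ψ : IrrCharacter G, ∃ a : ℕ → ℤ, ∀ t, ¬ 2 ∣ t → F χ ψ t =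
      2 ^ blockHeight 2 B (χ : G → ℂ) *
        ∑ r ∈ Finset.range (2 ^ (j + 1 - 1)), (a r : ℂ) * (theRoot 2 j ^ r) ^ t := by
    intro χ hχ ψ
    obtain ⟨Ω, hΩR, hΩ, -⟩ := exists_major_factor hM ⟨j, hz⟩ hC hb hmaj ψ
    have he := minExp_add_blockHeight_le (p := 2) hχ
    refine (hF χ ψ).exists_coeff_two_pow hM j.succ_pos hζ
      (y := (charDegree (χ : G → ℂ) : ℂ) /
        ((2 ^ (minExp 2 B + blockHeight 2 B (χ : G → ℂ)) : ℕ) : ℂ) * Ω χ) ?_ ?_
    · exact mem_localRing.1 (mul_mem (natCast_div_mem_localRing hM (pow_ne_zero _ two_ne_zero)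
        (Or.inl (by rw [Nat.prime_two.factorization_pow, Finsupp.single_eq_same]; exact he)))
        (mem_localRing.2 (hΩR χ)))
    · rw [hFc χ ψ 1 hM.1.not_dvd_one, pow_one, hΩ χ hχ, (exists_degree_eq χ).1]
      push_cast
      rw [pow_add]
      field_simp
      try ring
  have hmean : ∀ χ : IrrCharacter G, ∃ n : ℤ, ∑ t ∈ U, F χ χ t = (2 : ℂ) ^ j * (n : ℂ) ∧
      MemLocalIdeal M (F χ χ 1 - (n : ℂ)) := fun χ => by
    simpa using (hF χ χ).exists_mean_two hM j.succ_pos hζ fun t ht => hherm χ χ t ht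
  choose n hn hnI using hmean
  have hsq : ∀ χ ∈ B, ((∑ φ ∈ B.toFinset, ∑ t ∈ U, ‖F φ χ t‖ ^ 2 : ℝ)) =
      (2 : ℝ) ^ j * (2 ^ blockDefect 2 b * (n χ : ℝ)) := fun χ _ => by
    rw [Finset.sum_comm]
    have h1 : ∀ t ∈ U, ((∑ φ ∈ B.toFinset, ‖F φ χ t‖ ^ 2 : ℝ) : ℂ) =
        (2 : ℂ) ^ blockDefect 2 b * F χ χ t := fun t ht => by
      rw [← Nat.cast_ofNat (R := ℂ), ← hidem χ χ t (hUt t ht), Complex.ofReal_sum]
      refine Finset.sum_congr rfl fun φ _ => ?_
      rw [← hherm φ χ t (hUt t ht), mul_comm, Complex.mul_conj, Complex.normSq_eq_norm_sq]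
    have h2 := Finset.sum_congr (s₁ := U) rfl h1
    rw [← Finset.mul_sum, hn χ, ← Complex.ofReal_sum] at h2
    apply Complex.ofReal_injective
    rw [h2]
    push_cast
    ring
  have hentry : ∀ φ ∈ B, ∀ χ : IrrCharacter G, F φ χ 1 ≠ 0 →
      (2 : ℝ) ^ j * (2 ^ blockHeight 2 B (φ : G → ℂ)) ^ 2 ≤ ∑ t ∈ U, ‖F φ χ t‖ ^ 2 := by
    intro φ hφ χ h1
    obtain ⟨a, ha⟩ := hsc φ hφ χ
    haveI : NeZero (2 ^ (j + 1)) := ⟨pow_ne_zero _ two_ne_zero⟩
    have hcyc : IsCyc (theRoot 2 j) fun t =>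
        ∑ r ∈ Finset.range (2 ^ (j + 1 - 1)), (a r : ℂ) * (theRoot 2 j ^ r) ^ t :=
      IsCyc.sum _ fun r _ => (IsCyc.intCast (a r)).mul (IsCyc.root_pow hζ (by
        rw [← pow_mul, mul_comm, pow_mul, hζ.pow_eq_one, one_pow]))
    have h := hcyc.card_le_sum_norm_sq Nat.prime_two j.succ_pos hζ fun h0 => h1 (by
      rw [ha 1 hM.1.not_dvd_one, h0, mul_zero])
    rw [← hU, hφU] at h
    calc (2 : ℝ) ^ j * (2 ^ blockHeight 2 B (φ : G → ℂ)) ^ 2
        ≤ (∑ t ∈ U, ‖∑ r ∈ Finset.range (2 ^ (j + 1 - 1)),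
            (a r : ℂ) * (theRoot 2 j ^ r) ^ t‖ ^ 2) * (2 ^ blockHeight 2 B (φ : G → ℂ)) ^ 2 :=
          mul_le_mul_of_nonneg_right h (by positivity)
      _ = _ := by
          rw [Finset.sum_mul]
          refine Finset.sum_congr rfl fun t ht => ?_
          rw [ha t (hUt t ht), norm_mul, norm_pow, Complex.norm_two]
          ring
  have hpos : ∀ χ ∈ B, 1 ≤ n χ := fun χ hχ => by
    have h : (2 : ℝ) ^ j * (2 ^ blockHeight 2 B (ψ₀ : G → ℂ)) ^ 2 ≤
        (2 : ℝ) ^ j * (2 ^ blockDefect 2 b * (n χ : ℝ)) := by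
      rw [← hsq χ hχ]
      refine (hentry ψ₀ hψ₀ χ fun h0 => hne χ hχ ψ₀ hψ₀ h00 ?_).trans
        (Finset.single_le_sum (f := fun φ => ∑ t ∈ U, ‖F φ χ t‖ ^ 2)
          (fun φ _ => Finset.sum_nonneg fun t _ => sq_nonneg _) (Set.mem_toFinset.2 hψ₀))
      rw [← hherm ψ₀ χ 1 hM.1.not_dvd_one, h0, map_zero]
    rw [h00, pow_zero, one_pow] at h
    have h2 : (0 : ℝ) < (n χ : ℝ) := pos_of_mul_pos_right
      (lt_of_lt_of_le one_pos (le_of_mul_le_mul_left h (by positivity))) (by positivity)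
    exact_mod_cast h2
  set S₀ := B.toFinset.filter fun χ : IrrCharacter G => blockHeight 2 B (χ : G → ℂ) = 0 with hS₀
  set S₁ := B.toFinset.filter fun χ : IrrCharacter G => ¬ blockHeight 2 B (χ : G → ℂ) = 0 with hS₁
  have hsplit : ∀ (f : IrrCharacter G → ℝ), ∑ χ ∈ B.toFinset, f χ = ∑ χ ∈ S₀, f χ + ∑ χ ∈ S₁, f χ :=
    fun f => (Finset.sum_filter_add_sum_filter_not _ _ _).symm
  rw [← hmaj]
  suffices h : (3 : ℝ) * S₀.card + 2 * ∑ χ ∈ S₁, (2 : ℝ) ^ blockHeight 2 B (χ : G → ℂ) ≤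
      3 * (2 : ℝ) ^ blockDefect 2 b by exact_mod_cast h
  by_cases hone : ∃ χ ∈ S₀, n χ = 1
  · obtain ⟨χ, hχ, hn1⟩ := hone
    rw [hS₀, Finset.mem_filter, Set.mem_toFinset] at hχ
    have hle : ∀ φ ∈ B.toFinset,
        (2 : ℝ) ^ j * (2 ^ blockHeight 2 B (φ : G → ℂ)) ^ 2 ≤ ∑ t ∈ U, ‖F φ χ t‖ ^ 2 :=
      fun φ hφ => hentry φ (Set.mem_toFinset.1 hφ) χ (hne φ (Set.mem_toFinset.1 hφ) χ hχ.1 hχ.2)
    have h := Finset.sum_le_sum hle
    rw [hsq χ hχ.1, hn1, ← Finset.mul_sum, Int.cast_one, mul_one] at h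
    have h' := le_of_mul_le_mul_left h (by positivity)
    rw [hsplit, Finset.sum_congr rfl (g := fun _ => (1 : ℝ)) fun φ hφ => by
      rw [hS₀, Finset.mem_filter] at hφ; rw [hφ.2]; norm_num] at h'
    simp only [Finset.sum_const, nsmul_eq_mul, mul_one] at h'
    have h2 : ∑ φ ∈ S₁, 2 * (2 : ℝ) ^ blockHeight 2 B (φ : G → ℂ) ≤
        ∑ φ ∈ S₁, 3 * ((2 : ℝ) ^ blockHeight 2 B (φ : G → ℂ)) ^ 2 :=
      Finset.sum_le_sum fun φ _ => by
        nlinarith [one_le_pow₀ (n := blockHeight 2 B (φ : G → ℂ)) (one_le_two (α := ℝ))]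
    rw [← Finset.mul_sum, ← Finset.mul_sum] at h2
    linarith
  · push Not at hone
    have h0 : ∀ χ ∈ S₀, (3 : ℝ) ≤ (n χ : ℝ) := fun χ hχ => by
      have hne1 := hone χ hχ
      rw [hS₀, Finset.mem_filter, Set.mem_toFinset] at hχ
      have h1 := hpos χ hχ.1
      have h2 : ¬ 2 ∣ n χ := fun h => by
        refine not_memLocalIdeal_mul (mem_localRing.1 (mul_mem (mem_localRing.2 hlR)
          (mem_localRing.2 (hVR χ)))) (hVR χ) (not_memLocalIdeal_mul hlR (hVR χ) hlU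
            (hV χ hχ.1 hχ.2)) (hV χ hχ.1 hχ.2) ?_
        simpa using memLocalIdeal_sub (memLocalIdeal_add (hnI χ)
          ((memLocalIdeal_intCast_iff hM (n χ)).2 (by simpa using h))) (hl' χ χ)
      have : (3 : ℤ) ≤ n χ := by omega
      exact_mod_cast this
    have h1 : ∀ χ ∈ S₁, 2 * (2 : ℝ) ^ blockHeight 2 B (χ : G → ℂ) ≤ (n χ : ℝ) := fun χ hχ => by
      rw [hS₁, Finset.mem_filter, Set.mem_toFinset] at hχ
      obtain ⟨a, ha⟩ := hsc χ hχ.1 χ
      have hreal : ∀ t, ¬ 2 ∣ t →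
          conj (∑ r ∈ Finset.range (2 ^ (j + 1 - 1)), (a r : ℂ) * (theRoot 2 j ^ r) ^ t) =
            ∑ r ∈ Finset.range (2 ^ (j + 1 - 1)), (a r : ℂ) * (theRoot 2 j ^ r) ^ t := fun t ht => by
        have h := hherm χ χ t ht
        rw [ha t ht, map_mul, map_pow, Complex.conj_ofNat] at h
        exact mul_left_cancel₀ (pow_ne_zero _ two_ne_zero) h
      have hna : n χ = 2 ^ blockHeight 2 B (χ : G → ℂ) * a 0 := by
        have h := hn χ
        rw [hU, Finset.sum_congr (s₁ := primResidues 2 (j + 1)) rfl fun t ht => ha t (hUt t ht),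
          ← Finset.mul_sum, sum_coeff_two j.succ_pos hζ, Nat.succ_sub_one, mul_left_comm] at h
        exact_mod_cast (mul_left_cancel₀ (pow_ne_zero j two_ne_zero) h).symm
      obtain ⟨Ω, hΩR, hΩ, hΩc⟩ := exists_major_factor hM ⟨j, hz⟩ hC hb hmaj χ
      have hΩI : MemLocalIdeal M (Ω χ) := by
        have hI : MemLocalIdeal M (F ψ₀ χ 1) := by
          have h := memLocalIdeal_add (hl' ψ₀ χ) (memLocalIdeal_mul_left (mem_localRing.1
            (mul_mem (mem_localRing.2 hlR) (mem_localRing.2 (hVR ψ₀)))) (hVI χ hχ.1 hχ.2))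
          rwa [sub_add_cancel] at h
        rw [hFc ψ₀ χ 1 hM.1.not_dvd_one, pow_one, hΩ ψ₀ hψ₀] at hI
        have hΩ0 : MemLocalIdeal M (Ω ψ₀) := by
          by_contra hbad
          exact not_memLocalIdeal_mul (degree_div_mem hM hψ₀) (hΩR ψ₀)
            (degree_div_not_mem hM hψ₀ h00) hbad hI
        simpa using memLocalIdeal_add (hΩc χ hχ.1 ψ₀ hψ₀) hΩ0
      have ha0 : (2 : ℤ) ∣ a 0 := by
        have hc := sum_coeff_congr hM hζ (2 ^ (j + 1 - 1)) a 1
        rw [sum_coeff_two_of_real j.succ_pos hζ a hreal] at hc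
        have hy : MemLocalIdeal M
            (∑ r ∈ Finset.range (2 ^ (j + 1 - 1)), (a r : ℂ) * (theRoot 2 j ^ r) ^ 1) := by
          have e1 := ha 1 hM.1.not_dvd_one
          rw [hFc χ χ 1 hM.1.not_dvd_one, pow_one, hΩ χ hχ.1, (exists_degree_eq χ).1] at e1
          have he := minExp_add_blockHeight_le (p := 2) hχ.1
          have hdiv : MemLocalRing M ((charDegree (χ : G → ℂ) : ℂ) /
              ((2 ^ (minExp 2 B + blockHeight 2 B (χ : G → ℂ)) : ℕ) : ℂ)) :=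
            mem_localRing.1 (natCast_div_mem_localRing hM (pow_ne_zero _ two_ne_zero)
              (Or.inl (by rw [Nat.prime_two.factorization_pow, Finsupp.single_eq_same]; exact he)))
          have h := memLocalIdeal_mul_left hdiv hΩI
          convert h using 1
          refine mul_left_cancel₀ (pow_ne_zero (blockHeight 2 B (χ : G → ℂ)) (two_ne_zero (α := ℂ))) ?_
          rw [← e1]
          push_cast
          rw [pow_add]
          field_simp
        have h := memLocalIdeal_sub hy hc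
        rw [sub_sub_cancel] at h
        simpa using (memLocalIdeal_intCast_iff hM (a 0)).1 h
      have h1 := hpos χ hχ.1
      rw [hna] at h1
      have h2 : (2 : ℤ) ≤ a 0 := by
        have : 0 < a 0 := pos_of_mul_pos_right (lt_of_lt_of_le one_pos h1) (by positivity)
        omega
      have : 2 * (2 : ℤ) ^ blockHeight 2 B (χ : G → ℂ) ≤ n χ := by
        rw [hna, mul_comm]
        exact mul_le_mul_of_nonneg_left h2 (by positivity)
      exact_mod_cast this
    have htot : ∑ χ ∈ B.toFinset, (n χ : ℝ) = 2 ^ blockDefect 2 b * (blockRank 2 b : ℝ) := by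
      have h : ∑ t ∈ U, ∑ χ ∈ B.toFinset, F χ χ t =
          ((2 : ℂ) ^ j) * ((2 : ℂ) ^ blockDefect 2 b * (blockRank 2 b : ℂ)) := by
        rw [Finset.sum_congr rfl fun t ht => htr t (hUt t ht), Finset.sum_const, nsmul_eq_mul,
          Nat.cast_ofNat, show ((U.card : ℕ) : ℂ) = ((U.card : ℝ) : ℂ) by simp, hφU]
        push_cast
        ring
      rw [Finset.sum_comm, Finset.sum_congr rfl fun χ _ => hn χ, ← Finset.mul_sum] at h
      apply Complex.ofReal_injective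
      push_cast
      exact mul_left_cancel₀ (pow_ne_zero j two_ne_zero) h
    rw [hsplit] at htot
    have e0 := Finset.sum_le_sum h0
    have e1 := Finset.sum_le_sum h1
    rw [Finset.sum_const, nsmul_eq_mul] at e0
    rw [← Finset.mul_sum] at e1
    have e2 : (2 : ℝ) ^ blockDefect 2 b * (blockRank 2 b : ℝ) ≤ 2 ^ blockDefect 2 b * 3 :=
      mul_le_mul_of_nonneg_left (by exact_mod_cast hl) (by positivity)
    linarith

end Cfsg.Agent.Lib.Contrib
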