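import Mathlib
import Cfsg.Agent.Lib.Contrib.HeightBound
import Cfsg.Agent.Lib.Blocks.DefectCard

/-!
# A major subsection of a `2`-block whose rank falls short of the number of characters by at most
three

The complement of the scaled contribution matrix is a multiple of a projection of rank at most three.
-/

set_option autoImplicit false

namespace Cfsg.Agent.Lib.Contrib

open Cfsg
open Cfsg.Agent.Lib
open Cfsg.Agent.Lib.Blocks
open scoped ComplexConjugate

attribute [local instance] Classical.propDecidable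

universe u

variable {G : Type u} [Group G] [Fintype G] {M : Ideal AlgInt} [M.IsPrime]
  {C : Subgroup G} [Fintype C] {z : G} {j : ℕ} {b : Set (IrrCharacter C)} {B : Set (IrrCharacter G)}

theorem card_le_of_corank_le_three (hM : IsPModular 2 M) (hz : orderOf z = 2 ^ j)
    (hC : C = Subgroup.centralizer ({z} : Set G)) (hb : IsInducedBlock M C b B)
    (hmaj : blockDefect 2 b = blockDefect 2 B) (hl : B.toFinset.card ≤ blockRank 2 b + 3) :
    B.toFinset.card ≤ 2 ^ blockDefect 2 B := by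
  obtain ⟨ψ₀, hψ₀, h00⟩ := Blocks.exists_height_zero (p := 2) hb.2.1
  by_cases hd0 : blockDefect 2 B = 0
  · have hB : B = {ψ₀} := by
      obtain ⟨-, h0, hdvd⟩ := exists_degree_eq ψ₀
      rw [Blocks.eq_blockOf_of_mem hb.2.1 hψ₀]
      refine blockOf_eq_singleton_of_defect_zero hM ψ₀ fun h => ?_
      have h1 := BrauerFeit.factorization_add_defect (p := 2) hψ₀
      have h2 := (Nat.prime_two.dvd_iff_one_le_factorization (n := Nat.card G / charDegree (ψ₀ : G → ℂ))
        (Nat.div_pos (Nat.le_of_dvd Nat.card_pos hdvd) (Nat.pos_of_ne_zero h0)).ne').1 h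
      rw [Nat.factorization_div hdvd, Finsupp.tsub_apply] at h2
      omega
    subst hB
    simp [hd0]
  obtain ⟨F, lam, hF, hFc, hherm, hidem, htr, hlR, hlU, hl'⟩ :=
    exists_family (p := 2) hM hz hC hb
  obtain ⟨hVI, hne⟩ := major_facts hM hz hC hb hmaj hFc hlR hlU hl'
  have hζ := isPrimitiveRoot_theRoot 2 j
  set U := primResidues 2 (j + 1) with hU
  have hφU : (U.card : ℝ) = 2 ^ j := by
    rw [hU, card_primResidues Nat.prime_two j.succ_pos]
    simp
  have hφC : (U.card : ℂ) = 2 ^ j := by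
    rw [show ((U.card : ℕ) : ℂ) = ((U.card : ℝ) : ℂ) by simp, hφU]
    push_cast
    ring
  have hUt : ∀ t ∈ U, ¬ 2 ∣ t := fun t ht => (Finset.mem_filter.1 ht).2
  have hVR : ∀ χ : IrrCharacter G, MemLocalRing M (blockVal 2 b fun c : C => (χ : G → ℂ) c) :=
    fun χ => memLocalRing_blockVal hM b (Chars.isCharacter_restrict _ (Chars.irr_isCharacter χ))
  have hV : ∀ ψ ∈ B, blockHeight 2 B (ψ : G → ℂ) = 0 →
      ¬ MemLocalIdeal M (blockVal 2 b fun c : C => (ψ : G → ℂ) c) := by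
    subst hC
    exact fun ψ hψ h0 => blockVal_subsection hM ⟨j, hz⟩ hb hψ h0
  set q : ℕ := 2 ^ blockDefect 2 b with hq
  have hq2 : (2 : ℤ) ∣ (q : ℤ) := by
    rw [hq, hmaj]
    push_cast
    exact dvd_pow_self 2 hd0
  have hqI : MemLocalIdeal M ((q : ℤ) : ℂ) := (memLocalIdeal_intCast_iff hM _).2 hq2
  -- the complementary matrix
  set F' : IrrCharacter G → IrrCharacter G → ℕ → ℂ :=
    fun χ ψ t => (if χ = ψ then ((q : ℤ) : ℂ) else 0) - F χ ψ t with hF'
  have hF'cyc : ∀ χ ψ, IsCyc (theRoot 2 j) (F' χ ψ) := by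
    intro χ ψ
    have h := (IsCyc.intCast (ζ := theRoot 2 j) (if χ = ψ then (q : ℤ) else 0)).add
      ((hF χ ψ).mul (IsCyc.intCast (ζ := theRoot 2 j) (-1)))
    convert h using 1
    funext t
    simp only [hF']
    split_ifs <;> push_cast <;> ring
  have hherm' : ∀ χ ψ t, ¬ 2 ∣ t → conj (F' χ ψ t) = F' ψ χ t := by
    intro χ ψ t ht
    simp only [hF', map_sub, apply_ite (starRingEnd ℂ), map_intCast, map_zero, hherm χ ψ t ht,
      eq_comm (a := χ)]
  have hidem' : ∀ χ ∈ B, ∀ ψ ∈ B, ∀ t, ¬ 2 ∣ t →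
      ∑ φ ∈ B.toFinset, F' χ φ t * F' φ ψ t = ((q : ℤ) : ℂ) * F' χ ψ t := by
    intro χ hχ ψ hψ t ht
    have hrow : ∀ φ, F' χ φ t * F' φ ψ t =
        (if χ = φ then ((q : ℤ) : ℂ) else 0) * F' φ ψ t -
          F χ φ t * (if φ = ψ then ((q : ℤ) : ℂ) else 0) + F χ φ t * F φ ψ t := fun φ => by
      simp only [hF']
      ring
    simp only [hrow, Finset.sum_add_distrib, Finset.sum_sub_distrib, ite_mul, zero_mul, mul_ite,
      mul_zero, Finset.sum_ite_eq, Finset.sum_ite_eq', Set.mem_toFinset, hχ, hψ, if_true,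
      hidem χ ψ t ht]
    rw [hq]
    push_cast
    simp only [hF']
    ring
  have hmean : ∀ χ : IrrCharacter G, ∃ n : ℤ, ∑ t ∈ U, F' χ χ t = (2 : ℂ) ^ j * (n : ℂ) ∧
      MemLocalIdeal M (F' χ χ 1 - (n : ℂ)) := fun χ => by
    simpa using (hF'cyc χ χ).exists_mean_two hM j.succ_pos hζ fun t ht => hherm' χ χ t ht
  choose n hn hnI using hmean
  have hsq : ∀ χ ∈ B, ((∑ φ ∈ B.toFinset, ∑ t ∈ U, ‖F' φ χ t‖ ^ 2 : ℝ)) =
      (2 : ℝ) ^ j * ((q : ℝ) * (n χ : ℝ)) := fun χ hχ => by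
    rw [Finset.sum_comm]
    have h1 : ∀ t ∈ U, ((∑ φ ∈ B.toFinset, ‖F' φ χ t‖ ^ 2 : ℝ) : ℂ) =
        ((q : ℤ) : ℂ) * F' χ χ t := fun t ht => by
      rw [← hidem' χ hχ χ hχ t (hUt t ht), Complex.ofReal_sum]
      refine Finset.sum_congr rfl fun φ _ => ?_
      rw [← hherm' φ χ t (hUt t ht), mul_comm, Complex.mul_conj, Complex.normSq_eq_norm_sq]
    have h2 := Finset.sum_congr (s₁ := U) rfl h1
    rw [← Finset.mul_sum, hn χ, ← Complex.ofReal_sum] at h2
    apply Complex.ofReal_injective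
    rw [h2]
    push_cast
    ring
  have hne' : ∀ φ ∈ B, ∀ ψ ∈ B, blockHeight 2 B (ψ : G → ℂ) = 0 → F' φ ψ 1 ≠ 0 := by
    intro φ hφ ψ hψ h0 hzero
    simp only [hF'] at hzero
    split_ifs at hzero with he
    · subst he
      refine not_memLocalIdeal_mul (mem_localRing.1 (mul_mem (mem_localRing.2 hlR)
        (mem_localRing.2 (hVR φ)))) (hVR φ) (not_memLocalIdeal_mul hlR (hVR φ) hlU
          (hV φ hφ h0)) (hV φ hφ h0) ?_
      have h := memLocalIdeal_sub hqI (hl' φ φ)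
      rw [← sub_eq_zero.1 hzero] at h
      simpa using h
    · exact hne φ hφ ψ hψ h0 (by simpa using hzero)
  have hentry : ∀ φ ∈ B, ∀ χ ∈ B, F' φ χ 1 ≠ 0 → (2 : ℝ) ^ j ≤ ∑ t ∈ U, ‖F' φ χ t‖ ^ 2 := by
    intro φ _ χ _ h1
    have h := (hF'cyc φ χ).card_le_sum_norm_sq Nat.prime_two j.succ_pos hζ h1
    rwa [← hU, hφU] at h
  have hpos : ∀ χ ∈ B, 1 ≤ n χ := fun χ hχ => by
    have h : (2 : ℝ) ^ j ≤ (2 : ℝ) ^ j * ((q : ℝ) * (n χ : ℝ)) := by
      rw [← hsq χ hχ]
      refine (hentry ψ₀ hψ₀ χ hχ fun h0 => hne' χ hχ ψ₀ hψ₀ h00 ?_).trans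
        (Finset.single_le_sum (f := fun φ => ∑ t ∈ U, ‖F' φ χ t‖ ^ 2)
          (fun φ _ => Finset.sum_nonneg fun t _ => sq_nonneg _) (Set.mem_toFinset.2 hψ₀))
      rw [← hherm' ψ₀ χ 1 hM.1.not_dvd_one, h0, map_zero]
    have h2 : (0 : ℝ) < (n χ : ℝ) := pos_of_mul_pos_right
      (pos_of_mul_pos_right (lt_of_lt_of_le (by positivity) h) (by positivity)) (by positivity)
    exact_mod_cast h2
  rw [← hmaj, ← hq]
  suffices h : (B.toFinset.card : ℝ) ≤ (q : ℝ) by exact_mod_cast h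
  by_cases hone : ∃ χ ∈ B, blockHeight 2 B (χ : G → ℂ) = 0 ∧ n χ = 1
  · obtain ⟨χ, hχ, h0, hn1⟩ := hone
    have h := Finset.sum_le_sum fun φ hφ => hentry φ (Set.mem_toFinset.1 hφ) χ hχ
      (hne' φ (Set.mem_toFinset.1 hφ) χ hχ h0)
    rw [hsq χ hχ, hn1, Finset.sum_const, nsmul_eq_mul, Int.cast_one, mul_one, mul_comm] at h
    exact le_of_mul_le_mul_left h (by positivity)
  push Not at hone
  have h3 : ∀ χ ∈ B, 3 ≤ n χ := by
    intro χ hχ
    by_cases h0 : blockHeight 2 B (χ : G → ℂ) = 0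
    · have hne1 := hone χ hχ h0
      have h1 := hpos χ hχ
      have h2 : ¬ 2 ∣ n χ := fun h => by
        refine not_memLocalIdeal_mul (mem_localRing.1 (mul_mem (mem_localRing.2 hlR)
          (mem_localRing.2 (hVR χ)))) (hVR χ) (not_memLocalIdeal_mul hlR (hVR χ) hlU
            (hV χ hχ h0)) (hV χ hχ h0) ?_
        have hI := memLocalIdeal_sub hqI (memLocalIdeal_add (hnI χ)
          ((memLocalIdeal_intCast_iff hM (n χ)).2 (by simpa using h)))
        have h' := memLocalIdeal_sub hI (hl' χ χ)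
        simp only [hF'] at h'
        simpa using h'
      omega
    -- at positive height both means are divisible by four
    obtain ⟨Ω, hΩR, hΩ, hΩc⟩ := exists_major_factor hM ⟨j, hz⟩ hC hb hmaj χ
    have he := minExp_add_blockHeight_le (p := 2) hχ
    have hdiv : MemLocalRing M ((charDegree (χ : G → ℂ) : ℂ) /
        ((2 ^ (minExp 2 B + blockHeight 2 B (χ : G → ℂ)) : ℕ) : ℂ)) :=
      mem_localRing.1 (natCast_div_mem_localRing hM (pow_ne_zero _ two_ne_zero)
        (Or.inl (by rw [Nat.prime_two.factorization_pow, Finsupp.single_eq_same]; exact he)))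
    obtain ⟨a, ha⟩ := (hF χ χ).exists_coeff_two_pow hM j.succ_pos hζ
      (h := blockHeight 2 B (χ : G → ℂ))
      (y := (charDegree (χ : G → ℂ) : ℂ) /
        ((2 ^ (minExp 2 B + blockHeight 2 B (χ : G → ℂ)) : ℕ) : ℂ) * Ω χ)
      (mem_localRing.1 (mul_mem (mem_localRing.2 hdiv) (mem_localRing.2 (hΩR χ)))) (by
        rw [hFc χ χ 1 hM.1.not_dvd_one, pow_one, hΩ χ hχ, (exists_degree_eq χ).1]
        push_cast
        rw [pow_add]
        field_simp
        try ring)
    have hreal : ∀ t, ¬ 2 ∣ t →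
        conj (∑ r ∈ Finset.range (2 ^ (j + 1 - 1)), (a r : ℂ) * (theRoot 2 j ^ r) ^ t) =
          ∑ r ∈ Finset.range (2 ^ (j + 1 - 1)), (a r : ℂ) * (theRoot 2 j ^ r) ^ t := fun t ht => by
      have h := hherm χ χ t ht
      rw [ha t ht, map_mul, map_pow, Complex.conj_ofNat] at h
      exact mul_left_cancel₀ (pow_ne_zero _ two_ne_zero) h
    have hna : n χ = (q : ℤ) - 2 ^ blockHeight 2 B (χ : G → ℂ) * a 0 := by
      have h := hn χ
      simp only [hF', if_true] at h
      rw [hU, Finset.sum_sub_distrib, Finset.sum_const, nsmul_eq_mul, ← hU, hφC,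
        Finset.sum_congr (s₁ := U) rfl fun t ht => ha t (hUt t ht),
        ← Finset.mul_sum, hU, sum_coeff_two j.succ_pos hζ, Nat.succ_sub_one, mul_left_comm,
        ← mul_sub] at h
      exact_mod_cast (mul_left_cancel₀ (pow_ne_zero j two_ne_zero) h).symm
    have hΩI : MemLocalIdeal M (Ω χ) := by
      have hI : MemLocalIdeal M (F ψ₀ χ 1) := by
        have h := memLocalIdeal_add (hl' ψ₀ χ) (memLocalIdeal_mul_left (mem_localRing.1
          (mul_mem (mem_localRing.2 hlR) (mem_localRing.2 (hVR ψ₀)))) (hVI χ hχ h0))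
        rwa [sub_add_cancel] at h
      rw [hFc ψ₀ χ 1 hM.1.not_dvd_one, pow_one, hΩ ψ₀ hψ₀] at hI
      have hΩ0 : MemLocalIdeal M (Ω ψ₀) := by
        by_contra hbad
        exact not_memLocalIdeal_mul (degree_div_mem hM hψ₀) (hΩR ψ₀)
          (degree_div_not_mem hM hψ₀ h00) hbad hI
      simpa using memLocalIdeal_add (hΩc χ hχ ψ₀ hψ₀) hΩ0
    have ha0 : (2 : ℤ) ∣ a 0 := by
      have hc := sum_coeff_congr hM hζ (2 ^ (j + 1 - 1)) a 1
      rw [sum_coeff_two_of_real j.succ_pos hζ a hreal] at hc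
      have hy : MemLocalIdeal M
          (∑ r ∈ Finset.range (2 ^ (j + 1 - 1)), (a r : ℂ) * (theRoot 2 j ^ r) ^ 1) := by
        have e1 := ha 1 hM.1.not_dvd_one
        rw [hFc χ χ 1 hM.1.not_dvd_one, pow_one, hΩ χ hχ, (exists_degree_eq χ).1] at e1
        have h := memLocalIdeal_mul_left hdiv hΩI
        convert h using 1
        refine mul_left_cancel₀ (pow_ne_zero (blockHeight 2 B (χ : G → ℂ)) (two_ne_zero (α := ℂ))) ?_
        rw [← e1]
        push_cast
        rw [pow_add]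
        field_simp
      have h := memLocalIdeal_sub hy hc
      rw [sub_sub_cancel] at h
      simpa using (memLocalIdeal_intCast_iff hM (a 0)).1 h
    obtain ⟨a', ha'⟩ := ha0
    have h4 : (4 : ℤ) ∣ 2 ^ blockHeight 2 B (χ : G → ℂ) * a 0 := by
      rw [ha', show (4 : ℤ) = 2 * 2 by norm_num]
      exact mul_dvd_mul (dvd_pow_self 2 h0) (dvd_mul_right 2 a')
    have h1 := hpos χ hχ
    have hnF : 0 < 2 ^ blockHeight 2 B (χ : G → ℂ) * a 0 := by
      have hval : ((∑ φ ∈ B.toFinset, ∑ t ∈ U, ‖F φ χ t‖ ^ 2 : ℝ) : ℂ) =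
          (((2 : ℤ) ^ j * ((q : ℤ) * (2 ^ blockHeight 2 B (χ : G → ℂ) * a 0)) : ℤ) : ℂ) := by
        rw [Finset.sum_comm, Complex.ofReal_sum,
          Finset.sum_congr rfl (g := fun t => ((q : ℤ) : ℂ) * F χ χ t) fun t ht => ?_,
          ← Finset.mul_sum, hU,
          Finset.sum_congr rfl fun t ht => ha t (hUt t (hU ▸ ht)), ← Finset.mul_sum,
          sum_coeff_two j.succ_pos hζ, Nat.succ_sub_one]
        · push_cast
          ring
        · rw [show ((q : ℤ) : ℂ) = ((2 : ℕ) : ℂ) ^ blockDefect 2 b by rw [hq]; push_cast; rfl,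
            ← hidem χ χ t (hUt t ht), Complex.ofReal_sum]
          refine Finset.sum_congr rfl fun φ _ => ?_
          rw [← hherm φ χ t (hUt t ht), mul_comm, Complex.mul_conj, Complex.normSq_eq_norm_sq]
      have hne1 : F ψ₀ χ 1 ≠ 0 := fun h => hne χ hχ ψ₀ hψ₀ h00 (by
        rw [← hherm ψ₀ χ 1 hM.1.not_dvd_one, h, map_zero])
      have hlt : (0 : ℝ) < ∑ φ ∈ B.toFinset, ∑ t ∈ U, ‖F φ χ t‖ ^ 2 :=
        Finset.sum_pos' (fun φ _ => Finset.sum_nonneg fun t _ => sq_nonneg _)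
          ⟨ψ₀, Set.mem_toFinset.2 hψ₀, Finset.sum_pos' (fun t _ => sq_nonneg _)
            ⟨1, one_mem_primResidues Nat.prime_two j.succ_pos, by
              have := norm_pos_iff.2 hne1
              positivity⟩⟩
      rw [← Complex.ofReal_intCast, Complex.ofReal_inj] at hval
      have h' : (0 : ℤ) < 2 ^ j * ((q : ℤ) * (2 ^ blockHeight 2 B (χ : G → ℂ) * a 0)) := by
        exact_mod_cast hval ▸ hlt
      exact pos_of_mul_pos_right (pos_of_mul_pos_right h' (by positivity)) (by positivity)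
    have h5 : (4 : ℤ) < q := by
      have := Int.le_of_dvd hnF h4
      omega
    have hq4 : (4 : ℤ) ∣ (q : ℤ) := by
      have hd2 : 2 ≤ blockDefect 2 b := by
        by_contra hlt
        have hq' : q ≤ 2 ^ 1 := hq ▸ Nat.pow_le_pow_right two_pos (by omega)
        omega
      rw [hq]
      push_cast
      exact (show (4 : ℤ) = 2 ^ 2 by norm_num) ▸ pow_dvd_pow 2 hd2
    have := dvd_sub hq4 h4
    rw [← hna] at this
    omega
  have htot : ∑ χ ∈ B.toFinset, (n χ : ℝ) =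
      (q : ℝ) * ((B.toFinset.card : ℝ) - (blockRank 2 b : ℝ)) := by
    have h : ∑ t ∈ U, ∑ χ ∈ B.toFinset, F' χ χ t =
        ((2 : ℂ) ^ j) * (((q : ℤ) : ℂ) * ((B.toFinset.card : ℂ) - (blockRank 2 b : ℂ))) := by
      rw [Finset.sum_congr rfl (g := fun _ =>
        ((q : ℤ) : ℂ) * ((B.toFinset.card : ℂ) - (blockRank 2 b : ℂ))) fun t ht => ?_,
        Finset.sum_const, nsmul_eq_mul, hφC]
      simp only [hF', if_true, Finset.sum_sub_distrib, Finset.sum_const, nsmul_eq_mul,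
        htr t (hUt t ht)]
      rw [hq]
      push_cast
      ring
    rw [Finset.sum_comm, Finset.sum_congr rfl fun χ _ => hn χ, ← Finset.mul_sum] at h
    apply Complex.ofReal_injective
    push_cast at h ⊢
    exact mul_left_cancel₀ (pow_ne_zero j two_ne_zero) h
  have e0 : ∑ _χ ∈ B.toFinset, (3 : ℝ) ≤ ∑ χ ∈ B.toFinset, (n χ : ℝ) :=
    Finset.sum_le_sum fun χ hχ => by exact_mod_cast h3 χ (Set.mem_toFinset.1 hχ)
  rw [Finset.sum_const, nsmul_eq_mul, htot] at e0
  have e2 : (q : ℝ) * ((B.toFinset.card : ℝ) - (blockRank 2 b : ℝ)) ≤ q * 3 :=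
    mul_le_mul_of_nonneg_left (by
      have : (B.toFinset.card : ℝ) ≤ (blockRank 2 b : ℝ) + 3 := by exact_mod_cast hl
      linarith) (by positivity)
  linarith

end Cfsg.Agent.Lib.Contrib
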