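import Mathlib
import Cfsg.Agent.Lib.Contrib.BlockRestrict
import Cfsg.Agent.Lib.CharExt.Obstruction
import Cfsg.Agent.Lib.OsimaConverse.Twist

/-!
# Extensions of principal-block characters over a supplemented normal subgroup

If every coset of `N` has an orbit of length prime to `p` under `N`, the scalars by which the
`N`-fixed part of the group algebra acts on an extension of a principal-block character differ from
the augmentation by a linear character of `G / N`.
-/

set_option autoImplicit false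
set_option linter.unusedSectionVars false

namespace Cfsg.Agent.Lib.Contrib.Supplement

open MonoidAlgebra

attribute [local instance] Classical.propDecidable

variable {p : ℕ} [Fact p.Prime] {k : Type*} [Field k] [CharP k p] {G : Type*} [Group G] [Fintype G]
  (N : Subgroup G) [N.Normal]

/-- The coefficients are constant on the orbits of `N`. -/
def Fixed {R : Type*} [Semiring R] {G : Type*} [Group G] (N : Subgroup G)
    (z : MonoidAlgebra R G) : Prop :=
  ∀ (n : N) (g : G), z.coeff ((n : G) * g * (n : G)⁻¹) = z.coeff g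

theorem fixed_iff_single {R : Type*} [CommRing R] (z : MonoidAlgebra R G) :
    Fixed N z ↔ ∀ n : N, z * single (n : G) 1 = single (n : G) 1 * z := by
  constructor
  · intro h n
    ext x
    simp only [coeff_mul_single_apply, coeff_single_mul_apply, one_mul, mul_one]
    have := h n ((n : G)⁻¹ * x)
    simpa [mul_assoc] using this
  · intro h n g
    have := congrArg (fun y => y.coeff ((n : G) * g)) (h n)
    simp only [coeff_mul_single_apply, coeff_single_mul_apply, one_mul, mul_one,
      inv_mul_cancel_left] at this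
    exact this

theorem fixed_mul {R : Type*} [CommRing R] {z w : MonoidAlgebra R G} (hz : Fixed N z)
    (hw : Fixed N w) : Fixed N (z * w) := by
  rw [fixed_iff_single] at hz hw ⊢
  intro n
  rw [mul_assoc, hw, ← mul_assoc, hz, mul_assoc]

theorem fixed_iff_incl (z : MonoidAlgebra k G) :
    Fixed N z ↔ ∀ b, z * incl k N b = incl k N b * z := by
  rw [fixed_iff_single]
  constructor
  · intro h b
    induction b using MonoidAlgebra.induction_linear with
    | zero => simp
    | add x y hx hy => rw [map_add, mul_add, add_mul, hx, hy]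
    | single n r =>
      rw [show single n r = r • single n (1 : k) by rw [MonoidAlgebra.smul_single', mul_one],
        map_smul, mul_smul_comm, smul_mul_assoc]
      simpa using congrArg (r • ·) (h n)
  · intro h n
    simpa using h (single n 1)

open Classical in
/-- The component in a coset. -/
noncomputable def comp {R : Type*} [Semiring R] {G : Type*} [Group G] [Fintype G] (N : Subgroup G)
    (x : G ⧸ N) (z : MonoidAlgebra R G) : MonoidAlgebra R G :=
  ∑ g ∈ Finset.univ.filter (fun g : G => (g : G ⧸ N) = x), single g (z.coeff g)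

open Classical in
theorem coeff_comp {R : Type*} [Semiring R] (x : G ⧸ N) (z : MonoidAlgebra R G) (g : G) :
    (comp N x z).coeff g = if (g : G ⧸ N) = x then z.coeff g else 0 := by
  simp [comp, MonoidAlgebra.coeff_sum, Finsupp.single_apply]

theorem sum_comp {R : Type*} [Semiring R] (z : MonoidAlgebra R G) : ∑ x, comp N x z = z := by
  classical
  ext g
  simp [MonoidAlgebra.coeff_sum, coeff_comp]

theorem fixed_comp {R : Type*} [Semiring R] {z : MonoidAlgebra R G} (hz : Fixed N z) (x : G ⧸ N) :
    Fixed N (comp N x z) := by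
  classical
  intro n g
  rw [coeff_comp, coeff_comp, hz n g, QuotientGroup.mk_mul, QuotientGroup.mk_mul,
    QuotientGroup.mk_inv, (QuotientGroup.eq_one_iff (n : G)).2 n.2, one_mul, inv_one, mul_one]

theorem deg_comp (x : G ⧸ N) (z : MonoidAlgebra k G) : Deg k N x (comp N x z) := by
  classical
  obtain ⟨g₀, rfl⟩ := QuotientGroup.mk_surjective x
  have hmem : ∀ g : G, (g : G ⧸ N) = g₀ → g * g₀⁻¹ ∈ N := fun g hg => by
    rw [← QuotientGroup.eq_one_iff, QuotientGroup.mk_mul, QuotientGroup.mk_inv, hg, mul_inv_cancel]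
  refine ⟨g₀, rfl, ∑ g : {g : G // (g : G ⧸ N) = g₀},
    single (⟨(g : G) * g₀⁻¹, hmem g g.2⟩ : N) (z.coeff g), ?_⟩
  rw [comp, map_sum, Finset.sum_mul, Finset.sum_subtype (p := fun g : G => (g : G ⧸ N) = g₀)
    (Finset.univ.filter fun g : G => (g : G ⧸ N) = g₀) (fun g => by simp) fun g => single g (z.coeff g)]
  exact Finset.sum_congr rfl fun g _ => by simp

variable {e : MonoidAlgebra k N} (hec : e ∈ Subalgebra.center k (MonoidAlgebra k N))
  (he : IsIdempotentElem e) (he1 : aug k N e = 1)
  (hloc : ∀ z ∈ Subalgebra.center k (MonoidAlgebra k N), aug k N z = 1 → IsNilpotent (e * (z - 1)))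
  (hrep : ∀ x : G ⧸ N, ∃ c : G, (c : G ⧸ N) = x ∧ ∃ S : Finset G, ¬ p ∣ S.card ∧
    (∀ s ∈ S, (s : G ⧸ N) = x) ∧ ∀ (n : N), ∀ s ∈ S, (n : G) * s * (n : G)⁻¹ ∈ S)

include hec he he1 hloc hrep

/-- An algebra map on the fixed elements restricting to the augmentation on the centre of `k N` is
the augmentation twisted by a homomorphism on `G / N`. -/
theorem exists_twist (ω : MonoidAlgebra k G →ₗ[k] k)
    (hmul : ∀ z w, Fixed N z → Fixed N w → ω (z * w) = ω z * ω w)
    (hN : ∀ a ∈ Subalgebra.center k (MonoidAlgebra k N), ω (incl k N a) = aug k N a) :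
    ∃ lam : G ⧸ N →* k, ∀ z, Fixed N z → ω z = ∑ x, lam x * aug k G (comp N x z) := by
  classical
  obtain ⟨V, hV⟩ := exists_orbitSums N hec he he1 hloc hrep
  choose hVE hVaug hVdeg hVφ using hV
  have hVfix : ∀ x, Fixed N (V x) := fun x => (fixed_iff_incl N _).2 (hVφ x)
  have hone : ∀ z, Fixed N z → Deg k N 1 z → ω z = aug k G z := fun z hz hd => by
    obtain ⟨a, rfl⟩ := hd.exists_incl
    rw [aug_incl]
    refine hN a (Subalgebra.mem_center_iff.2 fun b => incl_injective (k := k) N ?_)
    rw [map_mul, map_mul]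
    exact ((fixed_iff_incl N _).1 hz b).symm
  have hdeg : ∀ x z, Deg k N x z → Deg k N 1 (z * V x⁻¹) := fun x z hz => by
    have := hz.mul N (hVdeg x⁻¹)
    rwa [mul_inv_cancel] at this
  have hinv : ∀ x, ω (V x) * ω (V x⁻¹) = 1 := fun x => by
    rw [← hmul _ _ (hVfix x) (hVfix x⁻¹),
      hone _ (fixed_mul N (hVfix x) (hVfix x⁻¹)) (hdeg x _ (hVdeg x)), map_mul, hVaug, hVaug, one_mul]
  have hcomp : ∀ x z, Fixed N z → Deg k N x z → ω z = ω (V x) * aug k G z := fun x z hz hd => by
    have h := hone _ (fixed_mul N hz (hVfix x⁻¹)) (hdeg x z hd)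
    rw [hmul _ _ hz (hVfix x⁻¹), map_mul, hVaug, mul_one] at h
    rw [← h, mul_comm (ω z), ← mul_assoc, hinv, one_mul]
  have hmulV : ∀ x y, ω (V x) * ω (V y) = ω (V (x * y)) := fun x y => by
    rw [← hmul _ _ (hVfix x) (hVfix y),
      hcomp _ _ (fixed_mul N (hVfix x) (hVfix y)) ((hVdeg x).mul N (hVdeg y)), map_mul, hVaug,
      hVaug, mul_one, mul_one]
  have h1 : ω (V 1) = 1 := by rw [hone _ (hVfix 1) (hVdeg 1), hVaug]
  refine ⟨{ toFun := fun x => ω (V x), map_one' := h1, map_mul' := fun x y => (hmulV x y).symm },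
    fun z hz => ?_⟩
  conv_lhs => rw [← sum_comp N z, map_sum]
  exact Finset.sum_congr rfl fun x _ => hcomp x _ (fixed_comp N hz x) (deg_comp N x z)

end Cfsg.Agent.Lib.Contrib.Supplement

namespace Cfsg.Agent.Lib.Contrib

open Cfsg MonoidAlgebra
open Cfsg.Agent.Lib
open Cfsg.Agent.Lib.Blocks

universe u

attribute [local instance] Classical.propDecidable

variable {G : Type u} [Group G] [Fintype G] {N : Subgroup G} [N.Normal] [Fintype N]

/-- A fixed element of the complex group algebra acts as a scalar on an extension. -/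
theorem omega_mul_of_fixed (ψ : IrrCharacter G) (θ : IrrCharacter N)
    (hext : ∀ n : N, (ψ : G → ℂ) n = (θ : N → ℂ) n) {z : MonoidAlgebra ℂ G}
    (hz : Supplement.Fixed N z) :
    (∀ y : MonoidAlgebra ℂ G,
      omega (ψ : G → ℂ) (z * y) = omega (ψ : G → ℂ) z * omega (ψ : G → ℂ) y) ∧
      ((∀ g, IsIntegral ℤ (z.coeff g)) → IsIntegral ℤ (omega (ψ : G → ℂ) z)) := by
  obtain ⟨n, ρ, hρ, hψ⟩ := ψ.2
  obtain ⟨m, τ, hτ, hθ⟩ := θ.2
  let σ : Representation ℂ N (Fin n → ℂ) := ρ.comp N.subtype
  haveI : σ.IsIrreducible := by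
    obtain ⟨e⟩ := CharExt.nonempty_equiv_of_char_eq τ σ (funext fun x => by
      rw [hθ, ← hext x, ← hψ]
      rfl)
    exact Chars.isIrreducible_of_equiv e
  have hcomm : ∀ h : N, ρ.asAlgebraHom z ∘ₗ σ h = σ h ∘ₗ ρ.asAlgebraHom z := fun h => by
    have := congrArg ρ.asAlgebraHom ((Supplement.fixed_iff_single N z).1 hz h)
    rw [map_mul, map_mul, Representation.asAlgebraHom_single_one] at this
    exact this
  obtain ⟨c, hc⟩ := Chars.exists_scalar_of_commute σ (ρ.asAlgebraHom z) hcomm
  have hne := Chars.irr_apply_one_ne_zero ψ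
  rw [← hψ] at hne ⊢
  have key : ∀ w : MonoidAlgebra ℂ G,
      omega ρ.character w = LinearMap.trace ℂ _ (ρ.asAlgebraHom w) / ρ.character 1 := fun w => by
    simp only [omega_eq_sum, trace_asAlgebraHom, Finset.sum_div, mul_div_assoc']
  have hω : omega ρ.character z = c := by
    rw [key, hc, map_smul, LinearMap.trace_one, smul_eq_mul, ← Representation.char_one ρ,
      mul_div_assoc, div_self hne, mul_one]
  refine ⟨fun y => ?_, fun hint => ?_⟩
  · rw [hω, key (z * y), key y, map_mul, hc, smul_mul_assoc, one_mul, map_smul, smul_eq_mul,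
      mul_div_assoc]
  · let A : Subring ℂ := (integralClosure ℤ ℂ).toSubring
    let zA : MonoidAlgebra A G := ofFun fun g => (⟨z.coeff g, hint g⟩ : A)
    have hzA : mapRingHom G A.subtype zA = z := by ext g; simp [zA]
    have : Algebra.IsIntegral ℤ A := ⟨fun a => (isIntegral_algHom_iff
      (integralClosure ℤ ℂ).val Subtype.val_injective).1 a.2⟩
    haveI : Module.Finite A (MonoidAlgebra A G) :=
      Module.Finite.equiv ((MonoidAlgebra.coeffLinearEquiv A).trans
        (Finsupp.linearEquivFunOnFinite A A G)).symm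
    have h1 : IsIntegral A zA := IsIntegral.of_finite A zA
    let Φ : MonoidAlgebra A G →ₐ[A] Module.End ℂ (Fin n → ℂ) :=
      { toRingHom := (ρ.asAlgebraHom : MonoidAlgebra ℂ G →+* _).comp (mapRingHom G A.subtype)
        commutes' := fun a => by
          show ρ.asAlgebraHom (mapRingHom G A.subtype (algebraMap A (MonoidAlgebra A G) a)) = _
          rw [show mapRingHom G A.subtype (algebraMap A (MonoidAlgebra A G) a) =
            algebraMap ℂ (MonoidAlgebra ℂ G) (a : ℂ) by
              simp [MonoidAlgebra.coe_algebraMap], AlgHom.commutes]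
          rfl }
    have h2 : IsIntegral A (Φ zA) := h1.map Φ
    rw [show Φ zA = algebraMap ℂ (Module.End ℂ (Fin n → ℂ)) c by
      show ρ.asAlgebraHom (mapRingHom G A.subtype zA) = _
      rw [hzA, hc, Algebra.algebraMap_eq_smul_one]] at h2
    haveI := Chars.nontrivial_of_isIrreducible ρ
    have h3 : IsIntegral A c := (isIntegral_algHom_iff
      ((Algebra.ofId ℂ (Module.End ℂ (Fin n → ℂ))).restrictScalars A)
      (algebraMap ℂ (Module.End ℂ (Fin n → ℂ))).injective).1 h2
    rw [hω]
    exact isIntegral_trans (R := ℤ) c h3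

variable {p : ℕ} [Fact p.Prime] {M : Ideal AlgInt} [M.IsPrime]

/-- The sum of an orbit of `N`. -/
noncomputable def orbSum (R : Type*) [Semiring R] (N : Subgroup G) [Fintype N] (g : G) :
    MonoidAlgebra R G :=
  ∑ s ∈ (Finset.univ.image fun n : N => (n : G) * g * (n : G)⁻¹), single s (1 : R)

theorem coeff_orbSum {R : Type*} [Semiring R] (g x : G) :
    (orbSum R N g).coeff x = if ∃ n : N, (n : G) * g * (n : G)⁻¹ = x then 1 else 0 := by
  simp [orbSum, MonoidAlgebra.coeff_sum, Finsupp.single_apply]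

theorem fixed_orbSum {R : Type*} [Semiring R] (g : G) : Supplement.Fixed N (orbSum R N g) := by
  intro n x
  rw [coeff_orbSum, coeff_orbSum]
  refine if_congr ⟨fun ⟨m, hm⟩ => ⟨n⁻¹ * m, ?_⟩, fun ⟨m, hm⟩ => ⟨n * m, ?_⟩⟩ rfl rfl
  · calc ((n⁻¹ * m : N) : G) * g * ((n⁻¹ * m : N) : G)⁻¹
        = (n : G)⁻¹ * ((m : G) * g * (m : G)⁻¹) * n := by push_cast; group
      _ = x := by rw [hm]; group
  · calc ((n * m : N) : G) * g * ((n * m : N) : G)⁻¹
        = (n : G) * ((m : G) * g * (m : G)⁻¹) * (n : G)⁻¹ := by push_cast; group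
      _ = _ := by rw [hm]

/-- A fixed element is the combination of the orbit sums. -/
theorem fixed_eq_sum {R : Type*} [Semiring R] :
    ∃ O : Finset G, ∀ w : MonoidAlgebra R G, Supplement.Fixed N w →
      w = ∑ g ∈ O, single (1 : G) (w.coeff g) * orbSum R N g := by
  let pick : Finset G → G := fun S => if h : S.Nonempty then h.choose else 1
  let r : G → G := fun x => pick (Finset.univ.image fun n : N => (n : G) * x * (n : G)⁻¹)
  have hne : ∀ x, r x ∈ (Finset.univ.image fun n : N => (n : G) * x * (n : G)⁻¹) := fun x => by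
    have h : (Finset.univ.image fun n : N => (n : G) * x * (n : G)⁻¹).Nonempty :=
      ⟨_, Finset.mem_image_of_mem _ (Finset.mem_univ (1 : N))⟩
    simp only [r, pick, dif_pos h]
    exact h.choose_spec
  have hconst : ∀ (x : G) (n : N), r ((n : G) * x * (n : G)⁻¹) = r x := fun x n => by
    simp only [r]
    congr 1
    ext y
    simp only [Finset.mem_image, Finset.mem_univ, true_and]
    exact ⟨fun ⟨m, hm⟩ => ⟨m * n, by rw [← hm]; push_cast; group⟩,
      fun ⟨m, hm⟩ => ⟨m * n⁻¹, by rw [← hm]; push_cast; group⟩⟩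
  refine ⟨Finset.univ.image r, fun w hw => ?_⟩
  ext x
  simp only [MonoidAlgebra.coeff_sum, Finsupp.coe_finsetSum, Finset.sum_apply,
    coeff_single_mul_apply, inv_one, one_mul, coeff_orbSum]
  obtain ⟨n, -, hn⟩ := Finset.mem_image.1 (hne x)
  rw [Finset.sum_eq_single (r x)]
  · rw [if_pos ⟨n⁻¹, by rw [← hn]; push_cast; group⟩, mul_one, ← hn, hw n x]
  · intro g hg hgne
    have hno : ¬ ∃ m : N, (m : G) * g * (m : G)⁻¹ = x := by
      rintro ⟨m, hm⟩
      refine hgne ?_
      obtain ⟨y, -, rfl⟩ := Finset.mem_image.1 hg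
      obtain ⟨m', -, hm'⟩ := Finset.mem_image.1 (hne y)
      rw [← hm, hconst]
      conv_rhs => rw [← hm', hconst]
    rw [if_neg hno, mul_zero]
  · exact fun h => absurd (Finset.mem_image_of_mem r (Finset.mem_univ x)) h

/-- The reduced scalar of a lifted fixed element. -/
theorem exists_omegaFixed (ψ : IrrCharacter G) (θ : IrrCharacter N)
    (hext : ∀ n : N, (ψ : G → ℂ) n = (θ : N → ℂ) n) :
    ∃ ω : MonoidAlgebra (Residue M) G →ₗ[Residue M] Residue M,
      (∀ z w, Supplement.Fixed N z → Supplement.Fixed N w → ω (z * w) = ω z * ω w) ∧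
        ∀ w : MonoidAlgebra (localRing M) G, Supplement.Fixed N w →
          ∃ v : localRing M, (v : ℂ) = omega (ψ : G → ℂ) (toC M G w) ∧
            ω (toF M G w) = residue M v := by
  obtain ⟨O, hO⟩ := fixed_eq_sum (N := N) (R := localRing M)
  have hmapC : ∀ g, toC M G (orbSum (localRing M) N g) = orbSum ℂ N g := fun g => by
    simp [orbSum]
  have hc : ∀ g, omega (ψ : G → ℂ) (orbSum ℂ N g) ∈ localRing M := fun g =>
    isIntegral_mem_localRing ((omega_mul_of_fixed ψ θ hext (fixed_orbSum g)).2 fun x => by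
      rw [coeff_orbSum]
      split_ifs
      · exact isIntegral_one
      · exact isIntegral_zero)
  let ω : MonoidAlgebra (Residue M) G →ₗ[Residue M] Residue M :=
    { toFun := fun z => ∑ g ∈ O, z.coeff g * residue M ⟨_, hc g⟩
      map_add' := fun z w => by simp [add_mul, Finset.sum_add_distrib]
      map_smul' := fun a z => by simp [mul_assoc, Finset.mul_sum] }
  have hval : ∀ w : MonoidAlgebra (localRing M) G, Supplement.Fixed N w →
      ∃ v : localRing M, (v : ℂ) = omega (ψ : G → ℂ) (toC M G w) ∧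
        ω (toF M G w) = residue M v := fun w hw => by
    refine ⟨∑ g ∈ O, w.coeff g * ⟨_, hc g⟩, ?_, ?_⟩
    · conv_rhs => rw [hO w hw]
      simp only [map_sum, map_mul, hmapC, AddSubmonoidClass.coe_finsetSum, Subring.coe_mul]
      refine Finset.sum_congr rfl fun g _ => ?_
      rw [show toC M G (single (1 : G) (w.coeff g)) = (w.coeff g : ℂ) • (1 : MonoidAlgebra ℂ G) by
        simp [MonoidAlgebra.one_def, MonoidAlgebra.smul_single'], smul_mul_assoc, one_mul, map_smul,
        smul_eq_mul]
    · show ∑ g ∈ O, _ = _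
      rw [map_sum]
      exact Finset.sum_congr rfl fun g _ => by rw [map_mul, coeff_mapRingHom]
  refine ⟨ω, fun z w hz hw => ?_, hval⟩
  have hlift : ∀ y : MonoidAlgebra (Residue M) G, Supplement.Fixed N y →
      ∃ Y : MonoidAlgebra (localRing M) G, Supplement.Fixed N Y ∧ toF M G Y = y := fun y hy => by
    refine ⟨ofFun fun g => Function.surjInv (IsLocalRing.residue_surjective (R := localRing M))
      (y.coeff g), fun n g => ?_, ?_⟩
    · simp only [coeff_ofFun, hy n g]
    · ext g
      rw [coeff_mapRingHom, coeff_ofFun]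
      exact Function.surjInv_eq (IsLocalRing.residue_surjective (R := localRing M)) _
  obtain ⟨Z, hZ, rfl⟩ := hlift z hz
  obtain ⟨W, hW, rfl⟩ := hlift w hw
  obtain ⟨u, hu, hu'⟩ := hval Z hZ
  obtain ⟨v, hv, hv'⟩ := hval W hW
  obtain ⟨t, ht, ht'⟩ := hval (Z * W) (Supplement.fixed_mul N hZ hW)
  rw [← map_mul, hu', hv', ht', ← map_mul]
  congr 1
  refine Subtype.ext ?_
  rw [Subring.coe_mul, hu, hv, ht, map_mul]
  exact (omega_mul_of_fixed ψ θ hext (fun n g => by simp [hZ n g])).1 _

/-- Roots of unity of order prime to `p` lift uniquely. -/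
theorem exists_hom_lift {Q : Type*} [Group Q] [Finite Q] (hM : IsPModular p M)
    (f : Q →* Residue M) :
    ∃ L : Q →* ℂˣ, ∀ x, ∃ v : localRing M, (v : ℂ) = (L x : ℂ) ∧ residue M v = f x := by
  haveI := charP_residue hM
  have hp : p.Prime := Fact.out
  obtain ⟨a, m, hm, hcard⟩ := Nat.exists_eq_pow_mul_and_not_dvd (Nat.card_pos (α := Q)).ne' p
    hp.ne_one
  haveI : NeZero m := ⟨fun h => hm (h ▸ dvd_zero p)⟩
  let F : Q →* (Residue M)ˣ := f.toHomUnits
  have hF : ∀ x, F x ∈ rootsOfUnity m (Residue M) := fun x => by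
    rw [mem_rootsOfUnity, Units.ext_iff, Units.val_pow_eq_pow_val, Units.val_one]
    show f x ^ m = 1
    have h : f x ^ (p ^ a * m) = 1 := by rw [← hcard, ← map_pow, pow_card_eq_one', map_one]
    rw [mul_comm, pow_mul, ← sub_eq_zero, ← one_pow (p ^ a), ← sub_pow_char_pow,
      pow_eq_zero_iff (pow_ne_zero a hp.ne_zero), sub_eq_zero] at h
    exact h
  have hmem : ∀ ζ : rootsOfUnity m ℂ, ((ζ : ℂˣ) : ℂ) ∈ localRing M := fun ζ =>
    isIntegral_mem_localRing (IsIntegral.of_pow (NeZero.pos m) (by
      rw [← Units.val_pow_eq_pow_val, (mem_rootsOfUnity m _).1 ζ.2, Units.val_one]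
      exact isIntegral_one))
  let r₀ : rootsOfUnity m ℂ →* Residue M :=
    { toFun := fun ζ => residue M ⟨_, hmem ζ⟩
      map_one' := by rw [show (⟨_, hmem 1⟩ : localRing M) = 1 from Subtype.ext (by simp), map_one]
      map_mul' := fun ζ η => by
        rw [← map_mul]
        congr 1 }
  let r : rootsOfUnity m ℂ →* rootsOfUnity m (Residue M) :=
    (r₀.toHomUnits).codRestrict _ fun ζ => by
      rw [mem_rootsOfUnity, Units.ext_iff, Units.val_pow_eq_pow_val, Units.val_one]
      show r₀ ζ ^ m = 1
      rw [← map_pow, show ζ ^ m = 1 from Subtype.ext (by simpa using (mem_rootsOfUnity m _).1 ζ.2),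
        map_one]
  have hinj : Function.Injective r := (injective_iff_map_eq_one r).2 fun ζ hζ => by
    by_contra hne
    have h1 : r₀ ζ = 1 := congrArg (fun u : rootsOfUnity m (Residue M) => ((u : (Residue M)ˣ) : Residue M)) hζ
    set z : localRing M := ⟨_, hmem ζ⟩
    have hz1 : z - 1 ≠ 0 := fun h => hne (Subtype.ext (Units.ext
      (congrArg Subtype.val (sub_eq_zero.1 h) : ((ζ : ℂˣ) : ℂ) = 1)))
    have hzm : z ^ m = 1 := Subtype.ext (by
      push_cast
      rw [← Units.val_pow_eq_pow_val, (mem_rootsOfUnity m _).1 ζ.2, Units.val_one])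
    have hsum : ∑ i ∈ Finset.range m, z ^ i = 0 := by
      have := geom_sum_mul z m
      rw [hzm, sub_self, mul_eq_zero] at this
      exact this.resolve_right hz1
    have h2 := congrArg (residue M) hsum
    rw [map_sum, map_zero] at h2
    simp only [map_pow, show residue M z = 1 from h1, one_pow, Finset.sum_const, Finset.card_range,
      nsmul_one] at h2
    exact hm ((CharP.cast_eq_zero_iff (Residue M) p m).1 h2)
  have hbij : Function.Bijective r := (Nat.bijective_iff_injective_and_card r).2 ⟨hinj, by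
    refine le_antisymm (Nat.card_le_card_of_injective r hinj) ?_
    exact le_of_le_of_eq (card_rootsOfUnity (Residue M) m) (Complex.card_rootsOfUnity m).symm⟩
  let R := MulEquiv.ofBijective r hbij
  refine ⟨(rootsOfUnity m ℂ).subtype.comp (R.symm.toMonoidHom.comp (F.codRestrict _ hF)),
    fun x => ⟨⟨_, hmem (R.symm (F.codRestrict _ hF x))⟩, rfl, ?_⟩⟩
  have := congrArg (fun u : rootsOfUnity m (Residue M) => ((u : (Residue M)ˣ) : Residue M))
    (R.apply_symm_apply (F.codRestrict _ hF x))
  exact this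

end Cfsg.Agent.Lib.Contrib
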